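import Cfsg.Agent.UGT.A9.Marker
import Cfsg.Agent.UAlt.CaseDA
import Cfsg.Agent.UAlt.ModFive

/-!
# Marker components of centralizers: uniqueness and swapping (NodeA9, section 3)

* `OneComp K`: `C_K(t)` has at most one 2-component for every `t ∈ N(K)`, `t² = 1`.
* `mark_unique`: if the only `N`-component of `X` has `OneComp` then `C_X(s)` has at most one `N`-component.
* `two_marks`: if `N ≤ diag(K, a)` and `s` normalizes `K` then `C_X(s)` has two `N`-components `E`, `E^a`.
* `eq_diag_of_swap`: if `s` swaps `K` and `K^a` then `diag(K, s)` is the only `N`-component of `C_X(s)`.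
-/

set_option autoImplicit false
set_option linter.unusedSectionVars false

open Cfsg Subgroup
open Cfsg.Agent.SignalizersComponents Cfsg.Agent.Lib
open Cfsg.Agent.SignalizersComponents.IntrinsicBasic
open Cfsg.Agent.SignalizersComponents.IntrinsicIntr
open Cfsg.Agent.SignalizersComponents.PLayerAut
open Cfsg.Agent.Intrinsic.Basic Cfsg.Agent.Intrinsic.Cen Cfsg.Agent.Intrinsic.Diag
open Cfsg.Agent.McLLyComp.Act
open Cfsg.Agent.UGT.Triple Cfsg.Agent.UGT.LemG Cfsg.Agent.UGT.PumpGen
open Cfsg.Agent.UAlt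
open scoped commutatorElement

namespace Cfsg.Agent.UGT.A9.Marker

variable {G : Type*} [Group G]

/-- `C_K(t)` has at most one 2-component for every `t ∈ N(K)`, `t² = 1` -/
def OneComp (K : Subgroup G) : Prop :=
  ∀ t, t ∈ normalizer (K : Set G) → t * t = 1 → ∀ E E' : Subgroup G,
    IsComp (K ⊓ centralizer ({t} : Set G)) E → IsComp (K ⊓ centralizer ({t} : Set G)) E' → E = E'

variable [Finite G]

theorem OneComp.of_mod {α : Type*} [Fintype α] [DecidableEq α] {K : Subgroup G} {S : Finset α}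
    (M : Mod K S) : OneComp K := fun _ ht htt _ _ h h' =>
  ((M.isComp_iff_cmp ht htt).mp h).1.trans ((M.isComp_iff_cmp ht htt).mp h').1.symm

/-- an element of `X` centralizing `N ≤ K` normalizes `K` -/
theorem norm_of_comm {X K N : Subgroup G} (hN : Mkr N) (hK : IsComp X K) (hNK : N ≤ K) {g : G}
    (hgX : g ∈ X) (hgN : N ≤ centralizer ({g} : Set G)) : g ∈ normalizer (K : Set G) := by
  rw [mem_normalizer_iff_cj]
  refine eq_of_le hK hNK (mark_of_le hN (isComp_cj_of_mem hK hgX) ?_)
  intro n hn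
  rw [mem_cj]
  have h1 := mem_centralizer_singleton_iff.mp (hgN hn)
  have h2 : g⁻¹ * n * g = n := by rw [mul_assoc, h1]; group
  rw [h2]
  exact hNK hn

/-- an element of `X` normalizing `N ≤ K` normalizes `K` -/
theorem norm_of_norm {X K N : Subgroup G} (hN : Mkr N) (hK : IsComp X K) (hNK : N ≤ K) {g : G}
    (hgX : g ∈ X) (hgN : g ∈ normalizer (N : Set G)) : g ∈ normalizer (K : Set G) := by
  rw [mem_normalizer_iff_cj]
  refine eq_of_le hK hNK (mark_of_le hN (isComp_cj_of_mem hK hgX) ?_)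
  rw [← mem_normalizer_iff_cj.mp hgN]
  exact cj_mono hNK

section single

variable {X K N : Subgroup G} {s : G} (hsX : s ∈ X) (hs : s * s = 1)
  (hNX : N ≤ X ⊓ centralizer ({s} : Set G)) (hK : IsComp X K) (hNK : N ≤ K)

include hsX hs hNX hK hNK

theorem comp_of_mark {I : Subgroup G} (hI : IsMark (X ⊓ centralizer ({s} : Set G)) N I) :
    IsComp (K ⊓ centralizer ({s} : Set G)) I ∧ s ∈ normalizer (K : Set G) := by
  obtain ⟨J, hJ, h | h⟩ := hI.pump hsX hs hNX
  · have e := eq_of_le hK hNK hJ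
    subst e
    exact ⟨h.2.2, mem_normalizer_iff_cj.mpr h.1⟩
  · have e := eq_of_le hK hNK hJ
    subst e
    exact absurd (eq_of_le hK hNK h.2.1) h.1

theorem mark_unique (h1 : OneComp K) {I I' : Subgroup G}
    (hI : IsMark (X ⊓ centralizer ({s} : Set G)) N I)
    (hI' : IsMark (X ⊓ centralizer ({s} : Set G)) N I') : I = I' := by
  obtain ⟨h2, h3⟩ := comp_of_mark hsX hs hNX hK hNK hI
  obtain ⟨h4, -⟩ := comp_of_mark hsX hs hNX hK hNK hI'
  exact h1 s h3 hs I I' h2 h4

end single

section double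

variable {X K N : Subgroup G} {a s : G} (haX : a ∈ X) (ha : a * a = 1) (hne : cj a K ≠ K)
  (hsX : s ∈ X) (hs : s * s = 1) (hK : IsComp X K)

include haX ha hne hsX hs hK

theorem two_marks (has : a * s = s * a) (hNa : N ≤ centralizer ({a} : Set G))
    {E : Subgroup G} (hE : IsComp (K ⊓ centralizer ({s} : Set G)) E) (hNE : ¬ ∀ n ∈ N, Fixes n E) :
    IsMark (X ⊓ centralizer ({s} : Set G)) N E ∧
      IsMark (X ⊓ centralizer ({s} : Set G)) N (cj a E) ∧ cj a E ≠ E := by
  have h1 : IsMark (X ⊓ centralizer ({s} : Set G)) N E := mark_inf hK hE hNE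
  have haX' : a ∈ X ⊓ centralizer ({s} : Set G) := ⟨haX, mem_centralizer_singleton_iff.mpr has⟩
  refine ⟨h1, mark_cj h1 haX' hNa, fun h => ?_⟩
  apply hne
  have hEK : E ≤ K := hE.le.trans inf_le_left
  refine h1.1.unique (isComp_cj_of_mem hK haX) hK ?_ hEK
  rw [← h]
  exact cj_mono hEK

theorem eq_diag_of_swap (hNX : N ≤ X ⊓ centralizer ({s} : Set G)) (hNd : N ≤ diag X K a)
    (hsK : cj s K ≠ K) {I : Subgroup G} (hI : IsMark (X ⊓ centralizer ({s} : Set G)) N I) :
    I = diag X K s := by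
  have hss : ∀ J : Subgroup G, cj s (cj s J) = J := fun J => by
    rw [← cj_mul, hs, cj_one]
  have hor : ∀ J, IsMark X N J → J = K ∨ J = cj a K := fun J hJ =>
    eq_or_of_diag hK haX ha hne hNd hJ
  obtain ⟨J, hJ, h | h⟩ := hI.pump hsX hs hNX
  · exfalso
    rcases hor J hJ with rfl | rfl
    · exact hsK h.1
    · -- `cj s K` is one of `K`, `cj a K`
      have hKm : IsMark X N K := by
        have h2 := mark_cj hJ haX (hNd.trans ((exists_diag hK haX ha hne).1.le.trans inf_le_right))
        have h3 : cj a (cj a K) = K := by rw [← cj_mul, ha, cj_one]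
        rwa [h3] at h2
      have h4 := hor _ (mark_cj hKm hsX (hNX.trans inf_le_right))
      rcases h4 with h4 | h4
      · exact hsK h4
      · have h5 := h.1
        rw [← h4, hss] at h5
        exact hsK h5.symm
  · rcases hor J hJ with rfl | rfl
    · exact h.2.2
    · rcases hor _ h.2.1 with h4 | h4
      · rw [h.2.2, ← cj_diag_self hsX, h4]
      · exact absurd h4 h.1

end double

end Cfsg.Agent.UGT.A9.Marker
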