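import Cfsg.Agent.UGT.A9.LTwoFacts
import Cfsg.Agent.UGT.A9.MarkOne
import Cfsg.Agent.LieClassical.Order72

/-!
# L2-facts for node A9 : the 2-component of an involution of field type

* `field_comp`, `l2_field_comp` : `t` an involution of `N(J)`, not trivial on `J / O(J) = PSL(2,q)`, `E` a 2-component
  of `C_J(t)` : `E / O(E) = PSL(2,q₀)`, `q = q₀²`, `q₀ ≥ 5`;
* `l2_or_mul` : (F6) without the involution `f`;
* `oneComp` (F1) and `five` (F2), (F6) in the form of section 3.
-/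

set_option autoImplicit false

open Cfsg Subgroup
open Cfsg.Agent.Intrinsic.Basic Cfsg.Agent.Intrinsic.Diag Cfsg.Agent.Intrinsic.Cen
open Cfsg.Agent.SignalizersComponents Cfsg.Agent.Lib
open Cfsg.Agent.SignalizersComponents.IntrinsicBasic
open Cfsg.Agent.McLLyComp.Act
open Cfsg.Agent.UGT.Triple Cfsg.Agent.UGT.PumpGen
open Cfsg.Agent.UAlt Cfsg.Agent.UAlt.Supply
open Cfsg.Agent.GH.L2Aut
open Cfsg.Agent.UGT.Iface (Bar IsL2 IsAlt)
open scoped commutatorElement

namespace Cfsg.Agent.UGT.A9.LTwo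

theorem simple_core {C : Type*} [Group C] [Finite C] (hs : IsSimpleGroup C) (h2 : 2 ∣ Nat.card C) :
    oddCore C = ⊥ := by
  have hn : (oddCore C).Normal := Lib.Cores.pPrimeCore_normal 2
  rcases hn.eq_bot_or_eq_top with h | h
  · exact h
  · exfalso
    have h1 := Lib.Cores.pPrimeCore_coprime (G := C) 2
    have h3 : pPrimeCore 2 C = ⊤ := h
    rw [h3, Subgroup.card_top] at h1
    have h4 := Nat.Coprime.eq_one_of_dvd h1.symm h2
    norm_num at h4

/-- `E → C` onto with odd kernel, `C` simple of even order: `E / O(E) ≅ C` -/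
theorem quot_equiv {E C : Type*} [Group E] [Finite E] [Group C] [Finite C] (f : E →* C)
    (hf : Function.Surjective f) (hk : Odd (Nat.card f.ker)) (hC : IsSimpleGroup C)
    (h2 : 2 ∣ Nat.card C) : Nonempty ((E ⧸ oddCore E) ≃* C) := by
  have h1 := ClassificationK.PCompTransport.comap_pPrimeCore 2 f (Nat.coprime_two_right.mpr hk)
    (by rw [MonoidHom.range_eq_top.mpr hf]; exact IsSubnormal.top)
  have h3 : f.ker = oddCore E := by
    have h4 : pPrimeCore 2 C = ⊥ := simple_core hC h2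
    rw [h4] at h1
    exact h1
  exact ⟨(QuotientGroup.quotientMulEquivOfEq h3.symm).trans
    (QuotientGroup.quotientKerEquivOfSurjective f hf)⟩

section group

variable {G : Type*} [Group G] [Finite G] {F : Type*} [Field F] [Finite F]

/-- **the 2-component of an involution of field type** -/
theorem exists_comp_equiv {J : Subgroup G} (R : Cfsg.Agent.GH.L2Aut.Rep F (↥J ⧸ oddCore ↥J)) {g : G}
    (hg : g ∈ normalizer (J : Set G)) (hgg : g * g = 1) {R' : Cfsg.Agent.GH.L2Aut.Rep F (↥J ⧸ oddCore ↥J)}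
    {σ : F ≃+* F} (h1 : act J ⟨g, hg⟩ = R'.fa σ) (h2 : orderOf σ = 2) {K : Subfield F}
    (hK : ∀ a, a ∈ K ↔ σ a = a) (hcard : Nat.card F = Nat.card K ^ orderOf σ)
    (hK3 : 3 < Nat.card K) : ∃ E, IsComp (J ⊓ centralizer ({g} : Set G)) E ∧
      Nonempty ((↥E ⧸ oddCore ↥E) ≃* R'.sub K) := by
  have hfinL := R.finite
  have hm : Even (orderOf σ) := by rw [h2]; exact even_two
  obtain ⟨C, hC⟩ : ∃ C, C = (R'.sub K).subgroupOf (fixSub (act J ⟨g, hg⟩)) := ⟨_, rfl⟩
  have hle : R'.sub K ≤ fixSub (act J ⟨g, hg⟩) := by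
    rw [h1]
    exact R'.sub_le_fix hK
  have hn : C.Normal := by
    have h3 := sub_normal R' hm hK hcard
    rw [hC]
    revert h3
    rw [h1]
    exact id
  have hsim : IsSimpleGroup (R'.sub K) := simple_rep (R'.subRep K) hK3
  have h2K : 2 ∣ Nat.card (R'.sub K) := two_dvd_rep (R'.subRep K)
  have hcomp : IsComponent C := by
    rw [hC] at hn ⊢
    exact Mod.isComponent_subgroupOf hle hn.isSubnormal hsim (not_comm_rep (R'.subRep K))
  have h2C : 2 ∣ Nat.card C := by
    rw [hC, Nat.card_congr (subgroupOfEquivOfLe hle).toEquiv]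
    exact h2K
  obtain ⟨h3, h4⟩ := IntrinsicLift.lift_component (homC hg) (homC_surjective hg hgg) (odd_ker hg)
    hcomp h2C
  obtain ⟨P, hP⟩ : ∃ P, P = PComponents.pElem 2 (C.comap (homC hg)) := ⟨_, rfl⟩
  rw [← hP] at h3 h4
  refine ⟨P.map (J ⊓ centralizer ({g} : Set G)).subtype, isComp_of_subtype h3, ?_⟩
  -- the map onto `sub K`
  have hmem : ∀ x ∈ P, (homC hg x : ↥J ⧸ oddCore ↥J) ∈ R'.sub K := by
    intro x hx
    have h5 : homC hg x ∈ C := by rw [← h4]; exact ⟨x, hx, rfl⟩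
    rw [hC] at h5
    exact h5
  let f : ↥P →* ↥(R'.sub K) :=
    (((fixSub (act J ⟨g, hg⟩)).subtype.comp (homC hg)).comp P.subtype).codRestrict (R'.sub K)
      (fun x => hmem x x.2)
  have hfc : ∀ x : ↥P, ((f x : ↥(R'.sub K)) : ↥J ⧸ oddCore ↥J) = homC hg x := fun x => rfl
  have hfs : Function.Surjective f := by
    rintro ⟨y, hy⟩
    have h5 : (⟨y, hle hy⟩ : ↥(fixSub (act J ⟨g, hg⟩))) ∈ C := by rw [hC]; exact hy
    rw [← h4] at h5
    obtain ⟨x, hx, hxy⟩ := h5
    refine ⟨⟨x, hx⟩, Subtype.ext ?_⟩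
    have h6 := congrArg Subtype.val hxy
    exact h6
  have hfk : Odd (Nat.card f.ker) := by
    have h5 : f.ker.map P.subtype ≤ (homC hg).ker := by
      rintro _ ⟨x, hx, rfl⟩
      have h6 : f x = 1 := hx
      have h7 : ((f x : ↥(R'.sub K)) : ↥J ⧸ oddCore ↥J) = 1 := by rw [h6]; rfl
      rw [hfc] at h7
      exact Subtype.ext h7
    have h6 := Subgroup.card_dvd_of_le h5
    rw [Subgroup.card_map_of_injective P.subtype_injective] at h6
    obtain ⟨m, hm⟩ := h6
    have h7 := odd_ker hg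
    rw [hm] at h7
    exact (Nat.odd_mul.mp h7).1
  obtain ⟨e⟩ := quot_equiv f hfs hfk hsim h2K
  let e₁ : ↥P ≃* ↥(P.map (J ⊓ centralizer ({g} : Set G)).subtype) :=
    P.equivMapOfInjective _ (J ⊓ centralizer ({g} : Set G)).subtype_injective
  exact ⟨(QuotientGroup.congr (oddCore ↥P) (oddCore _) e₁ (Cores.map_equiv_pPrimeCore e₁ 2)).symm.trans e⟩

/-- **the 2-component of an involution of field type** -/
theorem field_comp {J : Subgroup G} (R : Cfsg.Agent.GH.L2Aut.Rep F (↥J ⧸ oddCore ↥J)) {g : G}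
    (hg : g ∈ normalizer (J : Set G)) (hgg : g * g = 1) (hnf : ¬ Fixes g J) {E : Subgroup G}
    (hE : IsComp (J ⊓ centralizer ({g} : Set G)) E) :
    act J ⟨g, hg⟩ ∉ R.PGL ∧ ∃ K : Subfield F, 5 ≤ Nat.card K ∧ Odd (Nat.card K) ∧
      Nat.card F = Nat.card K ^ 2 ∧
      Nonempty ((↥E ⧸ oddCore ↥E) ≃* Matrix.ProjectiveSpecialLinearGroup (Fin 2) K) := by
  have hfinL := R.finite
  have hP : act J ⟨g, hg⟩ ∉ R.PGL := fun hP =>
    hnf (fixes_of_pgl R hE (hE.le.trans inf_le_left) hgg hg hP fun y hy =>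
      (mem_centralizer_singleton_iff.mp (hE.le hy).2).symm)
  refine ⟨hP, ?_⟩
  have hα : act J ⟨g, hg⟩ * act J ⟨g, hg⟩ = 1 := by
    rw [← act_mul, act_congr (mul_mem hg hg) hgg]
    exact map_one _
  obtain ⟨R', -, -, h1, h2⟩ := R.ftype_rep hP hα
  obtain ⟨σ, hσ⟩ : ∃ σ, σ = R.fld (act J ⟨g, hg⟩) := ⟨_, rfl⟩
  rw [← hσ] at h1 h2
  obtain ⟨K, hK, hcard⟩ := exists_fixed_field σ
  have hodd := odd_card (two_sub R.two K)
  have h1K : 1 < Nat.card K := Finite.one_lt_card
  by_cases hK3 : 3 < Nat.card K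
  · obtain ⟨E', hE', ⟨e⟩⟩ := exists_comp_equiv R hg hgg h1 h2 hK hcard hK3
    have hEE : E = E' := comp_unique' R inf_le_left hE hE'
    subst hEE
    refine ⟨K, ?_, hodd, by rw [hcard, h2], ⟨e.trans (toPSL (R'.subRep K))⟩⟩
    obtain ⟨m, hm⟩ := hodd
    omega
  · exfalso
    have hm : Even (orderOf σ) := by rw [h2]; exact even_two
    have hK3' : Nat.card K = 3 := by
      obtain ⟨m, hm⟩ := hodd
      omega
    have h3 := R'.card_fix hm hK hcard
    rw [hK3', ← h1] at h3
    obtain ⟨D, hD1, hD2, hD3⟩ := exists_perf (hE.le.trans inf_le_left) hE.perfect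
      (fun h => hE.not_odd (odd_card_core J) h) hg
      (fun y hy => (mem_centralizer_singleton_iff.mp (hE.le hy).2).symm)
    have h4 : D ≤ fixSub (act J ⟨g, hg⟩) := fun d hd => hD3 d hd
    have h5 := Subgroup.card_dvd_of_le h4
    rw [h3] at h5
    have h6 : Group.IsSolvable D := LieClassical.Order72.isSolvable_of_card_dvd
      (h5.trans (by norm_num))
    have h7 : Nontrivial D := (Subgroup.nontrivial_iff_ne_bot D).mpr hD2
    have h8 := Group.IsSolvable.commutator_lt_top_of_nontrivial D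
    have h9 : commutator ↥D = ⊤ := by
      apply Subgroup.map_injective D.subtype_injective
      rw [commutator_def, Subgroup.map_commutator, ← MonoidHom.range_eq_map, range_subtype, hD1]
    exact absurd h9 h8.ne

/-- **(F6)** without `f` -/
theorem fixes_or_of_field {J : Subgroup G} (R : Cfsg.Agent.GH.L2Aut.Rep F (↥J ⧸ oddCore ↥J)) {s t : G}
    (hs : s ∈ normalizer (J : Set G)) (hss : s * s = 1) (hns : ¬ Fixes s J) {E : Subgroup G}
    (hE : IsComp (J ⊓ centralizer ({s} : Set G)) E) (ht : t ∈ normalizer (J : Set G))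
    (htt : t * t = 1) (hts : t * s = s * t) (hf : Fixes t E) : Fixes t J ∨ Fixes (s * t) J := by
  -- `E` is a 2-component of `N(J) ∩ C(s)`
  have hE' : IsComp (normalizer (J : Set G) ⊓ centralizer ({s} : Set G)) E := by
    refine hE.extend (inf_le_inf_right _ le_normalizer) ?_
    have h1 : ((J ⊓ centralizer ({s} : Set G)).subgroupOf
        (normalizer (J : Set G) ⊓ centralizer ({s} : Set G))).Normal := by
      refine ⟨fun y hy g => ?_⟩
      rw [mem_subgroupOf] at hy ⊢
      exact ⟨(mem_normalizer_iff.mp g.2.1 _).mp hy.1, (centralizer ({s} : Set G)).mul_mem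
        ((centralizer ({s} : Set G)).mul_mem g.2.2 hy.2) ((centralizer ({s} : Set G)).inv_mem g.2.2)⟩
    exact h1.isSubnormal
  obtain ⟨h1, -⟩ := isComp_cen hE' ⟨ht, mem_centralizer_singleton_iff.mpr hts⟩ htt hf
  have hle : cen E t ≤ J := (cen_le E t).trans (hE.le.trans inf_le_left)
  have hcs : ∀ y ∈ cen E t, s * y = y * s := fun y hy =>
    (mem_centralizer_singleton_iff.mp (hE.le (cen_le E t hy)).2).symm
  have hct : ∀ y ∈ cen E t, t * y = y * t := fun y hy => (comm_of_mem_cen hy).symm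
  have hst : (s * t) * (s * t) = 1 := by
    calc (s * t) * (s * t) = s * (t * s) * t := by group
      _ = (s * s) * (t * t) := by rw [hts]; group
      _ = 1 := by rw [hss, htt, one_mul]
  by_cases hP : act J ⟨t, ht⟩ ∈ R.PGL
  · exact Or.inl (fixes_of_pgl R h1 hle htt ht hP hct)
  · right
    have hPs := (field_comp R hs hss hns hE).1
    refine fixes_of_pgl R h1 hle hst (mul_mem hs ht) ?_ (fun y hy => ?_)
    · rw [act_mul hs ht]
      refine mul_mem_pgl R ?_ ?_ hPs hP
      · rw [← act_mul, act_congr (mul_mem hs hs) hss]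
        exact map_one _
      · rw [← act_mul, act_congr (mul_mem ht ht) htt]
        exact map_one _
    · rw [mul_assoc, hct y hy, ← mul_assoc, hcs y hy, mul_assoc]

end group

section facts

universe u

variable {G : Type u} [Group G] [Finite G] {J : Subgroup G}

/-- **the 2-component of an involution of field type** -/
theorem l2_field_comp (hL : IsL2 (Bar J)) {t : G} (ht : t ∈ normalizer (J : Set G)) (htt : t * t = 1)
    (hnf : ¬ Fixes t J) {E : Subgroup G} (hE : IsComp (J ⊓ centralizer ({t} : Set G)) E) :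
    ∃ (K : Type) (_ : Field K) (_ : Fintype K), Odd (Fintype.card K) ∧ 5 ≤ Fintype.card K ∧
      Nonempty (Bar E ≃* Matrix.ProjectiveSpecialLinearGroup (Fin 2) K) ∧
      2 * Nat.card (Bar E) = Fintype.card K * (Fintype.card K ^ 2 - 1) ∧
      2 * Nat.card (Bar J) = Fintype.card K ^ 2 * ((Fintype.card K ^ 2) ^ 2 - 1) := by
  obtain ⟨F, _, _, ⟨R⟩⟩ := exists_rep hL
  obtain ⟨-, K, h5, hodd, hcard, ⟨e⟩⟩ := field_comp R ht htt hnf hE
  have hfin : Fintype K := Fintype.ofFinite K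
  rw [Nat.card_eq_fintype_card (α := K)] at h5 hodd hcard
  refine ⟨K, inferInstance, hfin, hodd, h5, ⟨e⟩, ?_, ?_⟩
  · have h1 := (Cfsg.Agent.GH.L2Aut.Rep.ofEquiv (two_sub R.two K) e).card_mul_two
    rw [Nat.card_eq_fintype_card (α := K)] at h1
    rw [mul_comm]
    exact h1
  · have h1 := R.card_mul_two
    rw [hcard] at h1
    rw [mul_comm]
    exact h1

/-- the 2-component of `C_J(t)` is of type `L2` -/
theorem l2_comp_l2 (hL : IsL2 (Bar J)) {t : G} (ht : t ∈ normalizer (J : Set G)) (htt : t * t = 1)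
    (hnf : ¬ Fixes t J) {E : Subgroup G} (hE : IsComp (J ⊓ centralizer ({t} : Set G)) E) :
    IsL2 (Bar E) := by
  obtain ⟨K, _, _, hodd, h5, he, -⟩ := l2_field_comp hL ht htt hnf hE
  exact ⟨K, inferInstance, inferInstance, hodd, h5, he⟩

/-- **(F6)** -/
theorem l2_fixes_or' (hL : IsL2 (Bar J)) {s t : G} (hs : s ∈ normalizer (J : Set G)) (hss : s * s = 1)
    (hns : ¬ Fixes s J) {E : Subgroup G} (hE : IsComp (J ⊓ centralizer ({s} : Set G)) E)
    (ht : t ∈ normalizer (J : Set G)) (htt : t * t = 1) (hts : t * s = s * t) (hf : Fixes t E) :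
    Fixes t J ∨ Fixes (s * t) J := by
  obtain ⟨F, _, _, ⟨R⟩⟩ := exists_rep hL
  exact fixes_or_of_field R hs hss hns hE ht htt hts hf

/-- **(F1)** -/
theorem oneComp (hL : IsL2 (Bar J)) : Marker.OneComp J := fun _ _ _ _ _ h h' =>
  l2_comp_unique hL h h'

/-- **(F2), (F6)** -/
theorem five (hL : IsL2 (Bar J)) {s : G} (hs : s ∈ normalizer (J : Set G)) (hss : s * s = 1)
    (hns : ¬ Fixes s J) {E : Subgroup G} (hE : IsComp (J ⊓ centralizer ({s} : Set G)) E)
    (hE5 : IsAlt 5 (Bar E)) : Nat.card (Bar J) = 7800 ∧ ∀ t ∈ normalizer (J : Set G), t * t = 1 →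
      t * s = s * t → Fixes t E → Fixes t J ∨ Fixes (s * t) J := by
  refine ⟨?_, fun t ht htt hts hf => l2_fixes_or' hL hs hss hns hE ht htt hts hf⟩
  obtain ⟨K, _, _, hodd, h5, -, h1, h2⟩ := l2_field_comp hL hs hss hns hE
  have h60 : Nat.card (Bar E) = 60 := by
    obtain ⟨e⟩ := hE5
    rw [Nat.card_congr e.toEquiv]
    have h3 := two_mul_nat_card_alternatingGroup (α := Fin 5)
    rw [Nat.card_perm, Nat.card_eq_fintype_card (α := Fin 5), Fintype.card_fin] at h3
    have h4 : Nat.factorial 5 = 120 := by decide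
    omega
  rw [h60] at h1
  have hK : Fintype.card K = 5 := by
    by_contra hne
    have h6 : 6 ≤ Fintype.card K := by omega
    have h7 : 6 ^ 2 ≤ Fintype.card K ^ 2 := Nat.pow_le_pow_left h6 2
    have h8 : 6 * 35 ≤ Fintype.card K * (Fintype.card K ^ 2 - 1) := Nat.mul_le_mul h6 (by omega)
    omega
  rw [hK] at h2
  norm_num at h2
  omega

end facts

end Cfsg.Agent.UGT.A9.LTwo
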