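import Cfsg.Agent.UGT.A9.CfgTo
import Cfsg.Agent.UGT.A9.LTwoFive

/-!
# NodeA9, (3.1): the final form

* `Cfg.bad_false`: if `a` normalizes the pump-up `K` of `C_L(r)^∞` then `K` is of type `A₅` or `A₇`.
* `exists_root`: every triple of type `A₉` has a root `r` commuting with `x` whose pump-up is of type `A₅` or `A₇`
  (single) or is diagonal.
-/

set_option autoImplicit false
set_option linter.unusedSectionVars false

open Cfsg Subgroup Equiv Equiv.Perm
open Cfsg.Agent.SignalizersComponents Cfsg.Agent.Lib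
open Cfsg.Agent.SignalizersComponents.IntrinsicBasic
open Cfsg.Agent.Intrinsic.Basic Cfsg.Agent.Intrinsic.Cen Cfsg.Agent.Intrinsic.Diag
open Cfsg.Agent.McLLyComp.Act
open Cfsg.Agent.UGT.Triple Cfsg.Agent.UGT.LemG Cfsg.Agent.UGT.PumpGen Cfsg.Agent.UGT.RedAlt
open Cfsg.Agent.UAlt Cfsg.Agent.UGT.Iface Cfsg.Agent.UGT.A9.Marker
open Cfsg.Agent.StdAlt.Roots (IsRoot)
open scoped commutatorElement

namespace Cfsg.Agent.UGT.A9

universe u
variable {G : Type u} [Group G] [Finite G] {α : Type*} [Fintype α] [DecidableEq α]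

theorem f1 : F1 G := fun _ h => LTwo.oneComp h

theorem f26 : F26 G := fun _ hK _ hs hss hns _ hE hE5 => LTwo.five hK hs hss hns hE hE5

namespace Cfg

variable {x a b c v d : G} {L N : Subgroup G} {S : Finset α} {M : Mod L S}

/-- the pump-up is unique -/
theorem pk_of_sgl (h : Cfg x a M b c v d N) {K : Subgroup G} (hS : Dg.Sgl M a (b * c) K) :
    PK x a d (b * c) (M.cmp (b * c)) K := by
  obtain ⟨K', hK'⟩ := h.exists_Kr
  have hNK : N ≤ K := h.N_le_r.trans hS.le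
  have e : K = K' := by
    rcases hK'.or with ⟨h1, h2⟩ | ⟨h1, h2⟩
    · exact eq_of_le hK'.T.comp (h.N_le_r.trans h2) (mark_of_le h.mkr hS.comp hNK)
    · exfalso
      have haX : a ∈ centralizer ({b * c} : Set G) := mem_c h.ar
      rcases eq_or_of_diag hK'.T.comp haX h.aa h1 (h2 ▸ h.N_le_r)
        (mark_of_le h.mkr hS.comp hNK) with h3 | h3
      · exact h1 (h3 ▸ mem_normalizer_iff_cj.mp hS.norm)
      · have h4 := mem_normalizer_iff_cj.mp hS.norm
        rw [h3, ← cj_mul, h.aa, cj_one] at h4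
        exact h1 h4.symm
  rw [e]
  exact hK'

/-- `a` fixes `K`: type `A₅` -/
theorem five_of_fixes (h : Cfg x a M b c v d N) {K : Subgroup G}
    (hK : PK x a d (b * c) (M.cmp (b * c)) K) (haf : Fixes a K) : AltType K 5 := by
  have hE := h.comp_Ka hK haf.1
  have h8 := comp_cen_eq hK.T.comp (mem_c h.ar) h.aa haf hE
  obtain ⟨-, h9⟩ := isComp_cen hK.T.comp (mem_c h.ar) h.aa haf
  obtain ⟨e, -⟩ := exists_quotEquiv h9
  obtain ⟨f⟩ := h.isAlt_cmp_r
  rw [h8] at f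
  exact ⟨e.symm.trans f⟩

/-- **(3.1)** -/
theorem bad_false (h : Cfg x a M b c v d N) (W : W9 G) {K : Subgroup G} (hS : Dg.Sgl M a (b * c) K)
    (h5 : ¬ AltType K 5) (h7 : ¬ AltType K 7) : False := by
  have hK := h.pk_of_sgl hS
  by_cases haf : Fixes a K
  · exact h5 (h.five_of_fixes hK haf)
  rcases W _ _ _ hK.T with h1 | h1 | h1
  · exact h.bad_L2 W f1 f26 hK hS.norm haf h1
  · exact h7 h1
  · exact h.bad_A9 W f1 hK hS.norm haf h1

end Cfg

theorem isRoot_of_card {S : Finset α} {σ : Perm α} (hσ : σ ∈ sym S) (hσσ : σ * σ = 1)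
    (h : (fixIn S σ).card + 4 = S.card) : IsRoot σ := by
  have h1 : σ.support = S \ fixIn S σ := by
    ext i
    rw [Perm.mem_support, Finset.mem_sdiff, mem_fixIn, not_and]
    refine ⟨fun h => ⟨?_, fun _ => h⟩, fun h => h.2 h.1⟩
    by_contra hi
    exact h (hσ i hi)
  refine ⟨hσσ, ?_⟩
  rw [h1, Finset.card_sdiff_of_subset fun i hi => (mem_fixIn.mp hi).1]
  omega

/-- **(3.1), final form, with the configurations** -/
theorem exists_root_cfg (W : W9 G) {x a : G} {L : Subgroup G} {S : Finset α} (T : IsTriple x a L)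
    (M : Mod L S) (h9 : S.card = 9) :
    ∃ r2 r3 b3 b4 v d : G, ∃ i4 i5 i6 i7 i8 i9 : α, ∃ K : Subgroup G,
      Dg.Cfg x a M r2 r3 b3 b4 (b3 * b4) i4 i5 i6 i7 i8 i9 ∧
      Cfg x a M b3 b4 v d (M.cmpT (Dg.UU a b3 b4)) ∧ M.Rt (b3 * b4) ∧
      IsTriple x (b3 * b4) K ∧
      ((Dg.Sgl M a (b3 * b4) K ∧ (AltType K 5 ∨ AltType K 7)) ∨ Dg.Dbl M a (b3 * b4) K) := by
  obtain ⟨r2, r3, b3, b4, v, d, i4, i5, i6, i7, i8, i9, H, h⟩ := exists_both T M h9
  obtain ⟨K, hK⟩ := h.exists_Kr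
  refine ⟨r2, r3, b3, b4, v, d, i4, i5, i6, i7, i8, i9, K, H, h, ⟨h.rL, h.rr, ?_⟩, hK.T, ?_⟩
  · exact isRoot_of_card (M.mem_sym _ (le_normalizer h.rL)) (M.sq (le_normalizer h.rL) h.rr)
      (by rw [h.fix_facts.2.2.1, h9])
  · rcases hK.or with ⟨h1, h2⟩ | ⟨h1, h2⟩
    · left
      have hS : Dg.Sgl M a (b3 * b4) K := ⟨hK.T.comp, h1, h2⟩
      refine ⟨hS, ?_⟩
      by_contra hcon
      rw [not_or] at hcon
      exact h.bad_false W hS hcon.1 hcon.2
    · exact Or.inr ⟨hK.T.comp, h1, h2⟩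

theorem exists_root (W : W9 G) {x a : G} {L : Subgroup G} {S : Finset α} (T : IsTriple x a L)
    (M : Mod L S) (h9 : S.card = 9) : ∃ (r : G) (K : Subgroup G), M.Rt r ∧ r * x = x * r ∧
      IsTriple x r K ∧ ((Dg.Sgl M a r K ∧ (AltType K 5 ∨ AltType K 7)) ∨ Dg.Dbl M a r K) := by
  obtain ⟨r2, r3, b3, b4, v, d, i4, i5, i6, i7, i8, i9, K, H, -, h1, h2, h3⟩ := exists_root_cfg W T M h9
  exact ⟨b3 * b4, K, h1, H.comm H.mr H.mx, h2, h3⟩

end Cfsg.Agent.UGT.A9
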