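import Cfsg.Agent.UGT.A9.DgSeven
import Cfsg.Agent.UAlt.Case0

/-!
# NodeA9, (3.2): `diag9`

* `exists_cfg9`: the configuration exists for each triple of type `A₉`.
* `Dbl.conj`: conjugation in `L`.
* `diag9`: if `K_u ≠ K_u^a` for some root `u` of `L` there is another triple `(x, k, F)` of type `A₉` such that
  `K_u = K_u^k` for all roots `u` of `F`.
-/

set_option autoImplicit false
set_option linter.unusedSectionVars false

open Cfsg Subgroup Equiv Equiv.Perm
open Cfsg.Agent.SignalizersComponents Cfsg.Agent.Lib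
open Cfsg.Agent.SignalizersComponents.IntrinsicBasic
open Cfsg.Agent.SignalizersComponents.IntrinsicIntr
open Cfsg.Agent.SignalizersComponents.PLayerAut
open Cfsg.Agent.Intrinsic Cfsg.Agent.Intrinsic.Basic Cfsg.Agent.Intrinsic.Cen Cfsg.Agent.Intrinsic.Diag
open Cfsg.Agent.McLLyComp.Act
open Cfsg.Agent.UGT.Triple Cfsg.Agent.UGT.LemG Cfsg.Agent.UGT.PumpGen Cfsg.Agent.UGT.RedAlt
open Cfsg.Agent.UAlt Cfsg.Agent.UGT.Iface Cfsg.Agent.UGT.A9.Marker
open Cfsg.Agent.StdAlt.Roots (IsRoot)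
open scoped commutatorElement

namespace Cfsg.Agent.UGT.A9.Dg

universe u

/-- an involution on 9 points with three fixed points -/
theorem exists_six {α : Type*} [Fintype α] [DecidableEq α] {S : Finset α} {σ : Perm α}
    (hσS : σ ∈ sym S) (hσσ : σ * σ = 1) (h3 : (fixIn S σ).card = 3) (h9 : S.card = 9) :
    ∃ i4 i5 i6 i7 i8 i9 : α, [i4, i5, i6, i7, i8, i9].Nodup ∧ i4 ∈ S ∧ i5 ∈ S ∧ i6 ∈ S ∧ i7 ∈ S ∧
      i8 ∈ S ∧ i9 ∈ S ∧ σ = swap i4 i5 * swap i6 i7 * swap i8 i9 := by
  have hσ' : ∀ j, σ (σ j) = j := fun j => by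
    have := congrArg (fun f : Perm α => f j) hσσ
    simpa using this
  have hne : ∀ {i}, i ∉ fixIn S σ → i ∈ S → σ i ≠ i := fun hi hS h => hi (mem_fixIn.mpr ⟨hS, h⟩)
  have hmS : ∀ {i}, i ∈ S → σ i ∈ S := fun hi => mem_of_mem_sym hσS hi
  have hmF : ∀ {i}, i ∉ fixIn S σ → σ i ∉ fixIn S σ := fun {i} hi h => by
    have h1 := mem_fixIn.mp h
    rw [hσ'] at h1
    exact hi (mem_fixIn.mpr ⟨by rw [h1.2]; exact h1.1, h1.2.symm⟩)
  obtain ⟨i4, h4S, h4F⟩ := Finset.exists_mem_notMem_of_card_lt_card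
    (show (fixIn S σ).card < S.card by omega)
  obtain ⟨i6, h6S, h6F⟩ := Finset.exists_mem_notMem_of_card_lt_card
    (show (insert i4 (insert (σ i4) (fixIn S σ))).card < S.card by
      have h1 := Finset.card_insert_le i4 (insert (σ i4) (fixIn S σ))
      have h2 := Finset.card_insert_le (σ i4) (fixIn S σ)
      omega)
  simp only [Finset.mem_insert, not_or] at h6F
  obtain ⟨h64, h6s4, h6F⟩ := h6F
  obtain ⟨i8, h8S, h8F⟩ := Finset.exists_mem_notMem_of_card_lt_card
    (show (insert i4 (insert (σ i4) (insert i6 (insert (σ i6) (fixIn S σ))))).card < S.card by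
      have h1 := Finset.card_insert_le i4 (insert (σ i4) (insert i6 (insert (σ i6) (fixIn S σ))))
      have h2 := Finset.card_insert_le (σ i4) (insert i6 (insert (σ i6) (fixIn S σ)))
      have h3 := Finset.card_insert_le i6 (insert (σ i6) (fixIn S σ))
      have h4 := Finset.card_insert_le (σ i6) (fixIn S σ)
      omega)
  simp only [Finset.mem_insert, not_or] at h8F
  obtain ⟨h84, h8s4, h86, h8s6, h8F⟩ := h8F
  have n4 := hne h4F h4S
  have n6 := hne h6F h6S
  have n8 := hne h8F h8S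
  -- the images are different
  have e1 : σ i6 ≠ i4 := fun e => h6s4 (by rw [← e, hσ'])
  have e2 : σ i6 ≠ σ i4 := fun e => h64 (σ.injective e)
  have e3 : σ i8 ≠ i4 := fun e => h8s4 (by rw [← e, hσ'])
  have e4 : σ i8 ≠ σ i4 := fun e => h84 (σ.injective e)
  have e5 : σ i8 ≠ i6 := fun e => h8s6 (by rw [← e, hσ'])
  have e6 : σ i8 ≠ σ i6 := fun e => h86 (σ.injective e)
  have hnd : [i4, σ i4, i6, σ i6, i8, σ i8].Nodup := by
    simp only [List.nodup_cons, List.mem_cons, List.not_mem_nil, or_false, not_or, not_false_eq_true,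
      List.nodup_nil, and_true]
    exact ⟨⟨Ne.symm n4, Ne.symm h64, Ne.symm e1, Ne.symm h84, Ne.symm e3⟩,
      ⟨Ne.symm h6s4, Ne.symm e2, Ne.symm h8s4, Ne.symm e4⟩, ⟨Ne.symm n6, Ne.symm h86, Ne.symm e5⟩,
      ⟨Ne.symm h8s6, Ne.symm e6⟩, Ne.symm n8⟩
  refine ⟨i4, σ i4, i6, σ i6, i8, σ i8, hnd, h4S, hmS h4S, h6S, hmS h6S, h8S, hmS h8S, ?_⟩
  -- the other points are fixed
  have hcov : S = {i4, σ i4, i6, σ i6, i8, σ i8} ∪ fixIn S σ := by
    symm
    apply Finset.eq_of_subset_of_card_le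
    · intro i hi
      rcases Finset.mem_union.mp hi with hi | hi
      · simp only [Finset.mem_insert, Finset.mem_singleton] at hi
        rcases hi with rfl | rfl | rfl | rfl | rfl | rfl
        · exact h4S
        · exact hmS h4S
        · exact h6S
        · exact hmS h6S
        · exact h8S
        · exact hmS h8S
      · exact fixIn_subset _ _ hi
    · have hc6 : ({i4, σ i4, i6, σ i6, i8, σ i8} : Finset α).card = 6 := by
        have h := List.toFinset_card_of_nodup hnd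
        have h' : ([i4, σ i4, i6, σ i6, i8, σ i8] : List α).toFinset =
            {i4, σ i4, i6, σ i6, i8, σ i8} := by
          ext i; simp
        rw [h'] at h
        simpa using h
      rw [Finset.card_union_of_disjoint, hc6, h3, h9]
      rw [Finset.disjoint_left]
      intro i hi hif
      simp only [Finset.mem_insert, Finset.mem_singleton] at hi
      rcases hi with rfl | rfl | rfl | rfl | rfl | rfl
      · exact h4F hif
      · exact hmF h4F hif
      · exact h6F hif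
      · exact hmF h6F hif
      · exact h8F hif
      · exact hmF h8F hif
  ext i
  rw [Perm.mul_apply, Perm.mul_apply]
  by_cases hi : i ∈ ({i4, σ i4, i6, σ i6, i8, σ i8} : Finset α)
  · simp only [Finset.mem_insert, Finset.mem_singleton] at hi
    rcases hi with rfl | rfl | rfl | rfl | rfl | rfl
    · rw [swap_apply_of_ne_of_ne (Ne.symm h84) (Ne.symm e3),
        swap_apply_of_ne_of_ne (Ne.symm h64) (Ne.symm e1), swap_apply_left]
    · rw [swap_apply_of_ne_of_ne (Ne.symm h8s4) (Ne.symm e4),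
        swap_apply_of_ne_of_ne (Ne.symm h6s4) (Ne.symm e2), swap_apply_right, hσ']
    · rw [swap_apply_of_ne_of_ne (Ne.symm h86) (Ne.symm e5), swap_apply_left,
        swap_apply_of_ne_of_ne e1 e2]
    · rw [swap_apply_of_ne_of_ne (Ne.symm h8s6) (Ne.symm e6), swap_apply_right,
        swap_apply_of_ne_of_ne h64 h6s4, hσ']
    · rw [swap_apply_left, swap_apply_of_ne_of_ne e5 e6, swap_apply_of_ne_of_ne e3 e4]
    · rw [swap_apply_right, swap_apply_of_ne_of_ne h86 h8s6, swap_apply_of_ne_of_ne h84 h8s4, hσ']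
  · have hfix : σ i = i := by
      by_cases hiS : i ∈ S
      · rw [hcov] at hiS
        rcases Finset.mem_union.mp hiS with h | h
        · exact absurd h hi
        · exact (mem_fixIn.mp h).2
      · exact hσS i hiS
    simp only [Finset.mem_insert, Finset.mem_singleton, not_or] at hi
    obtain ⟨a1, a2, a3, a4, a5, a6⟩ := hi
    rw [swap_apply_of_ne_of_ne a5 a6, swap_apply_of_ne_of_ne a3 a4, swap_apply_of_ne_of_ne a1 a2,
      hfix]

variable {G : Type u} [Group G] [Finite G] {α : Type*} [Fintype α] [DecidableEq α]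
  {L : Subgroup G} {S : Finset α}

theorem swap2_mem_alt {i j p q : α} (hij : i ≠ j) (hpq : p ≠ q) (hi : i ∈ S) (hj : j ∈ S)
    (hp : p ∈ S) (hq : q ∈ S) : swap i j * swap p q ∈ alt S := by
  refine mem_alt.mpr ⟨?_, fun y hy => ?_⟩
  · rw [Perm.mem_alternatingGroup, Perm.sign_mul, Perm.sign_swap hij, Perm.sign_swap hpq]
    rfl
  · have h1 : ∀ {z}, z ∈ S → y ≠ z := fun hz e => hy (e ▸ hz)
    rw [Perm.mul_apply, swap_apply_of_ne_of_ne (h1 hp) (h1 hq), swap_apply_of_ne_of_ne (h1 hi) (h1 hj)]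

/-- the configuration exists -/
theorem exists_cfg9 {x a : G} (T : IsTriple x a L) (M : Mod L S) (hS : S.card = 9) :
    ∃ (r2 r3 : G) (i4 i5 i6 i7 i8 i9 : α),
      Cfg x a M r2 r3 (x * r3) (x * r2) (r2 * r3) i4 i5 i6 i7 i8 i9 := by
  obtain ⟨h3, -⟩ := three_fix T M
  have hxx := sq_of_order T.invx
  have hxN := T.x_mem
  obtain ⟨i4, i5, i6, i7, i8, i9, hnd, m4, m5, m6, m7, m8, m9, hσ⟩ :=
    exists_six (M.mem_sym x hxN) (M.sq hxN hxx) h3 hS
  have hn := hnd
  simp only [List.nodup_cons, List.mem_cons, List.not_mem_nil, or_false, not_or, not_false_eq_true,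
    List.nodup_nil, and_true] at hn
  obtain ⟨⟨n45, n46, n47, n48, n49⟩, ⟨n56, n57, n58, n59⟩, ⟨n67, n68, n69⟩, ⟨n78, n79⟩, n89⟩ := hn
  have c4567 : swap i4 i5 * swap i6 i7 = swap i6 i7 * swap i4 i5 :=
    (disjoint_swap_swap (by simp [*])).commute
  have c4589 : swap i4 i5 * swap i8 i9 = swap i8 i9 * swap i4 i5 :=
    (disjoint_swap_swap (by simp [*])).commute
  have c6789 : swap i6 i7 * swap i8 i9 = swap i8 i9 * swap i6 i7 :=
    (disjoint_swap_swap (by simp [*])).commute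
  have C1 : Commute (swap i4 i5) (swap i6 i7) := c4567
  have C2 : Commute (swap i4 i5) (swap i8 i9) := c4589
  have C3 : Commute (swap i6 i7) (swap i8 i9) := c6789
  have s2 : (swap i4 i5 * swap i6 i7) * (swap i4 i5 * swap i6 i7) = 1 := by
    calc (swap i4 i5 * swap i6 i7) * (swap i4 i5 * swap i6 i7)
        = swap i4 i5 * (swap i6 i7 * swap i4 i5) * swap i6 i7 := by group
      _ = swap i4 i5 * (swap i4 i5 * swap i6 i7) * swap i6 i7 := by rw [c4567]
      _ = (swap i4 i5 * swap i4 i5) * (swap i6 i7 * swap i6 i7) := by group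
      _ = 1 := by rw [swap_mul_self, swap_mul_self, one_mul]
  have s3 : (swap i4 i5 * swap i8 i9) * (swap i4 i5 * swap i8 i9) = 1 := by
    calc (swap i4 i5 * swap i8 i9) * (swap i4 i5 * swap i8 i9)
        = swap i4 i5 * (swap i8 i9 * swap i4 i5) * swap i8 i9 := by group
      _ = swap i4 i5 * (swap i4 i5 * swap i8 i9) * swap i8 i9 := by rw [c4589]
      _ = (swap i4 i5 * swap i4 i5) * (swap i8 i9 * swap i8 i9) := by group
      _ = 1 := by rw [swap_mul_self, swap_mul_self, one_mul]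
  have k2 : Commute (M.φ x) (swap i4 i5 * swap i6 i7) := by
    rw [hσ]
    refine Commute.mul_left (Commute.refl _) ?_
    exact Commute.mul_right C2.symm C3.symm
  have k3 : Commute (M.φ x) (swap i4 i5 * swap i8 i9) := by
    rw [hσ]
    refine Commute.mul_left (Commute.mul_left ?_ ?_) ?_
    · exact Commute.mul_right (Commute.refl _) C2
    · exact Commute.mul_right C1.symm C3
    · exact Commute.mul_right C2.symm (Commute.refl _)
  have k23 : Commute (swap i4 i5 * swap i6 i7) (swap i4 i5 * swap i8 i9) := by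
    refine Commute.mul_left ?_ ?_
    · exact Commute.mul_right (Commute.refl _) C2
    · exact Commute.mul_right C1.symm C3
  obtain ⟨r2, hr2, hr2s, hxr2, hφ2⟩ := M.exists_inv_lift hxN (n := 1) (by rw [pow_one, pow_two, hxx])
    (swap2_mem_alt n45 n67 m4 m5 m6 m7) s2 k2
  obtain ⟨r3, hr3, hr3s, h3x, h32, hφ3⟩ := exists_lift_two M hxN (le_normalizer hr2) hxx hr2s hxr2
    (swap2_mem_alt n45 n89 m4 m5 m8 m9) s3 k3 (by rw [hφ2]; exact k23)
  exact ⟨r2, r3, i4, i5, i6, i7, i8, i9, T, hS, hnd, hr2, hr3, hr2s, hr3s, h32.symm, hxr2, h3x.symm,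
    rfl, rfl, rfl, hσ, hφ2, hφ3⟩

/-- conjugation in `L` -/
theorem Dbl.conj {x a : G} {M : Mod L S} {u : G} {K : Subgroup G} (T : IsTriple x a L)
    (hK : Dbl M a u K) (hu : u ∈ normalizer (L : Set G)) (huu : u * u = 1)
    (h5 : 5 ≤ (fixIn S (M.φ u)).card) {g : G} (hg : g ∈ L) :
    Dbl M a (g * u * g⁻¹) (IntrinsicBasic.cj g K) := by
  have hga : g * a = a * g := comm_c (T.comp.le hg)
  have hgag : g * a * g⁻¹ = a := by rw [hga, mul_inv_cancel_right]
  refine ⟨?_, fun h => hK.ne ?_, ?_⟩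
  · rw [← cj_centralizer]; exact hK.comp.cj g
  · rw [← IntrinsicBasic.cj_mul, ← hga, IntrinsicBasic.cj_mul] at h
    have h1 := congrArg (IntrinsicBasic.cj g⁻¹) h
    rwa [cj_inv_cj, cj_inv_cj] at h1
  · rw [M.cmp_conj (le_normalizer hg) hu huu h5, hK.eq, cj_diag, hgag, cj_centralizer]

/-- **(3.2)** -/
theorem diag9 (W : W9 G) {x a : G} (T : IsTriple x a L) (M : Mod L S) (hS : S.card = 9) {u : G}
    (hu : M.Rt u) {K : Subgroup G} (hK : Dbl M a u K) :
    ∃ (k : G) (F : Subgroup G) (B : Mod F S), IsTriple x k F ∧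
      ∀ (u : G) (K : Subgroup G), B.Rt u → ¬ Dbl B k u K := by
  have key : ∀ {a : G} {L : Subgroup G} {M : Mod L S} {r2 r3 b3 b4 r : G} {i4 i5 i6 i7 i8 i9 : α},
      Cfg x a M r2 r3 b3 b4 r i4 i5 i6 i7 i8 i9 → ∀ {u : G} {K : Subgroup G}, M.Rt u →
        Dbl M a u K → ∃ Kr, Dbl M a r Kr := by
    intro a L M r2 r3 b3 b4 r i4 i5 i6 i7 i8 i9 H u K hu hK
    obtain ⟨g, hg, hgu⟩ := hu.conj H.rt
    have h5 : 5 ≤ (fixIn S (M.φ u)).card := by
      rw [hu.root.card_fix, H.card]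
    have h1 := hK.conj H.T (le_normalizer hu.mem) hu.sq h5 hg
    rw [hgu] at h1
    exact ⟨_, h1⟩
  obtain ⟨r2, r3, i4, i5, i6, i7, i8, i9, H⟩ := exists_cfg9 T M hS
  obtain ⟨Kr, hr⟩ := key H hu hK
  obtain ⟨K4, K3, A4, A3, h, k, k', J, s⟩ := H.exists_St W hr
  obtain ⟨F, B, r3', H', hs⟩ := H.new_triple W s
  refine ⟨k, F, B, H'.T, fun u' K' hu' hK' => ?_⟩
  obtain ⟨Kr', hr'⟩ := key H' hu' hK'
  exact H'.not_sgl4 W hr' hs (H.alt4 s)

end Cfsg.Agent.UGT.A9.Dg
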