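import Cfsg.Agent.UAlt.Frame
import Cfsg.Agent.SignalizersComponents.ComponentNormalize
import Cfsg.Agent.UGT.Trich
import Cfsg.Agent.UGT.InUList
import Cfsg.Agent.Intrinsic.Functor

/-!
# A minimal counterexample has no subnormal subgroup `B` with `B / O(B) ≅ Aₙ`, `n ≥ 7` odd
-/

set_option autoImplicit false

open Cfsg Subgroup
open Cfsg.Agent.Lib
open Cfsg.Agent.SignalizersComponents
open Cfsg.Agent.Intrinsic Cfsg.Agent.Intrinsic.Basic
open Cfsg.Agent.UAlt Cfsg.Agent.UGT.Iface Cfsg.Agent.UGT.Trich
open scoped commutatorElement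

namespace Cfsg.Agent.UGT.A9

universe u

local notation "Fs" => generalizedFittingSubgroup

theorem false_of_subnormal {G : Type u} [Group G] [Finite G] (FT : Functor.OddSol G) (hG : MinCex G)
    {B : Subgroup G} (hB : B.IsSubnormal) {n : ℕ} (hn : Odd n) (h7 : 7 ≤ n) (hA : AltType B n) : False := by
  have hs := hG.simple
  have hX : IsComponent (Fs G) :=
    ⟨(normal_fs (G := G)).isSubnormal, IntrinsicDiag.quasisimple_of_simple hs hG.nonab⟩
  have hcX := centralizer_fs hG
  -- `O(B) = 1`
  have hcore : core B = ⊥ := by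
    have hsub : (core B).IsSubnormal := by
      refine Subgroup.IsSubnormal.step (core B) B (core_le B) hB ?_
      exact normal_subgroupOf_of_le_normalizer (le_normalizer_core B)
    rcases ComponentNormalize.component_le_or_comm hX hsub with h | h
    · exfalso
      have h1 : Odd (Nat.card ↥(Fs G)) := Odd.of_dvd_nat (odd_card_core B) (card_dvd_of_le h)
      have h2 := FT _ h1
      exact hG.nonab ⟨⟨IsSimpleGroup.comm_iff_isSolvable.mpr h2⟩⟩
    · rw [eq_bot_iff, ← hcX]
      exact (commutator_eq_bot_iff_le_centralizer.mp (by rw [commutator_comm]; exact h))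
  have hodd : oddCore ↥B = ⊥ := by
    rw [eq_bot_iff]
    intro x hx
    have h1 : (x : G) ∈ core B := (mem_core_iff x.2).mpr hx
    rw [hcore, mem_bot] at h1
    exact mem_bot.mpr (Subtype.ext h1)
  obtain ⟨e0⟩ := hA
  have e : ↥B ≃* alternatingGroup (Fin n) :=
    (((QuotientGroup.quotientMulEquivOfEq hodd).trans QuotientGroup.quotientBot).symm).trans e0
  rcases ComponentNormalize.component_le_or_comm hX hB with h | h
  · -- `B` is simple, hence equal to `X`
    have hsA : IsSimpleGroup (alternatingGroup (Fin n)) :=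
      alternatingGroup.isSimpleGroup (by rw [Nat.card_eq_fintype_card, Fintype.card_fin]; omega)
    have hsB : IsSimpleGroup ↥B := by
      have : Nontrivial ↥B := e.toEquiv.nontrivial
      exact IsSimpleGroup.isSimpleGroup_of_surjective e.symm.toMonoidHom e.symm.surjective
    have hn1 : ((Fs G).subgroupOf B).Normal := (normal_fs (G := G)).comap _
    rcases hsB.eq_bot_or_eq_top_of_normal _ hn1 with h1 | h1
    · rw [subgroupOf_eq_bot] at h1
      have h2 := h1.eq_bot
      rw [inf_eq_left.mpr h] at h2
      have h3 := hs.toNontrivial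
      rw [h2] at h3
      exact not_nontrivial _ h3
    · have h2 : B ≤ Fs G := subgroupOf_eq_top.mp h1
      have h3 : B = Fs G := le_antisymm h2 h
      subst h3
      exact hG.notU (InUList.inU_alt hn h7 ⟨e⟩)
  · have h1 : B ≤ ⊥ := by
      rw [← hcX]
      exact (commutator_eq_bot_iff_le_centralizer.mp (by rw [commutator_comm]; exact h))
    rw [le_bot_iff] at h1
    have h2 : Nat.card (alternatingGroup (Fin n)) = 1 := by
      rw [← Nat.card_congr e.toEquiv, h1]
      exact Nat.card_of_subsingleton 1
    have hnt : Nontrivial (Fin n) := Fin.nontrivial_iff_two_le.mpr (by omega)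
    have h3 := two_mul_nat_card_alternatingGroup (α := Fin n)
    rw [h2, Nat.card_perm, Nat.card_eq_fintype_card, Fintype.card_fin] at h3
    have h4 : n ≤ n.factorial := Nat.self_le_factorial n
    omega

end Cfsg.Agent.UGT.A9
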