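import Cfsg.Agent.UGT.A9.Pkg
import Cfsg.Agent.UGT.A9.EndSub
import Cfsg.Agent.UAlt.SupplyL2
import Cfsg.Agent.UAlt.CaseNW
import Cfsg.Agent.UGT.Iface

/-!
# NodeA9: the isolated case is impossible if the functor is balanced

* `Ty9 G`: the types of the triples are `PSL(2,q)`, `A₇`, `A₉`.
* `noType_five`: `NoType G 5`.
* `iso_false`.
-/

set_option autoImplicit false

open Cfsg Subgroup Equiv Equiv.Perm
open Cfsg.Agent.SignalizersComponents Cfsg.Agent.Lib
open Cfsg.Agent.SignalizersComponents.IntrinsicBasic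
open Cfsg.Agent.Intrinsic Cfsg.Agent.Intrinsic.Basic Cfsg.Agent.Intrinsic.Cen Cfsg.Agent.Intrinsic.Diag
open Cfsg.Agent.McLLyComp.Act Cfsg.Agent.GH.L2Aut
open Cfsg.Agent.UAlt Cfsg.Agent.UAlt.Supply Cfsg.Agent.UGT.Triple Cfsg.Agent.UGT.Iface
open scoped commutatorElement

namespace Cfsg.Agent.UGT.A9

universe u

variable {G : Type u} [Group G] [Finite G]

/-- the types of `NodeA9` -/
def Ty9 (G : Type u) [Group G] : Prop := ∀ (x a : G) (J : Subgroup G), IsTriple x a J →
  IsL2 (Bar J) ∨ IsAlt 7 (Bar J) ∨ IsAlt 9 (Bar J)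

/-- no 2-component of `C_J(u)` for an inner unbalancing involution of type `PSL(2,q)` -/
theorem no_comp_l2 {u t : G} {J I : Subgroup G} (T : IsTriple u t J) (hu : u ∈ J)
    (hI : IsComp (J ⊓ centralizer ({u} : Set G)) I) (h : IsL2 (Bar J)) : False := by
  obtain ⟨F, _, _, ho, -, ⟨e⟩⟩ := h
  have R := Rep.ofEquiv (two_ne_zero_of_odd ho) e
  have hut : u ∈ centralizer ({t} : Set G) := mem_centralizer_singleton_iff.mpr T.comm.symm
  have huu : u * u = 1 := sq_of_order T.invx
  have hfI : Fixes u I := by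
    refine ⟨?_, fun y hy => ?_⟩
    · apply centralizer_le_normalizer
      rw [mem_centralizer_iff]
      exact fun y hy => mem_centralizer_singleton_iff.mp (hI.le hy).2
    · have h1 : y * u = u * y := mem_centralizer_singleton_iff.mp (hI.le hy).2
      rw [commutatorElement_def, ← h1, mul_inv_cancel_right, mul_inv_cancel]
      exact one_mem _
  obtain ⟨D, hD1, hD2, hD3⟩ := exists_perfect T.comp hI hut rfl huu (le_normalizer hu) hfI
  refine hD2 (no_perfect R (φ := act J ⟨u, le_normalizer hu⟩) ?_ ?_ ?_ hD1 hD3)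
  · have h1 : act J ⟨u, le_normalizer hu⟩ = MulAut.conj (QuotientGroup.mk (⟨u, hu⟩ : ↥J)) := by
      ext y
      obtain ⟨⟨y, hy⟩, rfl⟩ := QuotientGroup.mk_surjective y
      rw [act_mk (le_normalizer hu) hy]
      rfl
    rw [h1]
    exact R.conj_mem_PGL _
  · intro h5
    exact T.not_fixes ((act_eq_one_iff _).mp h5)
  · rw [← act_mul, act_congr (mul_mem (le_normalizer hu) (le_normalizer hu)) huu]
    exact map_one _

/-- the type condition of the closing argument -/
theorem noType_five (hT : Ty9 G) : NoType G 5 := by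
  intro u t J I T hu hI _
  have key : ∀ n : ℕ, 7 ≤ n → IsAlt n (Bar J) → False := by
    rintro n h7 ⟨e⟩
    obtain ⟨M⟩ := Mod.nonempty_of_equiv (K := J) (S := (Finset.univ : Finset (Fin n)))
      (by rw [Finset.card_univ, Fintype.card_fin]; exact h7) (Ω := Fin n) (by rw [Finset.card_univ]) e
    have h3 := (RedAlt.three_fix T M).1
    have h5 := ((M.isComp_iff_cmp (le_normalizer hu) (sq_of_order T.invx)).mp hI).2
    omega
  rcases hT u t J T with h | h | h
  · exact no_comp_l2 T hu hI h
  · exact key 7 (by norm_num) h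
  · exact key 9 (by norm_num) h

/-- **the isolated case is impossible** (given (4.5)) -/
theorem iso_false (FT : Functor.OddSol G) (hG : MinCex G) (hT : Ty9 G) {α : Type*} [Fintype α]
    [DecidableEq α] {L : Subgroup G} {S : Finset α} {M : Mod L S} (hI : Iso9 M) (hB : BalAll M) : False := by
  have h9 := hI.card
  obtain ⟨V, V', T, T', h⟩ := exists_duo M (by omega)
  have hp : Pair M V V' T T' := ⟨h.r1, h.r2, h.d, h.c⟩
  have hW := hp.wd FT hI (hB hp) (hB hp.symm)
  obtain ⟨MΛ, hP⟩ := exists_pke hI hp hW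
  have hsub := Nine.isSubnormalE hP (by rw [h9]; exact noType_five hT)
  exact false_of_subnormal FT hG hsub (n := 9) (by decide) (by norm_num) (MΛ.altType_of_card h9)

end Cfsg.Agent.UGT.A9
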