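import Cfsg.Agent.UGT.A9.Wr
import Cfsg.Agent.UGT.Trich
import Cfsg.Agent.UGT.RankOneR
import Cfsg.Agent.UAlt.Mod
import Cfsg.Agent.Lib.SylowNormalInf

/-!
# UGT, type `A₉`, section 2 (#11039): `K_r` of type `A₇`: (2.3)-(2.5)

`Sev x a u v S S1 T P R K`: `S = ⟨a⟩ × S1` is a Sylow 2-subgroup of `C(a)`, `S1 ≅ D₈ wr 2`, `u`, `v` the central
involutions of the factors, `K` a 2-component of `C(v)` with `u ∈ K`, `K / O(K) ≅ A₇`, `a` a transposition.

* `Sev.sylow` (2.3): `S` is a Sylow 2-subgroup of `G`;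
* `Sev.exists_sign` (2.4): `a ∉ O²(G)`;
* `Sev.rank` (2.5): `F*(G)` has sectional 2-rank at most 4.
-/

set_option autoImplicit false

open Cfsg Subgroup Equiv
open Cfsg.Agent.SignalizersComponents Cfsg.Agent.Lib
open Cfsg.Agent.SignalizersComponents.IntrinsicBasic
open Cfsg.Agent.Intrinsic.Basic Cfsg.Agent.Intrinsic.Cen Cfsg.Agent.Intrinsic.Diag
open Cfsg.Agent.UGT.Triple Cfsg.Agent.UGT.Iface
open Cfsg.Agent.UAlt
open scoped commutatorElement

namespace Cfsg.Agent.UGT.A9

universe u

local notation "Fs" => generalizedFittingSubgroup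

section

variable {G : Type*} [Group G]

/-- the situation after (2.1), (2.2) -/
structure Sev (x a u v : G) (S S1 T P R K : Subgroup G) : Prop where
  xx : orderOf x = 2
  xO : core (centralizer ({x} : Set G)) ≠ ⊥
  ax : Ax a S S1 T P R u v
  pg : IsPGroup 2 S
  max : ∀ Q : Subgroup G, Q ≤ centralizer ({a} : Set G) → IsPGroup 2 Q → S ≤ Q → Q ≤ S
  comp : IsComp (centralizer ({v} : Set G)) K
  uK : u ∈ K
  uf : ¬ Fixes u K
  cj : ∀ g : G, g * v = v * g → g ∈ normalizer (K : Set G) → g * a * g⁻¹ ≠ a * (u * v)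

/-- the field `cj` from a labelling: `a` and `u` act as disjoint permutations -/
theorem cj_of_mod {a u v : G} {K : Subgroup G} (hK : K ≤ centralizer ({v} : Set G)) {α : Type*}
    [Fintype α] [DecidableEq α] {Ω : Finset α} (M : Mod K Ω) (haK : a ∈ normalizer (K : Set G))
    (huK : u ∈ K) (hu : M.φ u ≠ 1) (hd : ∀ i, M.φ a i ≠ i → M.φ u i = i) (g : G) (_ : g * v = v * g)
    (hg : g ∈ normalizer (K : Set G)) : g * a * g⁻¹ ≠ a * (u * v) := by
  intro he
  have huN : u ∈ normalizer (K : Set G) := le_normalizer huK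
  have hvf : Fixes v K := by
    have hvN : v ∈ normalizer (K : Set G) := by
      rw [mem_normalizer_iff]
      intro k
      constructor
      · intro hk
        have h1 := mem_centralizer_singleton_iff.mp (hK hk)
        rwa [← h1, mul_inv_cancel_right]
      · intro hk
        have h1 := mem_centralizer_singleton_iff.mp (hK hk)
        have h2 : v * k * v⁻¹ = v⁻¹ * ((v * k * v⁻¹) * v) := by rw [h1]; group
        have h3 : v * k * v⁻¹ = k := by
          rw [h2]; group
        rwa [h3] at hk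
    refine ⟨hvN, fun y hy => ?_⟩
    have h1 := mem_centralizer_singleton_iff.mp (hK hy)
    have h2 : ⁅v, y⁆ = 1 := by
      rw [commutatorElement_def, ← h1]; group
    rw [h2]
    exact one_mem _
  have hv1 : M.φ v = 1 := (M.fixes_iff hvf.1).mpr hvf
  have h1 := M.conj hg haK
  rw [he, M.mul _ _ haK (mul_mem huN hvf.1), M.mul _ _ huN hvf.1, hv1, mul_one] at h1
  -- number of moved points
  have h2 : (M.φ a * M.φ u).support.card = (M.φ a).support.card := by
    rw [h1]
    exact Perm.card_support_conj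
  have h3 : Perm.Disjoint (M.φ a) (M.φ u) := fun i => by
    by_cases hi : M.φ a i = i
    · exact Or.inl hi
    · exact Or.inr (hd i hi)
  rw [h3.card_support_mul] at h2
  have h4 : (M.φ u).support.card = 0 := by omega
  exact hu (Perm.support_eq_empty_iff.mp (Finset.card_eq_zero.mp h4))

namespace Sev

variable {x a u v : G} {S S1 T P R K : Subgroup G} (h : Sev x a u v S S1 T P R K)
include h

theorem a1 : a ≠ 1 := fun e => h.ax.aM (e ▸ one_mem _)

theorem S_le : S ≤ centralizer ({a} : Set G) := fun s hs =>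
  mem_centralizer_singleton_iff.mpr (h.ax.cen s hs)

variable [Finite G]

/-- the contradiction in `C(v)` -/
theorem no_conj {g : G} (h1 : g * v * g⁻¹ = v) (h2 : g * u * g⁻¹ = u) :
    g * a * g⁻¹ ≠ a * (u * v) := by
  have hgv : g * v = v * g := by rwa [mul_inv_eq_iff_eq_mul] at h1
  by_cases hg : g ∈ normalizer (K : Set G)
  · exact h.cj g hgv hg
  · exfalso
    rw [mem_normalizer_iff_cj] at hg
    have hc : IsComp (centralizer ({v} : Set G)) (IntrinsicBasic.cj g K) :=
      isComp_cj_of_mem h.comp (mem_centralizer_singleton_iff.mpr hgv)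
    have hu : u ∈ IntrinsicBasic.cj g K := h2 ▸ conj_mem_cj h.uK
    exact h.uf (h.comp.fixes_of_mem hc (Ne.symm hg) hu)

/-- **(2.3)** -/
theorem sylow : ∃ Q : Sylow 2 G, (Q : Subgroup G) = S := by
  have h2 : Fact (Nat.Prime 2) := ⟨Nat.prime_two⟩
  obtain ⟨Q, hQ⟩ := h.pg.exists_le_sylow
  refine ⟨Q, le_antisymm ?_ hQ⟩
  by_contra hne
  obtain ⟨y, hyQ, hyS, hy, hy'⟩ := RankOneR.exists_norm Q.isPGroup' hQ hne
  rcases h.ax.conj_a hy hy' with ha | ha
  · apply hyS
    have h3 : S ⊔ zpowers y ≤ S := by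
      refine h.max _ (sup_le h.S_le ?_) (Q.isPGroup'.to_le (sup_le hQ ?_)) le_sup_left
      · rw [zpowers_le, mem_centralizer_singleton_iff]
        rwa [mul_inv_eq_iff_eq_mul] at ha
      · rwa [zpowers_le]
    exact h3 (mem_sup_right (mem_zpowers y))
  · have W := h.ax.wr
    have hne : u ≠ v := W.ne
    have hinj : ∀ {p q : G}, y * p * y⁻¹ = y * q * y⁻¹ → p = q := fun e =>
      mul_left_cancel (mul_right_cancel e)
    rcases h.ax.conj_v hy hy' with hv | hv
    · have hu : y * u * y⁻¹ = v := by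
        rcases h.ax.conj_u hy hy' with hu | hu
        · exact absurd (hinj (hu.trans hv.symm)) hne
        · exact hu
      obtain ⟨m, hm, hmT⟩ := W.exists_m
      obtain ⟨hs1, hs2⟩ := W.sw m hm hmT
      refine h.no_conj (g := m * y) ?_ ?_ ?_
      · calc m * y * v * (m * y)⁻¹ = m * (y * v * y⁻¹) * m⁻¹ := by group
          _ = v := by rw [hv, hs1]
      · calc m * y * u * (m * y)⁻¹ = m * (y * u * y⁻¹) * m⁻¹ := by group
          _ = u := by rw [hu, hs2]
      · have h3 : m * (a * (u * v)) = a * (u * v) * m := by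
          rw [← mul_assoc, h.ax.cen m (h.ax.le hm), mul_assoc, W.uv_comm hm, ← mul_assoc]
        calc m * y * a * (m * y)⁻¹ = m * (y * a * y⁻¹) * m⁻¹ := by group
          _ = a * (u * v) := by rw [ha, h3, mul_inv_cancel_right]
    · have hu : y * u * y⁻¹ = u := by
        rcases h.ax.conj_u hy hy' with hu | hu
        · exact hu
        · exact absurd (hinj (hu.trans hv.symm)) hne
      exact h.no_conj hv hu ha

omit [Finite G] in
theorem relIndex_S1 : S1.relIndex S = 2 := by
  rw [relIndex_eq_two_iff]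
  refine ⟨a, h.ax.aS, fun s hs => ?_⟩
  rw [h.ax.cen s hs]
  rcases h.ax.cov s hs with h1 | h1
  · refine Or.inr ⟨h1, fun h2 => h.ax.aM ?_⟩
    have := mul_mem h2 (inv_mem h1)
    rwa [mul_inv_cancel_right] at this
  · refine Or.inl ⟨h1, fun h2 => h.ax.aM ?_⟩
    have := mul_mem h1 (inv_mem h2)
    rwa [mul_inv_cancel_right] at this

/-- **(2.4)** `a ∉ O²(G)` -/
theorem exists_sign : ∃ f : G →* ℤˣ, f a = -1 := by
  have h2 : Fact (Nat.Prime 2) := ⟨Nat.prime_two⟩
  obtain ⟨Q, hQ⟩ := h.sylow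
  refine RankOneR.exists_hom_of_extremal (D := S) (M := S1) (U := S) h.ax.le h.relIndex_S1 ?_ h.ax.aa
    h.pg h.ax.cen h.ax.aS ?_
  · rw [← hQ]
    exact Q.not_dvd_index
  · intro g hg ha
    have hg' : ∀ s ∈ S, g * s * g⁻¹ ∈ S := by
      -- `g⁻¹ S g = S`
      have h3 : IntrinsicBasic.cj g⁻¹ S ≤ S := by
        rintro _ ⟨s, hs, rfl⟩
        have := hg s hs
        change g⁻¹ * s * g⁻¹⁻¹ ∈ S
        rwa [inv_inv]
      have h4 : IntrinsicBasic.cj g⁻¹ S = S := by
        apply eq_of_le_of_card_ge h3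
        rw [IntrinsicBasic.cj_def, card_map_of_injective (MulAut.conj g⁻¹).injective]
      intro s hs
      rw [← h4, mem_cj] at hs
      rwa [inv_inv] at hs
    have h3 := h.ax.conj_a (y := g⁻¹) (fun s hs => by rw [inv_inv]; exact hg s hs)
      (fun s hs => by rw [inv_inv]; exact hg' s hs)
    rw [inv_inv] at h3
    rcases h3 with h3 | h3
    · exact h.ax.aM (h3 ▸ ha)
    · rw [h3] at ha
      apply h.ax.aM
      have h4 := mul_mem ha (inv_mem (mul_mem h.ax.wr.uM h.ax.wr.vM))
      rwa [mul_inv_cancel_right] at h4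

end Sev

/-- odd order elements are in the kernel of a sign -/
theorem sign_odd {f : G →* ℤˣ} {g : G} (hg : Odd (orderOf g)) : f g = 1 := by
  rcases Int.units_eq_one_or (f g) with h | h
  · exact h
  · exfalso
    have h1 : f g ^ orderOf g = 1 := by rw [← map_pow, pow_orderOf_eq_one, map_one]
    rw [h, hg.neg_one_pow] at h1
    exact absurd h1 (by decide)

/-- an odd element and a 2-element of a group: trivial -/
theorem eq_one_of_odd_two {H : Type*} [Group H] [Finite H] {D : Subgroup H} (hD : Odd (Nat.card D))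
    {g : H} (hg : g ∈ D) {n : ℕ} (hn : g ^ 2 ^ n = 1) : g = 1 := by
  have h1 : orderOf g ∣ Nat.card D := by
    rw [← Subgroup.orderOf_mk g hg]
    exact orderOf_dvd_natCard _
  have h2 : orderOf g ∣ 2 ^ n := orderOf_dvd_of_pow_eq_one hn
  have h3 : (Nat.card D).Coprime (2 ^ n) := (Nat.coprime_two_right.mpr hD).pow_right n
  have h4 := Nat.eq_one_of_dvd_coprimes h3 h1 h2
  exact orderOf_eq_one_iff.mp h4

end

variable {G : Type u} [Group G] [Finite G]

/-- **(2.5)**: `F*(G)` has sectional 2-rank at most 4 -/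
theorem Sev.rank (hG : MinCex G) {x a u v : G} {S S1 T P R K : Subgroup G}
    (h : Sev x a u v S S1 T P R K) : SectionalPRankLE 2 4 ↥(Fs G) := by
  have h2 : Fact (Nat.Prime 2) := ⟨Nat.prime_two⟩
  obtain ⟨Q, hQ⟩ := h.sylow
  obtain ⟨f, hf⟩ := h.exists_sign
  have hXn : (Fs G).Normal := Trich.normal_fs
  have hXs := hG.simple
  -- `f` is trivial on `X`
  have hfX : ∀ y ∈ Fs G, f y = 1 := by
    have hk : ((f.comp (Fs G).subtype).ker).Normal := inferInstance
    rcases hk.eq_bot_or_eq_top with h1 | h1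
    · exfalso
      apply hG.nonab
      refine ⟨⟨fun y z => ?_⟩⟩
      apply (MonoidHom.ker_eq_bot_iff _).mp h1
      rw [map_mul, map_mul, mul_comm]
    · intro y hy
      have h3 : (⟨y, hy⟩ : ↥(Fs G)) ∈ (f.comp (Fs G).subtype).ker := by rw [h1]; trivial
      exact h3
  obtain ⟨D, hDe⟩ : ∃ D, D = core (centralizer ({x} : Set G)) := ⟨_, rfl⟩
  have hDodd : Odd (Nat.card D) := hDe ▸ odd_card_core _
  have hfD : ∀ d ∈ D, f d = 1 := fun d hd => sign_odd (by
    refine Odd.of_dvd_nat hDodd ?_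
    rw [← Subgroup.orderOf_mk d hd]
    exact orderOf_dvd_natCard _)
  have hsup := Trich.sup_eq_top hG h.xx h.xO
  rw [← hDe] at hsup
  -- `N = X D` is normal
  let N : Subgroup G := Fs G ⊔ D
  have hxN : x ∈ normalizer (N : Set G) := by
    rw [mem_normalizer_iff_cj]
    have e1 : IntrinsicBasic.cj x (Fs G) = Fs G := by
      rw [← mem_normalizer_iff_cj, normalizer_eq_top_iff.2 hXn]
      exact mem_top x
    have e2 : IntrinsicBasic.cj x D = D := by
      rw [← mem_normalizer_iff_cj, hDe]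
      exact le_normalizer_core _ (mem_centralizer_singleton_iff.mpr rfl)
    rw [IntrinsicBasic.cj_def, Subgroup.map_sup, ← IntrinsicBasic.cj_def, ← IntrinsicBasic.cj_def, e1, e2]
  have hNn : N.Normal := by
    rw [← normalizer_eq_top_iff, eq_top_iff, ← hsup]
    refine sup_le (sup_le ?_ ?_) ?_
    · exact le_trans le_sup_left (le_normalizer (H := N))
    · rwa [zpowers_le]
    · exact le_trans le_sup_right (le_normalizer (H := N))
  have hNx : N ⊔ zpowers x = ⊤ := by
    rw [← hsup]
    exact sup_right_comm _ _ _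
  have hfN : ∀ y ∈ N, f y = 1 := by
    intro y hy
    have h3 : N ≤ f.ker := sup_le (fun y hy => hfX y hy) fun d hd => hfD d hd
    exact h3 hy
  have hker : ∀ g : G, f g = 1 → g ∈ N := by
    intro g hg
    have h3 : g ∈ N ⊔ zpowers x := by rw [hNx]; exact mem_top g
    rw [Subgroup.mem_sup_of_normal_left] at h3
    obtain ⟨n, hn, y, hy, rfl⟩ := h3
    have hfx : f x = -1 := by
      rcases Int.units_eq_one_or (f x) with h4 | h4
      · exfalso
        have h5 : N ⊔ zpowers x ≤ f.ker := by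
          refine sup_le (fun y hy => hfN y hy) ?_
          rw [zpowers_le]
          exact h4
        have h6 : a ∈ f.ker := h5 (by rw [hNx]; exact mem_top a)
        have h7 : f a = 1 := h6
        rw [hf] at h7
        exact absurd h7 (by decide)
      · exact h4
    have hxx : x * x = 1 := sq_of_order h.xx
    obtain ⟨k, rfl⟩ := mem_zpowers_iff.mp hy
    rw [map_mul, hfN n hn, one_mul, map_zpow, hfx] at hg
    rcases Int.even_or_odd k with hk | hk
    · obtain ⟨j, rfl⟩ := hk
      rw [zpow_add, ← Commute.mul_zpow (Commute.refl x), hxx, one_zpow, mul_one]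
      exact hn
    · rw [hk.neg_one_zpow] at hg
      exact absurd hg (by decide)
  -- 2-elements of `N` lie in `X`
  have htwo : ∀ s ∈ S, f s = 1 → s ∈ Fs G := by
    intro s hs hfs
    have hsN := hker s hfs
    obtain ⟨n, hn⟩ := h.pg ⟨s, hs⟩
    have hn' : s ^ 2 ^ n = 1 := congrArg Subtype.val hn
    have h3 : (QuotientGroup.mk' (Fs G)) s ∈ D.map (QuotientGroup.mk' (Fs G)) := by
      have h4 : N.map (QuotientGroup.mk' (Fs G)) = D.map (QuotientGroup.mk' (Fs G)) := by
        rw [Subgroup.map_sup, QuotientGroup.map_mk'_self, bot_sup_eq]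
      rw [← h4]
      exact ⟨s, hsN, rfl⟩
    have h5 : Odd (Nat.card (D.map (QuotientGroup.mk' (Fs G)))) :=
      Odd.of_dvd_nat hDodd (card_map_dvd _ _)
    have h6 := eq_one_of_odd_two h5 h3 (n := n) (by rw [← map_pow, hn', map_one])
    rwa [QuotientGroup.mk'_apply, QuotientGroup.eq_one_iff] at h6
  -- the rank
  have hSX : SectionalPRankLE 2 4 ↥(S.subgroupOf (Fs G)) := by
    have hA : ((zpowers a).subgroupOf S).Normal := by
      refine ⟨fun t ht s => ?_⟩
      rw [mem_subgroupOf] at ht ⊢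
      obtain ⟨k, hk⟩ := mem_zpowers_iff.mp ht
      have h3 : (s : G) * (t : G) * (s : G)⁻¹ = t := by
        have h4 : Commute (s : G) a := h.ax.cen s s.2
        rw [← hk, (h4.zpow_right k).eq, mul_inv_cancel_right]
      change (s : G) * (t : G) * (s : G)⁻¹ ∈ _
      rw [h3]
      exact ht
    have h3 : SectionalPRankLE 2 4 (↥S ⧸ (zpowers a).subgroupOf S) := by
      refine GH.Rank.of_surjective (G := ↥S1) h.ax.wr.rank
        ((QuotientGroup.mk' ((zpowers a).subgroupOf S)).comp (inclusion h.ax.le)) ?_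
      intro q
      obtain ⟨⟨s, hs⟩, rfl⟩ := QuotientGroup.mk_surjective q
      rcases h.ax.cov s hs with h4 | h4
      · exact ⟨⟨s, h4⟩, rfl⟩
      · refine ⟨⟨a * s, h4⟩, ?_⟩
        change (QuotientGroup.mk (⟨a * s, h.ax.le h4⟩ : ↥S) : ↥S ⧸ (zpowers a).subgroupOf S) =
          QuotientGroup.mk ⟨s, hs⟩
        rw [QuotientGroup.eq, mem_subgroupOf]
        change (a * s)⁻¹ * s ∈ zpowers a
        have h5 : (a * s)⁻¹ * s = a⁻¹ := by
          rw [mul_inv_rev]
          have h6 : a⁻¹ * s = s * a⁻¹ := by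
            rw [inv_mul_eq_iff_eq_mul, ← mul_assoc, ← h.ax.cen s hs, mul_inv_cancel_right]
          rw [mul_assoc, h6, inv_mul_cancel_left]
        rw [h5]
        exact inv_mem (mem_zpowers a)
    let j : ↥(S.subgroupOf (Fs G)) →* ↥S :=
      ((Fs G).subtype.comp (S.subgroupOf (Fs G)).subtype).codRestrict S fun g => g.2
    refine GH.Rank.of_injective h3 ((QuotientGroup.mk' ((zpowers a).subgroupOf S)).comp j) ?_
    rw [injective_iff_map_eq_one]
    rintro ⟨⟨g, hgX⟩, hgS⟩ hg1
    have hgS' : g ∈ S := hgS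
    have h4 : (QuotientGroup.mk (⟨g, hgS'⟩ : ↥S) : ↥S ⧸ (zpowers a).subgroupOf S) = 1 := hg1
    rw [QuotientGroup.eq_one_iff, mem_subgroupOf] at h4
    have h4' : g ∈ zpowers a := h4
    obtain ⟨k, hk⟩ := mem_zpowers_iff.mp h4'
    have hg : g = 1 := by
      rcases Int.even_or_odd' k with ⟨i, hi | hi⟩
      · rw [← hk, hi, zpow_mul, zpow_two, h.ax.aa, one_zpow]
      · exfalso
        have h5 : g = a := by
          rw [← hk, hi, zpow_add, zpow_mul, zpow_two, h.ax.aa, one_zpow, one_mul, zpow_one]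
        have h6 := hfX g hgX
        rw [h5, hf] at h6
        exact absurd h6 (by decide)
    exact Subtype.ext (Subtype.ext hg)
  refine GH.Rank.of_not_dvd_index Nat.prime_two (S.subgroupOf (Fs G)) ?_ hSX
  have h3 := SylowNormalInf.not_dvd_relIndex Q (Fs G)
  rw [hQ] at h3
  exact h3

/-- **Section 2**: no minimal counterexample if `F*(G)` does not have sectional 2-rank at most 4 -/
theorem Sev.false (hG : MinCex G) (hK4 : ¬ SectionalPRankLE 2 4 ↥(Fs G)) {x a u v : G}
    {S S1 T P R K : Subgroup G} (h : Sev x a u v S S1 T P R K) : False :=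
  hK4 (h.rank hG)

end Cfsg.Agent.UGT.A9
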