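import Cfsg.Agent.UGT.A9.Wr
import Cfsg.Agent.UAlt.AltOn
import Cfsg.Agent.StdAlt.Roots
import Cfsg.Agent.Lib.SylowNormalInf

/-!
# Sylow 2-subgroups of `Sym(9)`

`exists_wr`: a group `S1` of order 128 with an injective homomorphism into `Sym(Ω)`, `|Ω| = 9`, is `D₈ wr 2`, the two
central involutions are disjoint roots.
-/

set_option autoImplicit false
set_option linter.unusedSectionVars false

namespace Cfsg.Agent.UGT.A9

open Subgroup Cfsg Cfsg.Agent.UGT.A7 Cfsg.Agent.UAlt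
open Cfsg.Agent.StdAlt.Roots (IsRoot)

section map

variable {G G' : Type*} [Group G] [Group G']

theorem eightS_map {M P : Subgroup G} {z : G} (h : EightS P z) (hPM : P ≤ M) (f : ↥M →* G')
    (hf : Function.Injective f) :
    EightS ((P.subgroupOf M).map f) (f ⟨z, hPM h.mem⟩) where
  card := by
    rw [card_map_of_injective hf, Nat.card_congr (subgroupOfEquivOfLe hPM).toEquiv, h.card]
  mem := ⟨⟨z, hPM h.mem⟩, h.mem, rfl⟩
  ne := fun e => h.ne (congrArg Subtype.val (hf (e.trans (map_one f).symm)))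
  sq := by
    rw [← map_mul, ← map_one f]
    exact congrArg f (Subtype.ext h.sq)
  cen := by
    rintro _ ⟨p, hp, rfl⟩
    rw [← map_mul, ← map_mul]
    exact congrArg f (Subtype.ext (h.cen p hp))
  com := by
    rintro _ ⟨p, hp, rfl⟩ _ ⟨q, hq, rfl⟩
    rcases h.com p hp q hq with e | e
    · left
      rw [← map_mul, ← map_inv, ← map_mul, ← map_inv, ← map_mul, ← map_one f]
      exact congrArg f (Subtype.ext e)
    · right
      rw [← map_mul, ← map_inv, ← map_mul, ← map_inv, ← map_mul]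
      exact congrArg f (Subtype.ext e)
  pow := by
    rintro _ ⟨p, hp, rfl⟩
    rcases h.pow p hp with e | e
    · left
      rw [← map_mul, ← map_one f]
      exact congrArg f (Subtype.ext e)
    · right
      rw [← map_mul]
      exact congrArg f (Subtype.ext e)
  cen' := by
    rintro _ ⟨p, hp, rfl⟩ hc
    have h1 : ∀ q ∈ P, (p : G) * q = q * p := by
      intro q hq
      have h2 := hc _ ⟨⟨q, hPM hq⟩, hq, rfl⟩
      rw [← map_mul, ← map_mul] at h2
      exact congrArg Subtype.val (hf h2)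
    rcases h.cen' p hp h1 with e | e
    · left
      rw [← map_one f]
      exact congrArg f (Subtype.ext e)
    · right
      exact congrArg f (Subtype.ext e)
  nab := by
    obtain ⟨p, hp, q, hq, hpq⟩ := h.nab
    refine ⟨_, ⟨⟨p, hPM hp⟩, hp, rfl⟩, _, ⟨⟨q, hPM hq⟩, hq, rfl⟩, fun e => hpq ?_⟩
    rw [← map_mul, ← map_mul] at e
    exact congrArg Subtype.val (hf e)
  ab := by
    rintro _ ⟨v, hv, rfl⟩ _ ⟨w, hw, rfl⟩ hvw _ ⟨p, hp, rfl⟩ _ ⟨q, hq, rfl⟩ h1 h2
    rw [← map_mul, ← map_mul] at h1 h2 ⊢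
    refine congrArg f (Subtype.ext (h.ab v hv w hw (fun e => hvw ?_) p hp q hq
      (congrArg Subtype.val (hf h1)) (congrArg Subtype.val (hf h2))))
    rw [← map_mul, ← map_mul]
    exact congrArg f (Subtype.ext e)

theorem twoP_map {M T P R : Subgroup G} (h : TwoP T P R) (hT : T ≤ M) (f : ↥M →* G')
    (hf : Function.Injective f) :
    TwoP ((T.subgroupOf M).map f) ((P.subgroupOf M).map f) ((R.subgroupOf M).map f) where
  PT := Subgroup.map_mono fun p hp => h.PT hp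
  RT := Subgroup.map_mono fun p hp => h.RT hp
  sup := by
    rintro _ ⟨t, ht, rfl⟩
    obtain ⟨p, hp, r, hr, e⟩ := h.sup t ht
    refine ⟨_, ⟨⟨p, hT (h.PT hp)⟩, hp, rfl⟩, _, ⟨⟨r, hT (h.RT hr)⟩, hr, rfl⟩, ?_⟩
    rw [← map_mul]
    exact congrArg f (Subtype.ext e)
  comm := by
    rintro _ ⟨p, hp, rfl⟩ _ ⟨r, hr, rfl⟩
    rw [← map_mul, ← map_mul]
    exact congrArg f (Subtype.ext (h.comm p hp r hr))
  inf := by
    rintro _ ⟨p, hp, rfl⟩ ⟨r, hr, e⟩
    have h1 := hf e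
    subst h1
    rw [← map_one f]
    exact congrArg f (Subtype.ext (h.inf _ hp hr))

/-- transport of the structure -/
theorem Wr.map {M T P R : Subgroup G} {u v : G} (h : Wr M T P R u v) (f : ↥M →* G')
    (hf : Function.Injective f) :
    Wr f.range ((T.subgroupOf M).map f) ((P.subgroupOf M).map f) ((R.subgroupOf M).map f)
      (f ⟨u, h.uM⟩) (f ⟨v, h.vM⟩) where
  le := by
    rintro _ ⟨t, -, rfl⟩
    exact ⟨t, rfl⟩
  idx := by
    have h1 := h.idx
    rw [relIndex_eq_two_iff] at h1 ⊢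
    obtain ⟨a, ha, h2⟩ := h1
    refine ⟨f ⟨a, ha⟩, ⟨_, rfl⟩, ?_⟩
    rintro _ ⟨b, rfl⟩
    have key : ∀ c : ↥M, f c ∈ (T.subgroupOf M).map f ↔ (c : G) ∈ T := by
      intro c
      constructor
      · rintro ⟨t, ht, e⟩
        rw [← hf e]
        exact ht
      · intro hc
        exact ⟨c, hc, rfl⟩
    rw [← map_mul, key, key]
    exact h2 b b.2
  hP := eightS_map h.hP (h.two.PT.trans h.le) f hf
  hR := eightS_map h.hR (h.two.RT.trans h.le) f hf
  two := twoP_map h.two h.le f hf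
  nrm := by
    rintro _ ⟨m, rfl⟩ _ ⟨t, ht, rfl⟩
    rw [← map_mul, ← map_inv, ← map_mul]
    exact ⟨m * t * m⁻¹, h.nrm m m.2 t ht, rfl⟩
  sw := by
    rintro _ ⟨m, rfl⟩ hm
    have h1 : (m : G) ∉ T := fun h2 => hm ⟨m, h2, rfl⟩
    obtain ⟨h3, h4⟩ := h.sw m m.2 h1
    rw [← map_mul, ← map_inv, ← map_mul, ← map_mul, ← map_mul]
    exact ⟨congrArg f (Subtype.ext h3), congrArg f (Subtype.ext h4)⟩

/-! ### `P wr ⟨τ⟩` -/

variable (P : Subgroup G) (τ : G)

/-- `P P^τ` -/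
def twoT (hc : ∀ p ∈ P, ∀ q ∈ P, p * (τ * q * τ⁻¹) = τ * q * τ⁻¹ * p) : Subgroup G where
  carrier := {g | ∃ p ∈ P, ∃ q ∈ P, g = p * (τ * q * τ⁻¹)}
  mul_mem' := by
    rintro _ _ ⟨p, hp, q, hq, rfl⟩ ⟨p', hp', q', hq', rfl⟩
    refine ⟨p * p', P.mul_mem hp hp', q * q', P.mul_mem hq hq', ?_⟩
    calc p * (τ * q * τ⁻¹) * (p' * (τ * q' * τ⁻¹)) = p * (τ * q * τ⁻¹ * p') * (τ * q' * τ⁻¹) := by group
      _ = p * (p' * (τ * q * τ⁻¹)) * (τ * q' * τ⁻¹) := by rw [hc p' hp' q hq]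
      _ = _ := by group
  one_mem' := ⟨1, P.one_mem, 1, P.one_mem, by group⟩
  inv_mem' := by
    rintro _ ⟨p, hp, q, hq, rfl⟩
    refine ⟨p⁻¹, P.inv_mem hp, q⁻¹, P.inv_mem hq, ?_⟩
    rw [hc _ (P.inv_mem hp) _ (P.inv_mem hq)]
    group

variable {P τ}

theorem twoT_conj {hc : ∀ p ∈ P, ∀ q ∈ P, p * (τ * q * τ⁻¹) = τ * q * τ⁻¹ * p} (hτ : τ * τ = 1)
    {t : G} (ht : t ∈ twoT P τ hc) : τ * t * τ⁻¹ ∈ twoT P τ hc := by
  obtain ⟨p, hp, q, hq, rfl⟩ := ht
  have hi : τ⁻¹ = τ := inv_eq_of_mul_eq_one_left hτ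
  refine ⟨q, hq, p, hp, ?_⟩
  rw [hc q hq p hp]
  calc τ * (p * (τ * q * τ⁻¹)) * τ⁻¹ = τ * p * (τ * q) * (τ⁻¹ * τ⁻¹) := by group
    _ = τ * p * (τ * q) := by rw [hi, hτ, mul_one]
    _ = τ * p * τ⁻¹ * q := by rw [hi]; group

/-- `P wr ⟨τ⟩` -/
def twoM (hc : ∀ p ∈ P, ∀ q ∈ P, p * (τ * q * τ⁻¹) = τ * q * τ⁻¹ * p) (hτ : τ * τ = 1) :
    Subgroup G where
  carrier := {g | g ∈ twoT P τ hc ∨ g * τ ∈ twoT P τ hc}
  mul_mem' := by
    have hi : τ⁻¹ = τ := inv_eq_of_mul_eq_one_left hτ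
    intro g k hg hk
    rcases hg with hg | hg <;> rcases hk with hk | hk
    · exact Or.inl (mul_mem hg hk)
    · right
      rw [mul_assoc]
      exact mul_mem hg hk
    · right
      have h1 := twoT_conj hτ hk
      have h2 := mul_mem hg h1
      convert h2 using 1
      calc g * k * τ = g * k * τ⁻¹ := by rw [hi]
        _ = g * (τ * τ) * k * τ⁻¹ := by rw [hτ, mul_one]
        _ = _ := by group
    · left
      have h1 := twoT_conj hτ hk
      have h2 := mul_mem hg h1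
      convert h2 using 1
      calc g * k = g * (τ * τ) * k := by rw [hτ, mul_one]
        _ = _ := by group
  one_mem' := Or.inl (one_mem _)
  inv_mem' := by
    have hi : τ⁻¹ = τ := inv_eq_of_mul_eq_one_left hτ
    intro g hg
    rcases hg with hg | hg
    · exact Or.inl (inv_mem hg)
    · right
      have h1 := twoT_conj hτ (inv_mem hg)
      convert h1 using 1
      calc g⁻¹ * τ = (τ * τ⁻¹) * g⁻¹ * τ⁻¹ := by rw [hi, hτ, one_mul]
        _ = _ := by group

theorem wr_of_swap {u : G} (hP : EightS P u)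
    (hc : ∀ p ∈ P, ∀ q ∈ P, p * (τ * q * τ⁻¹) = τ * q * τ⁻¹ * p) (hτ : τ * τ = 1)
    (hi : ∀ p ∈ P, ∀ q ∈ P, p = τ * q * τ⁻¹ → p = 1) (hn : τ ∉ twoT P τ hc) :
    Wr (twoM hc hτ) (twoT P τ hc) P (P.map (MulAut.conj τ).toMonoidHom) u (τ * u * τ⁻¹) where
  le := fun t ht => Or.inl ht
  idx := by
    have hi' : τ⁻¹ = τ := inv_eq_of_mul_eq_one_left hτ
    rw [relIndex_eq_two_iff]
    refine ⟨τ, Or.inr (by rw [hτ]; exact one_mem _), fun b hb => ?_⟩
    rcases hb with hb | hb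
    · refine Or.inr ⟨hb, fun h1 => hn ?_⟩
      have := mul_mem (inv_mem hb) h1
      rwa [inv_mul_cancel_left] at this
    · refine Or.inl ⟨hb, fun h1 => hn ?_⟩
      have := mul_mem (inv_mem h1) hb
      rwa [inv_mul_cancel_left] at this
  hP := hP
  hR := by
    have h1 := eightS_map (M := ⊤) hP le_top ((MulAut.conj τ).toMonoidHom.comp (⊤ : Subgroup G).subtype)
      ((MulAut.conj τ).injective.comp Subtype.val_injective)
    have h2 : (P.subgroupOf ⊤).map ((MulAut.conj τ).toMonoidHom.comp (⊤ : Subgroup G).subtype) =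
        P.map (MulAut.conj τ).toMonoidHom := by
      ext g
      constructor
      · rintro ⟨p, hp, rfl⟩
        exact ⟨p, hp, rfl⟩
      · rintro ⟨p, hp, rfl⟩
        exact ⟨⟨p, trivial⟩, hp, rfl⟩
    rw [h2] at h1
    exact h1
  two := {
    PT := fun p hp => ⟨p, hp, 1, P.one_mem, by group⟩
    RT := by
      rintro _ ⟨q, hq, rfl⟩
      exact ⟨1, P.one_mem, q, hq, by rw [one_mul]; rfl⟩
    sup := by
      rintro _ ⟨p, hp, q, hq, rfl⟩
      exact ⟨p, hp, _, ⟨q, hq, rfl⟩, rfl⟩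
    comm := by
      rintro p hp _ ⟨q, hq, rfl⟩
      exact hc p hp q hq
    inf := by
      rintro p hp ⟨q, hq, e⟩
      exact hi p hp q hq e.symm }
  nrm := by
    have hi' : τ⁻¹ = τ := inv_eq_of_mul_eq_one_left hτ
    intro m hm t ht
    rcases hm with hm | hm
    · exact mul_mem (mul_mem hm ht) (inv_mem hm)
    · have h1 := mul_mem (mul_mem hm (twoT_conj hτ ht)) (inv_mem hm)
      convert h1 using 1
      calc m * t * m⁻¹ = m * (τ * τ) * t * (τ * τ)⁻¹ * m⁻¹ := by rw [hτ]; group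
        _ = _ := by group
  sw := by
    have hi' : τ⁻¹ = τ := inv_eq_of_mul_eq_one_left hτ
    intro m hm hmT
    rcases hm with hm | hm
    · exact absurd hm hmT
    · -- `m τ` commutes with `u`, `u^τ`
      have key : ∀ t ∈ twoT P τ hc, t * u = u * t ∧ t * (τ * u * τ⁻¹) = τ * u * τ⁻¹ * t := by
        rintro _ ⟨p, hp, q, hq, rfl⟩
        have c1 := hP.cen p hp
        have c2 := hP.cen q hq
        have c3 := hc u hP.mem q hq
        have c4 := hc p hp u hP.mem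
        constructor
        · calc p * (τ * q * τ⁻¹) * u = p * (τ * q * τ⁻¹ * u) := by group
            _ = p * u * (τ * q * τ⁻¹) := by rw [← c3]; group
            _ = _ := by rw [← c1]; group
        · calc p * (τ * q * τ⁻¹) * (τ * u * τ⁻¹) = p * (τ * (q * u) * τ⁻¹) := by group
            _ = p * (τ * u * τ⁻¹) * (τ * q * τ⁻¹) := by rw [← c2]; group
            _ = _ := by rw [c4]; group
      obtain ⟨h1, h2⟩ := key _ hm
      constructor
      · calc m * u * m⁻¹ = (m * τ) * (τ⁻¹ * u * τ) * (m * τ)⁻¹ := by group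
          _ = (m * τ) * (τ * u * τ⁻¹) * (m * τ)⁻¹ := by rw [hi']
          _ = _ := by rw [h2, mul_inv_cancel_right]
      · calc m * (τ * u * τ⁻¹) * m⁻¹ = (m * τ) * (τ⁻¹ * τ * u * (τ⁻¹ * τ)) * (m * τ)⁻¹ := by
              calc m * (τ * u * τ⁻¹) * m⁻¹ = (m * τ) * u * (τ⁻¹ * m⁻¹) := by group
                _ = _ := by group
          _ = (m * τ) * u * (m * τ)⁻¹ := by group
          _ = _ := by rw [h1, mul_inv_cancel_right]

end map

/-! ### the model in `Perm (Fin 9)` -/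

open Equiv Equiv.Perm

namespace WrPerm

/-- the elements of `D₈` on `{0,1,2,3}` -/
def E (i j k : Bool) : Perm (Fin 9) :=
  (bif i then swap 0 1 else 1) * (bif j then swap 2 3 else 1) *
    (bif k then swap 0 2 * swap 1 3 else 1)

theorem E_mul : ∀ i j k i' j' k' : Bool, ∃ i'' j'' k'', E i j k * E i' j' k' = E i'' j'' k'' := by
  decide +kernel

theorem E_inv : ∀ i j k : Bool, ∃ i' j' k', (E i j k)⁻¹ = E i' j' k' := by decide +kernel

theorem E_inj : ∀ i j k i' j' k' : Bool, E i j k = E i' j' k' → i = i' ∧ j = j' ∧ k = k' := by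
  decide +kernel

theorem E_fix : ∀ i j k : Bool, ∀ x : Fin 9, 4 ≤ x → E i j k x = x := by decide +kernel

/-- `D₈` on `{0,1,2,3}` -/
def P0 : Subgroup (Perm (Fin 9)) where
  carrier := {g | ∃ i j k, g = E i j k}
  mul_mem' := by
    rintro _ _ ⟨i, j, k, rfl⟩ ⟨i', j', k', rfl⟩
    obtain ⟨a, b, c, h⟩ := E_mul i j k i' j' k'
    exact ⟨a, b, c, h⟩
  one_mem' := ⟨false, false, false, by decide +kernel⟩
  inv_mem' := by
    rintro _ ⟨i, j, k, rfl⟩
    obtain ⟨a, b, c, h⟩ := E_inv i j k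
    exact ⟨a, b, c, h⟩

theorem card_P0 : Nat.card P0 = 8 := by
  let e : Bool × Bool × Bool ≃ P0 := Equiv.ofBijective
    (fun x => ⟨E x.1 x.2.1 x.2.2, _, _, _, rfl⟩) ⟨by
      rintro ⟨i, j, k⟩ ⟨i', j', k'⟩ h
      obtain ⟨h1, h2, h3⟩ := E_inj _ _ _ _ _ _ (congrArg Subtype.val h)
      simp only at h1 h2 h3
      subst h1 h2 h3
      rfl, by
      rintro ⟨_, i, j, k, rfl⟩
      exact ⟨(i, j, k), rfl⟩⟩
  rw [← Nat.card_congr e]
  simp

/-- the central involution -/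
def u0 : Perm (Fin 9) := swap 0 1 * swap 2 3

/-- the swap -/
def t0 : Perm (Fin 9) := swap 0 4 * swap 1 5 * swap 2 6 * swap 3 7

theorem u0_cen : ∀ i j k : Bool, u0 * E i j k = E i j k * u0 := by decide +kernel

theorem eight_P0 : EightS P0 u0 := by
  have hu : u0 ∈ P0 := ⟨true, true, false, by decide +kernel⟩
  obtain ⟨z, hz⟩ := exists_eightS card_P0 ⟨_, ⟨true, false, false, rfl⟩, _, ⟨false, false, true, rfl⟩,
    by decide +kernel⟩
  rcases hz.cen' u0 hu (by rintro _ ⟨i, j, k, rfl⟩; exact u0_cen i j k) with h | h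
  · exact absurd h (by decide +kernel)
  · rw [h]; exact hz

theorem t0_sq : t0 * t0 = 1 := by decide +kernel

theorem t0_lt : ∀ x : Fin 9, x < 4 → 4 ≤ t0⁻¹ x := by decide +kernel

theorem P0_fix {p : Perm (Fin 9)} (hp : p ∈ P0) {x : Fin 9} (hx : 4 ≤ x) : p x = x := by
  obtain ⟨i, j, k, rfl⟩ := hp
  exact E_fix i j k x hx

theorem P0_fix' {p : Perm (Fin 9)} (hp : p ∈ P0) {x : Fin 9} (hx : x < 4) :
    (t0 * p * t0⁻¹) x = x := by
  rw [Perm.mul_apply, Perm.mul_apply, P0_fix hp (t0_lt x hx)]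
  exact Equiv.apply_symm_apply t0 x

theorem P0_disj {p q : Perm (Fin 9)} (hp : p ∈ P0) (hq : q ∈ P0) : Disjoint p (t0 * q * t0⁻¹) := by
  intro x
  by_cases hx : x < 4
  · exact Or.inr (P0_fix' hq hx)
  · exact Or.inl (P0_fix hp (not_lt.mp hx))

theorem P0_comm : ∀ p ∈ P0, ∀ q ∈ P0, p * (t0 * q * t0⁻¹) = t0 * q * t0⁻¹ * p :=
  fun _ hp _ hq => (P0_disj hp hq).commute

theorem model : Wr (twoM P0_comm t0_sq) (twoT P0 t0 P0_comm) P0
    (P0.map (MulAut.conj t0).toMonoidHom) u0 (t0 * u0 * t0⁻¹) := by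
  refine wr_of_swap eight_P0 P0_comm t0_sq ?_ ?_
  · intro p hp q hq e
    have h1 := P0_disj hp hq
    rw [← e] at h1
    ext x
    rcases h1 x with h2 | h2 <;> rw [h2] <;> rfl
  · rintro ⟨p, hp, q, hq, e⟩
    have h1 : t0 0 = p ((t0 * q * t0⁻¹) 0) := by
      conv_lhs => rw [e]
      rfl
    rw [P0_fix' hq (by decide)] at h1
    have h2 : t0 0 = 4 := by decide +kernel
    rw [h2] at h1
    have h3 := P0_fix hp (x := 4) (le_refl _)
    rw [← h3] at h1
    exact absurd (p.injective h1) (by decide)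

theorem card_model : Nat.card ↥(twoM P0_comm t0_sq) = 128 := by
  have h := model
  have h1 : Nat.card (twoT P0 t0 P0_comm) = 64 := by
    rw [h.two.card, h.hP.card, h.hR.card]
  have h2 := Lib.SylowNormalInf.card_mul_relIndex _ _ h.le
  rw [h1, h.idx] at h2
  omega

theorem root_u0 : IsRoot u0 := ⟨by decide +kernel, by decide +kernel⟩

end WrPerm

/-! ### the general case -/

open WrPerm

variable {G : Type*} [Group G] {α : Type*} [Fintype α] [DecidableEq α]

/-- **Sylow 2-subgroups of `Sym(9)`** -/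
theorem exists_wr {S1 : Subgroup G} {Ω : Finset α} (hΩ : Ω.card = 9) (φ : ↥S1 →* Perm α)
    (hφ : Function.Injective φ) (hsym : ∀ s, φ s ∈ sym Ω) (hc : Nat.card S1 = 128) :
    ∃ (T P R : Subgroup G) (u v : G) (hu : u ∈ S1) (hv : v ∈ S1), Wr S1 T P R u v ∧
      IsRoot (φ ⟨u, hu⟩) ∧ IsRoot (φ ⟨v, hv⟩) ∧ Disjoint (φ ⟨u, hu⟩) (φ ⟨v, hv⟩) := by
  classical
  have h2 : Fact (Nat.Prime 2) := ⟨Nat.prime_two⟩
  have e : Fin 9 ≃ {x // x ∈ Ω} := by
    apply Fintype.equivOfCardEq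
    rw [Fintype.card_fin, Fintype.card_coe, hΩ]
  let θ : Perm (Fin 9) →* Perm α := extendDomainHom e
  have hθ : Function.Injective θ := extendDomainHom_injective e
  have hr : θ.range = sym Ω := by
    have h1 : θ.range ≤ sym Ω := by
      rintro _ ⟨g, rfl⟩ x hx
      exact extendDomain_apply_not_subtype g e hx
    have h3 : Nat.card (sym Ω) = Nat.card (Perm (Fin 9)) := by
      rw [← Nat.card_congr (symEquiv Ω).toEquiv]
      exact (Nat.card_congr (permCongrHom e).toEquiv).symm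
    apply eq_of_le_of_card_ge h1
    rw [h3]
    exact le_of_eq (Nat.card_congr (MonoidHom.ofInjective hθ).toEquiv)
  obtain ⟨H, hH⟩ : ∃ H, H = φ.range := ⟨_, rfl⟩
  have hHc : Nat.card H = 128 := by
    rw [hH, ← hc]
    exact (Nat.card_congr (MonoidHom.ofInjective hφ).toEquiv).symm
  have hHs : H ≤ θ.range := by
    rw [hr, hH]
    rintro _ ⟨s, rfl⟩
    exact hsym s
  let H0 : Subgroup (Perm (Fin 9)) := H.comap θ
  have hH0 : H0.map θ = H := by
    rw [map_comap_eq, inf_eq_right]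
    exact hHs
  have hH0c : Nat.card H0 = 128 := by
    rw [← hHc, ← hH0, card_map_of_injective hθ]
  -- Sylow
  have hidx : ∀ K : Subgroup (Perm (Fin 9)), Nat.card K = 128 → IsPGroup 2 K ∧ ¬ 2 ∣ K.index := by
    intro K hK
    refine ⟨IsPGroup.of_card (n := 7) (by rw [hK]; norm_num), fun hd => ?_⟩
    have h3 := K.card_mul_index
    rw [hK, Nat.card_eq_fintype_card, Fintype.card_perm, Fintype.card_fin] at h3
    obtain ⟨c, hc⟩ := hd
    rw [hc] at h3
    have h4 : Nat.factorial 9 = 362880 := by decide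
    rw [h4] at h3
    omega
  obtain ⟨hp1, hi1⟩ := hidx H0 hH0c
  obtain ⟨hp2, hi2⟩ := hidx _ card_model
  obtain ⟨g, hg⟩ := MulAction.exists_smul_eq (Perm (Fin 9)) (hp2.toSylow hi2) (hp1.toSylow hi1)
  have hg' : (twoM P0_comm t0_sq).map (MulAut.conj g).toMonoidHom = H0 := by
    have h3 := congrArg (fun S : Sylow 2 (Perm (Fin 9)) => (S : Subgroup (Perm (Fin 9)))) hg
    exact h3
  -- the homomorphism
  let F : ↥(twoM P0_comm t0_sq) →* Perm α :=
    θ.comp ((MulAut.conj g).toMonoidHom.comp (twoM P0_comm t0_sq).subtype)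
  have hF : Function.Injective F := hθ.comp ((MulAut.conj g).injective.comp Subtype.val_injective)
  have hFr : F.range = φ.range := by
    rw [← hH, ← hH0, ← hg']
    ext y
    constructor
    · rintro ⟨m, rfl⟩
      exact ⟨_, ⟨m, m.2, rfl⟩, rfl⟩
    · rintro ⟨_, ⟨m, hm, rfl⟩, rfl⟩
      exact ⟨⟨m, hm⟩, rfl⟩
  let F' : ↥(twoM P0_comm t0_sq) →* ↥φ.range := F.codRestrict φ.range fun m => by
    rw [← hFr]; exact ⟨m, rfl⟩
  have hF' : Function.Injective F' := fun a b hab => hF (congrArg Subtype.val hab)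
  let ι : ↥S1 ≃* ↥φ.range := MonoidHom.ofInjective hφ
  let f : ↥(twoM P0_comm t0_sq) →* G := S1.subtype.comp (ι.symm.toMonoidHom.comp F')
  have hf : Function.Injective f :=
    Subtype.val_injective.comp (ι.symm.injective.comp hF')
  have hfr : f.range = S1 := by
    apply le_antisymm
    · rintro _ ⟨m, rfl⟩
      exact (ι.symm (F' m)).2
    · intro s hs
      have h3 : (φ ⟨s, hs⟩ : Perm α) ∈ F.range := by rw [hFr]; exact ⟨_, rfl⟩
      obtain ⟨m, hm⟩ := h3
      refine ⟨m, ?_⟩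
      have h4 : F' m = ι ⟨s, hs⟩ := Subtype.ext hm
      change ((ι.symm (F' m) : ↥S1) : G) = s
      rw [h4, MulEquiv.symm_apply_apply]
  have hφf : ∀ m (hm : f m ∈ S1), φ ⟨f m, hm⟩ = θ (g * m * g⁻¹) := by
    intro m hm
    have h3 : (⟨f m, hm⟩ : ↥S1) = ι.symm (F' m) := rfl
    have h4 : ((ι (ι.symm (F' m)) : ↥φ.range) : Perm α) = φ (ι.symm (F' m)) := rfl
    rw [h3, ← h4, MulEquiv.apply_symm_apply]
    rfl
  have hW := model.map f hf
  rw [hfr] at hW
  have root : ∀ w : Perm (Fin 9), IsRoot w → IsRoot (θ (g * w * g⁻¹)) := by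
    intro w hw
    have h3 := hw.conj g
    refine ⟨by rw [← map_mul, h3.1, map_one], ?_⟩
    rw [← h3.2]
    exact card_support_extend_domain e
  refine ⟨_, _, _, _, _, hW.uM, hW.vM, hW, ?_, ?_, ?_⟩
  · rw [hφf]
    exact root _ root_u0
  · rw [hφf]
    exact root _ (root_u0.conj t0)
  · rw [hφf, hφf]
    apply Disjoint.extendDomain
    exact Disjoint.conj (P0_disj eight_P0.mem eight_P0.mem) g

end Cfsg.Agent.UGT.A9
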