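import Cfsg.Agent.UGT.A9.Seven1B
import Cfsg.Agent.UGT.A9.Seven2
import Cfsg.Agent.UGT.A9.WrPerm

/-!
# NodeA9, section 2: the end

`Seven9.false`: the case of section 2 is impossible.
-/

set_option autoImplicit false
set_option linter.unusedSectionVars false

open Cfsg Subgroup Equiv Equiv.Perm
open Cfsg.Agent.SignalizersComponents Cfsg.Agent.Lib
open Cfsg.Agent.SignalizersComponents.IntrinsicBasic
open Cfsg.Agent.Intrinsic Cfsg.Agent.Intrinsic.Basic Cfsg.Agent.Intrinsic.Cen Cfsg.Agent.Intrinsic.Diag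
open Cfsg.Agent.UAlt
open Cfsg.Agent.UGT.Triple Cfsg.Agent.UGT.Iface Cfsg.Agent.UGT.TriBase Cfsg.Agent.UGT.Nodes
open Cfsg.Agent.StdAlt.Roots (IsRoot)
open scoped commutatorElement

namespace Cfsg.Agent.UGT.A9.Seven

universe u

local notation "Fs" => generalizedFittingSubgroup

/-- `s` or `y s` in `P` -/
def adj {G : Type*} [Group G] (P : Subgroup G) (y : G) (hy : y * y = 1) (hn : ∀ p ∈ P, y * p * y⁻¹ ∈ P) :
    Subgroup G where
  carrier := {s | s ∈ P ∨ y * s ∈ P}
  mul_mem' := by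
    have hyi : y⁻¹ = y := inv_eq_of_mul_eq_one_left hy
    rintro s t (hs | hs) (ht | ht)
    · exact Or.inl (mul_mem hs ht)
    · right
      have h1 := mul_mem (hn s hs) ht
      have e : y * s * y⁻¹ * (y * t) = y * (s * t) := by group
      rwa [e] at h1
    · right
      have h1 := mul_mem hs ht
      rwa [mul_assoc] at h1
    · left
      have h1 := mul_mem (hn _ hs) ht
      have e : y * (y * s) * y⁻¹ * (y * t) = (y * y) * (s * t) := by group
      rwa [e, hy, one_mul] at h1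
  one_mem' := Or.inl (one_mem _)
  inv_mem' := by
    have hyi : y⁻¹ = y := inv_eq_of_mul_eq_one_left hy
    rintro s (hs | hs)
    · exact Or.inl (inv_mem hs)
    · right
      have h1 := hn _ (inv_mem hs)
      have e : y * (y * s)⁻¹ * y⁻¹ = y * s⁻¹ * (y * y)⁻¹ := by group
      rwa [e, hy, inv_one, mul_one] at h1

theorem mem_adj {G : Type*} [Group G] {P : Subgroup G} {y : G} {hy : y * y = 1}
    {hn : ∀ p ∈ P, y * p * y⁻¹ ∈ P} {s : G} : s ∈ adj P y hy hn ↔ s ∈ P ∨ y * s ∈ P := Iff.rfl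

theorem le_adj {G : Type*} [Group G] {P : Subgroup G} {y : G} {hy : y * y = 1}
    {hn : ∀ p ∈ P, y * p * y⁻¹ ∈ P} : P ≤ adj P y hy hn := fun _ h => Or.inl h

theorem self_mem_adj {G : Type*} [Group G] {P : Subgroup G} {y : G} {hy : y * y = 1}
    {hn : ∀ p ∈ P, y * p * y⁻¹ ∈ P} : y ∈ adj P y hy hn := Or.inr (by rw [hy]; exact one_mem _)

theorem two_mul_le {G : Type*} [Group G] [Finite G] {P Q : Subgroup G} (h : P ≤ Q) (hne : ¬ Q ≤ P) :
    2 * Nat.card P ≤ Nat.card Q := by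
  have h1 := card_dvd_of_le h
  obtain ⟨k, hk⟩ := h1
  have h2 : 0 < Nat.card Q := Nat.card_pos
  have h3 : k ≠ 0 := by rintro rfl; omega
  have h4 : k ≠ 1 := by
    rintro rfl
    apply hne
    rw [mul_one] at hk
    exact (Subgroup.eq_of_le_of_card_ge h hk.le).ge
  rw [hk, mul_comm]
  exact Nat.mul_le_mul_left _ (by omega)

/-- a 2-group of permutations of nine points has order at most 128 -/
theorem card_two_le {α : Type*} [Fintype α] [DecidableEq α] {S : Finset α} (h9 : S.card = 9)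
    {Q : Subgroup (Perm α)} (hQ : IsPGroup 2 ↥Q) (hS : Q ≤ sym S) : Nat.card Q ≤ 128 := by
  have h2 : Fact (Nat.Prime 2) := ⟨Nat.prime_two⟩
  have h1 := card_dvd_of_le hS
  have h0 : Nat.card ↥S = 9 := by rw [Nat.card_eq_fintype_card, Fintype.card_coe, h9]
  rw [← Nat.card_congr (symEquiv S).toEquiv, Nat.card_perm, h0] at h1
  obtain ⟨n, hn⟩ := hQ.exists_card_eq
  rw [hn] at h1 ⊢
  have h3 : n ≤ 7 := by
    by_contra hc
    push Not at hc
    have h4 : 2 ^ 8 ∣ Nat.factorial 9 := (pow_dvd_pow 2 hc).trans h1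
    exact absurd h4 (by decide)
  calc 2 ^ n ≤ 2 ^ 7 := Nat.pow_le_pow_right (by norm_num) h3
    _ = 128 := by norm_num

variable {G : Type u} [Group G] [Finite G] {α : Type*} [Fintype α] [DecidableEq α]
  {L : Subgroup G} {S : Finset α} {x a : G} {M : Mod L S}

/-- `64` divides the order of a Sylow 2-subgroup of `L` -/
theorem dvd_card_L (M : Mod L S) (h9 : S.card = 9) : 2 ^ 6 ∣ Nat.card L := by
  have h1 := (M.altType_of_card h9).card (by norm_num)
  have h2 : Nat.card L = Nat.card (↥L ⧸ oddCore ↥L) * Nat.card (oddCore ↥L) :=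
    card_eq_card_quotient_mul_card_subgroup _
  have h3 : Nat.card (↥L ⧸ oddCore ↥L) = 181440 := by
    have : Nat.factorial 9 = 362880 := by decide
    omega
  rw [h2, h3]
  exact Dvd.dvd.mul_right (by norm_num) _

/-- `x` is odd on nine points -/
theorem x_odd (T : IsTriple x a L) (M : Mod L S) (h9 : S.card = 9) : M.φ x ∉ alt S := by
  intro h
  have hxL := T.x_mem
  obtain ⟨ρ, h1, -, -, -, -, -, h7⟩ := RedAlt.exists_rho (M.mem_sym x hxL)
    (M.sq hxL (sq_of_order T.invx)) (RedAlt.three_fix T M).1 (by omega)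
  exact not_alt_of_seven (mul_mem h h1) (by rw [h7, h9])

/-- **Section 2.** -/
theorem _root_.Cfsg.Agent.UGT.A9.Seven9.false (hG : MinCex G)
    (hK4 : ¬ SectionalPRankLE 2 4 ↥(Fs G)) (hW : W9 G) (h3 : F3 G) (T : IsTriple x a L)
    (h : Seven9 M) : False := by
  classical
  have h2 : Fact (Nat.Prime 2) := ⟨Nat.prime_two⟩
  have haa := sq_of_order T.inva
  have hxx := sq_of_order T.invx
  have h9 := h.card
  have hxodd := x_odd T M h9
  have haL : Fixes a L := fixes_self' T.comp.le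
  have hφa : M.φ a = 1 := (M.fixes_iff haL.1).mpr haL
  have hCL : ∀ g ∈ centralizer ({a} : Set G), g ∈ normalizer (L : Set G) := fun g hg =>
    mem_normalizer_iff_cj.mpr (cj_L hW h3 T h (comm_c hg))
  obtain ⟨R, hR, hxR'⟩ := exists_isSyl (E := centralizer ({a} : Set G)) (R₀ := zpowers x)
    (IsPGroup.of_card (n := 1) (by rw [Nat.card_zpowers, T.invx, pow_one]))
    (by rw [zpowers_le]; exact mem_c T.comm.symm)
  have hxR : x ∈ R := hxR' (mem_zpowers x)
  have hRL : ∀ g ∈ R, g ∈ normalizer (L : Set G) := fun g hg => hCL g (hR.le hg)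
  have hRa : ∀ g ∈ R, g * a = a * g := fun g hg => comm_c (hR.le hg)
  have hR2 : ∀ g ∈ R, ∃ n : ℕ, g ^ 2 ^ n = 1 := fun g hg => by
    obtain ⟨n, hn⟩ := hR.two ⟨g, hg⟩
    exact ⟨n, congrArg Subtype.val hn⟩
  -- `R ∩ L`
  have hP := hR.inf T.comp.le hCL
  have hP64 : 2 ^ 6 ∣ Nat.card ↥(R ⊓ L) := hP.dvd_card (dvd_card_L M h9)
  have hPx : ∀ p ∈ R ⊓ L, x * p * x⁻¹ ∈ R ⊓ L := fun p hp =>
    ⟨R.mul_mem (R.mul_mem hxR hp.1) (R.inv_mem hxR), (mem_normalizer_iff.mp T.x_mem p).mp hp.2⟩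
  obtain ⟨S1, hS1⟩ : ∃ S1, S1 = adj (R ⊓ L) x hxx hPx := ⟨_, rfl⟩
  have hm1 : ∀ s, s ∈ S1 ↔ s ∈ R ⊓ L ∨ x * s ∈ R ⊓ L := fun s => by rw [hS1]; exact mem_adj
  have hS1R : S1 ≤ R := by
    intro s hs
    rcases (hm1 s).mp hs with h1 | h1
    · exact h1.1
    · have h4 := R.mul_mem (R.inv_mem hxR) h1.1
      rwa [inv_mul_cancel_left] at h4
  have hxS1 : x ∈ S1 := by rw [hS1]; exact self_mem_adj
  have hinj1 : ∀ s ∈ R ⊓ L, M.φ s = 1 → s = 1 := by
    intro s hs h1
    obtain ⟨n, hn⟩ := hR2 s hs.1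
    exact eq_one_of_mem_core ((M.core_iff s hs.2).mp h1) hn
  -- elements of `S1` with even label
  have hev : ∀ s ∈ S1, M.φ s ∈ alt S → s ∈ R ⊓ L := by
    intro s hs he
    rcases (hm1 s).mp hs with h1 | h1
    · exact h1
    · exfalso
      apply hxodd
      have h4 := M.mem_alt _ h1.2
      rw [M.mul _ _ T.x_mem (hRL s (hS1R hs))] at h4
      have h5 := mul_mem h4 (inv_mem he)
      rwa [mul_inv_cancel_right] at h5
  have hinj : ∀ s ∈ S1, M.φ s = 1 → s = 1 := fun s hs h1 =>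
    hinj1 s (hev s hs (by rw [h1]; exact one_mem _)) h1
  -- the label homomorphism on `S1`
  obtain ⟨f, hf⟩ : ∃ f : ↥R →* Perm α, ∀ s : ↥R, f s = M.φ s :=
    ⟨M.hom.comp (inclusion hRL), fun _ => rfl⟩
  obtain ⟨φ, hφ⟩ : ∃ φ : ↥S1 →* Perm α, ∀ s : ↥S1, φ s = M.φ s :=
    ⟨f.comp (inclusion hS1R), fun s => hf _⟩
  have hφi : Function.Injective φ := by
    rw [injective_iff_map_eq_one]
    intro s hs
    rw [hφ] at hs
    exact Subtype.ext (hinj s s.2 hs)
  have hφs : ∀ s, φ s ∈ sym S := fun s => by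
    rw [hφ]; exact M.mem_sym _ (hRL _ (hS1R s.2))
  have hS1p : IsPGroup 2 ↥S1 := hR.two.to_le hS1R
  have hle128 : Nat.card S1 ≤ 128 := by
    have h4 : IsPGroup 2 ↥φ.range := by
      rw [MonoidHom.range_eq_map]
      exact (hS1p.to_subgroup ⊤).map φ
    have h5 := card_two_le h9 h4 (by rintro _ ⟨s, rfl⟩; exact hφs s)
    rwa [← Nat.card_congr (MonoidHom.ofInjective hφi).toEquiv] at h5
  have hx_not : ¬ S1 ≤ R ⊓ L := fun h4 => hxodd (M.mem_alt x (h4 hxS1).2)
  have hPle : R ⊓ L ≤ S1 := by rw [hS1]; exact le_adj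
  have hge128 : 128 ≤ Nat.card S1 := by
    have h4 := two_mul_le hPle hx_not
    have h5 := Nat.le_of_dvd Nat.card_pos hP64
    omega
  have hc128 : Nat.card S1 = 128 := le_antisymm hle128 hge128
  -- `a`
  have haS1 : a ∉ S1 := fun h4 => ne_one_of_order T.inva (hinj a h4 hφa)
  have haR : a ∈ R := by
    have h5 : IsPGroup 2 ↥(R ⊔ zpowers a) := by
      refine Tri.isPGroup_sup_zpowers (n := 1) hR.two ?_ (by rw [pow_one, pow_two]; exact haa)
      rw [mem_normalizer_iff_cj]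
      ext y
      rw [mem_cj]
      have e : ∀ y, a⁻¹ * y * a ∈ R ↔ y ∈ R := by
        intro y
        constructor
        · intro hy
          have h7 := hRa _ hy
          have h8 : a⁻¹ * y * a = y := by
            have h9' : y * a = a * (a⁻¹ * y * a) := by group
            rw [← h7] at h9'
            exact (mul_right_cancel h9').symm
          rwa [h8] at hy
        · intro hy
          rw [mul_assoc, hRa y hy, inv_mul_cancel_left]
          exact hy
      exact e y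
    have h6 := hR.max _ h5 (sup_le hR.le (by rw [zpowers_le]; exact mem_c rfl)) le_sup_left
    rw [← h6]
    exact mem_sup_right (mem_zpowers a)
  have hSa : ∀ p ∈ S1, a * p * a⁻¹ ∈ S1 := fun p hp => by
    rw [← hRa p (hS1R hp), mul_inv_cancel_right]; exact hp
  obtain ⟨S2, hS2⟩ : ∃ S2, S2 = adj S1 a haa hSa := ⟨_, rfl⟩
  have hm2 : ∀ s, s ∈ S2 ↔ s ∈ S1 ∨ a * s ∈ S1 := fun s => by rw [hS2]; exact mem_adj
  have hS2R : S2 ≤ R := by
    intro s hs
    rcases (hm2 s).mp hs with h4 | h4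
    · exact hS1R h4
    · have h5 := R.mul_mem (R.inv_mem haR) (hS1R h4)
      rwa [inv_mul_cancel_left] at h5
  have hcardR : Nat.card R ≤ 256 := by
    have h4 : Nat.card R = Nat.card f.range * Nat.card f.ker := by
      rw [← Nat.card_congr (QuotientGroup.quotientKerEquivRange f).toEquiv]
      exact card_eq_card_quotient_mul_card_subgroup _
    have h5 : Nat.card f.range ≤ 128 := by
      refine card_two_le h9 ?_ ?_
      · rw [MonoidHom.range_eq_map]
        exact (hR.two.to_subgroup ⊤).map f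
      · rintro _ ⟨s, rfl⟩
        rw [hf]
        exact M.mem_sym _ (hRL _ s.2)
    have h6 : Nat.card f.ker ≤ 2 := by
      have h7 : ∀ s : ↥f.ker, ((s : ↥R) : G) = 1 ∨ ((s : ↥R) : G) = a := by
        rintro ⟨s, hs⟩
        rw [MonoidHom.mem_ker, hf] at hs
        obtain ⟨n, hn⟩ := hR2 s s.2
        exact fix_two hW h3 T h (hRa s s.2) hn ((M.fixes_iff (hRL s s.2)).mp hs)
      have h8 : Function.Injective (fun s : ↥f.ker => (decide (((s : ↥R) : G) = 1) : Bool)) := by
        intro s t hst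
        simp only [decide_eq_decide] at hst
        apply Subtype.ext
        apply Subtype.ext
        rcases h7 s with e1 | e1
        · rw [e1, hst.mp e1]
        · rcases h7 t with e2 | e2
          · rw [hst.mpr e2, e2]
          · rw [e1, e2]
      have h9' := Nat.card_le_card_of_injective _ h8
      simpa using h9'
    rw [h4]
    calc Nat.card f.range * Nat.card f.ker ≤ 128 * 2 := Nat.mul_le_mul h5 h6
      _ = 256 := by norm_num
  have hS2eq : S2 = R := by
    have h4 : S1 ≤ S2 := by rw [hS2]; exact le_adj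
    have h5 : ¬ S2 ≤ S1 := fun h6 => haS1 (h6 (by rw [hS2]; exact self_mem_adj))
    have h6 := two_mul_le h4 h5
    exact Subgroup.eq_of_le_of_card_ge hS2R (by omega)
  have hcov : ∀ s ∈ R, s ∈ S1 ∨ a * s ∈ S1 := fun s hs => (hm2 s).mp (hS2eq ▸ hs)
  -- the wreath product
  obtain ⟨T', P, Q, u, v, hu, hv, hwr, hur, hvr, hdis⟩ := exists_wr h9 φ hφi hφs hc128
  rw [hφ] at hur hvr
  rw [hφ, hφ] at hdis
  have hroot : ∀ w ∈ S1, IsRoot (M.φ w) → M.Rt w := by
    intro w hw hwr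
    have h4 : M.φ w ∈ alt S :=
      ⟨hwr.mem_alternatingGroup, M.mem_sym w (hRL w (hS1R hw))⟩
    refine ⟨(hev w hw h4).2, ?_, hwr⟩
    refine hinj _ (mul_mem hw hw) ?_
    rw [M.mul _ _ (hRL w (hS1R hw)) (hRL w (hS1R hw))]
    exact hwr.1
  have hRu := hroot u hu hur
  have hRv := hroot v hv hvr
  obtain ⟨K, hK, hle, h7⟩ := h.ex v hRv
  have D : Dat x a M v K := ⟨T, h9, hRv, hK, hle, h7⟩
  obtain ⟨MK⟩ := h7.mod_of_card (S := (Finset.univ : Finset (Fin 7))) (by simp) le_rfl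
  have huv : u * v = v * u := hwr.uv
  have hucmp : u ∈ M.cmp v := by
    refine M.mem_cmp hRu.mem huv.symm ?_ (n := 1) (by rw [pow_one, pow_two]; exact hRu.sq)
    refine ⟨hur.mem_alternatingGroup, fun i hi => ?_⟩
    by_cases hiS : i ∈ S
    · rcases hdis i with h4 | h4
      · exact h4
      · exact absurd (mem_fixIn.mpr ⟨hiS, h4⟩) hi
    · exact M.mem_sym u (hRL u (hS1R hu)) i hiS
  have huK : u ∈ K := hle hucmp
  have hφu : MK.φ u ≠ 1 := fun h4 =>
    hRu.root.ne_one (eq_one_of_mem_core_sq ((MK.core_iff u huK).mp h4) hRu.sq)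
  refine Sev.false hG hK4 (x := x) (a := a) (u := u) (v := v) (S := R) (S1 := S1) (T := T') (P := P)
    (R := Q) (K := K) ⟨T.invx, ?_, ⟨hwr, haa, hS1R, haR, haS1, hRa, hcov⟩, hR.two, ?_, hK, huK, ?_, ?_⟩
  · intro h4
    obtain ⟨d, hd, -, hdf⟩ := T.bad
    rw [h4, mem_bot] at hd
    exact hdf (hd ▸ McLLyComp.Act.fixes_one L)
  · intro Q' hQ1 hQ2 hQ3
    exact (hR.max Q' hQ2 hQ1 hQ3).le
  · intro h4
    exact hφu ((MK.fixes_iff (le_normalizer huK)).mpr h4)
  · refine cj_of_mod hK.le MK D.aK huK hφu fun i hi => ?_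
    have h4 := MK.cmp_mem_alt ((D.cmp_eq MK).1 ▸ hucmp)
    exact h4.2 i fun h5 => hi (mem_fixIn.mp h5).2

end Cfsg.Agent.UGT.A9.Seven
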