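import Cfsg.Agent.UGT.A9.BalF
import Cfsg.Agent.UGT.A9.IsoEnd
import Cfsg.Agent.UGT.A9.Seven3
import Cfsg.Agent.UGT.A9.BadEnd
import Cfsg.Agent.UGT.A9.DgEight
import Cfsg.Agent.UGT.Nodes
import Cfsg.Agent.UGT.InUList

/-!
# NodeA9: assembly

* `f3`: the type facts used in section 2.
* `single_false`: no triple of type `A₉` with a single pump-up.
* `nodeA9`: the node.
-/

set_option autoImplicit false
set_option linter.unusedSectionVars false

open Cfsg Subgroup Equiv Equiv.Perm
open Cfsg.Agent.SignalizersComponents Cfsg.Agent.Lib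
open Cfsg.Agent.SignalizersComponents.IntrinsicBasic
open Cfsg.Agent.Intrinsic Cfsg.Agent.Intrinsic.Basic
open Cfsg.Agent.FixBN.BTheorem Cfsg.Agent.FixBN.BRelative
open Cfsg.Agent.UAlt Cfsg.Agent.UGT.Triple Cfsg.Agent.UGT.Iface Cfsg.Agent.UGT.Nodes Cfsg.Agent.UGT.InUList

namespace Cfsg.Agent.UGT.A9

universe u

section

variable {G : Type u} [Group G] [Finite G]

theorem f3 : F3 G := fun _ _ _ _ hL =>
  ⟨fun _ h7 => LTwo.l2_no_alt_self hL h7, fun _ _ _ _ _ _ hE _ h7 => LTwo.l2_no_alt_comp hL hE h7⟩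

variable {α : Type*} [Fintype α] [DecidableEq α] {L : Subgroup G} {S : Finset α} {x a : G}

/-- no triple of type `A₉` with a single pump-up of type `A₅` or `A₇` -/
theorem single_false (FT : Functor.OddSol G) (k4 : PK4.{u}) (hE : Excl.{u} K4End) (hG : MinCex G)
    (W : W9 G) (T : IsTriple x a L) {M : Mod L S} (h9 : S.card = 9) {r : G} (hr : M.Rt r)
    {K : Subgroup G} (hK : Dg.Sgl M a r K) (h : AltType K 5 ∨ AltType K 7) : False := by
  rcases h with h | h
  · have hI := iso9_of_root h9 hr hK.comp hK.le h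
    exact iso_false FT hG W hI (bal_all W T hI)
  · exact (seven9_of_root h9 hr hK.comp hK.le h).false hG (rank_fs k4 hE hG) W f3 T

end

/-- **N4**: no triple of type `A₉` in a minimal counterexample with types `PSL₂(q)`, `A₇`, `A₉` -/
theorem nodeA9 (FT : ∀ (G : Type u) [Group G] [Finite G], Functor.OddSol G) (k4 : PK4.{u})
    (hE : Excl.{u} K4End) : NodeA9.{u} := by
  intro G _ _ hG W x a L T hA
  obtain ⟨M⟩ := AltType.mod_of_card (K := L) (m := 9) hA (S := (Finset.univ : Finset (Fin 9)))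
    (by rw [Finset.card_univ, Fintype.card_fin]) (by omega)
  have h9 : (Finset.univ : Finset (Fin 9)).card = 9 := by rw [Finset.card_univ, Fintype.card_fin]
  obtain ⟨r, K, hr, -, -, hor⟩ := exists_root W T M h9
  rcases hor with ⟨hK, h⟩ | hK
  · exact single_false (FT G) k4 hE hG W T h9 hr hK h
  obtain ⟨k, F, B, T', hno⟩ := Dg.diag9 W T M h9 hr hK
  obtain ⟨r', K', hr', -, -, hor'⟩ := exists_root W T' B h9
  rcases hor' with ⟨hK', h⟩ | hK'
  · exact single_false (FT G) k4 hE hG W T' h9 hr' hK' h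
  · exact hno r' K' hr' hK'

end Cfsg.Agent.UGT.A9
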