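import Cfsg.Agent.UGT.A9.LTwo

/-!
# L2-facts for node A9 : 2-rank of `Aut PSL(2,q)`

* `card_le_eight` : an elementary abelian 2-subgroup of `Aut PSL(2,q)` has order at most 8;
* `fixes_of_mod` (F9) : `Alt(n)`, `n ≥ 9`, acts trivially.
-/

set_option autoImplicit false

open Cfsg Equiv Equiv.Perm Subgroup
open Cfsg.Agent.Intrinsic.Basic Cfsg.Agent.Intrinsic.Diag Cfsg.Agent.Intrinsic.Cen
open Cfsg.Agent.SignalizersComponents Cfsg.Agent.Lib
open Cfsg.Agent.SignalizersComponents.IntrinsicBasic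
open Cfsg.Agent.McLLyComp.Act
open Cfsg.Agent.UGT.Triple Cfsg.Agent.UGT.PumpGen
open Cfsg.Agent.UAlt Cfsg.Agent.UAlt.Supply
open Cfsg.Agent.GH.L2Aut
open scoped commutatorElement

namespace Cfsg.Agent.UGT.A9.LTwo

section rep

variable {F : Type*} [Field F] [Finite F] {L : Type*} [Group L] (R : Cfsg.Agent.GH.L2Aut.Rep F L)

include R in
/-- `a ≠ b` commuting inner involutions: `C_{PGL}(a,b) = ⟨a,b⟩` -/
theorem mem_four_of_comm {a b x : MulAut L} (ha : a ∈ Inn L) (hb : b ∈ Inn L) (haa : a * a = 1)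
    (hbb : b * b = 1) (ha1 : a ≠ 1) (hb1 : b ≠ 1) (hab : a ≠ b) (hc : a * b = b * a)
    (hx : x ∈ R.PGL) (hxa : x * a = a * x) (hxb : x * b = b * x) :
    x = 1 ∨ x = a ∨ x = b ∨ x = a * b := by
  obtain ⟨s, hs, rfl⟩ := R.inn_inv ha haa
  obtain ⟨t, ht, rfl⟩ := R.inn_inv hb hbb
  have hF : Four s t := by
    refine ⟨hs, ht, ?_, ?_, ?_, ?_⟩
    · rintro rfl; exact ha1 (map_one _)
    · rintro rfl; exact hb1 (map_one _)
    · rintro rfl; exact hab rfl
    · apply R.conj_injective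
      rw [map_mul, map_mul, hc]
  have h1 : x s = s := by
    apply R.conj_injective
    rw [← conj_conj, hxa, mul_inv_cancel_right]
  have h2 : x t = t := by
    apply R.conj_injective
    rw [← conj_conj, hxb, mul_inv_cancel_right]
  have h3 := R.fix_four hF hx h1 h2
  rwa [map_mul] at h3

/-- commuting elements of an elementary abelian group -/
theorem comm_of_sq' {X : Type*} [Group X] {A : Subgroup X} (h2 : ∀ a ∈ A, a * a = 1) {a b : X}
    (ha : a ∈ A) (hb : b ∈ A) : a * b = b * a :=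
  comm_of_sq h2 ha hb

/-- a subgroup of exponent 2, covered by `{1, a, b, ab}` -/
theorem card_le_four {X : Type*} [Group X] {A : Subgroup X} {a b : X}
    (h : ∀ x ∈ A, x = 1 ∨ x = a ∨ x = b ∨ x = a * b) : Nat.card A ≤ 4 := by
  classical
  have h1 : (A : Set X) ⊆ (({1, a, b, a * b} : Finset X) : Set X) := by
    intro x hx
    have := h x hx
    simpa using this
  have h2 := Nat.card_mono (Finset.finite_toSet _) h1
  have h3 : Nat.card (({1, a, b, a * b} : Finset X) : Set X) ≤ 4 := by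
    rw [Nat.card_coe_set_eq, Set.ncard_coe_finset]
    exact Finset.card_le_four
  exact h2.trans h3

include R in
/-- an elementary abelian 2-subgroup of `Inn(L)` has order at most 4 -/
theorem card_inn_le {A : Subgroup (MulAut L)} (hA : A ≤ Inn L) (h2 : ∀ a ∈ A, a * a = 1) :
    Nat.card A ≤ 4 := by
  by_cases h : ∃ a ∈ A, a ≠ 1 ∧ ∃ b ∈ A, b ≠ 1 ∧ a ≠ b
  · obtain ⟨a, ha, ha1, b, hb, hb1, hab⟩ := h
    apply card_le_four (a := a) (b := b)
    intro x hx
    have hxP : x ∈ R.PGL := by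
      obtain ⟨y, rfl⟩ := hA hx
      exact R.conj_mem_PGL y
    exact mem_four_of_comm R (hA ha) (hA hb) (h2 a ha) (h2 b hb) ha1 hb1 hab
      (comm_of_sq' h2 ha hb) hxP (comm_of_sq' h2 hx ha) (comm_of_sq' h2 hx hb)
  · push Not at h
    by_cases h3 : ∃ a ∈ A, a ≠ 1
    · obtain ⟨a, ha, ha1⟩ := h3
      apply card_le_four (a := a) (b := 1)
      intro x hx
      by_cases hx1 : x = 1
      · exact Or.inl hx1
      · exact Or.inr (Or.inl (h a ha ha1 x hx hx1).symm)
    · push Not at h3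
      apply card_le_four (a := 1) (b := 1)
      intro x hx
      exact Or.inl (h3 x hx)

include R in
/-- the inner part of an elementary abelian 2-group has index at most 2 -/
theorem card_le_two_mul {A : Subgroup (MulAut L)} (h2 : ∀ a ∈ A, a * a = 1) :
    Nat.card A ≤ 2 * Nat.card ↥(A ⊓ Inn L) := by
  have := R.finite_aut
  by_cases h : A ≤ Inn L
  · rw [inf_of_le_left h]
    omega
  · obtain ⟨g, hg, hgI⟩ := Set.not_subset.mp h
    have h1 : (Inn L).relIndex A = 2 := by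
      rw [relIndex, index_eq_two_iff]
      refine ⟨⟨g, hg⟩, ?_⟩
      rintro ⟨x, hx⟩
      rw [mem_subgroupOf, mem_subgroupOf]
      change Xor (x * g ∈ Inn L) (x ∈ Inn L)
      by_cases hxI : x ∈ Inn L
      · refine Or.inr ⟨hxI, fun h3 => hgI ?_⟩
        have h4 := mul_mem (inv_mem hxI) h3
        rwa [inv_mul_cancel_left] at h4
      · exact Or.inl ⟨Cfsg.Agent.UGT.SL.outer_mul_mem R (h2 x hx) (h2 g hg)
          (comm_of_sq' h2 hx hg) hxI hgI, hxI⟩
    have h3 := relIndex_mul_card_inf h1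
    omega
where
  relIndex_mul_card_inf {A : Subgroup (MulAut L)} (h1 : (Inn L).relIndex A = 2) :
      2 * Nat.card ↥(A ⊓ Inn L) = Nat.card A := by
    have h3 : (A ⊓ Inn L).relIndex A = 2 := by rw [inf_relIndex_left, h1]
    have h4 := Subgroup.card_mul_index ((A ⊓ Inn L).subgroupOf A)
    rw [Nat.card_congr (subgroupOfEquivOfLe (inf_le_left : A ⊓ Inn L ≤ A)).toEquiv] at h4
    change Nat.card ↥(A ⊓ Inn L) * (A ⊓ Inn L).relIndex A = _ at h4
    rw [h3] at h4
    omega

include R in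
/-- **2-rank of `Aut PSL(2,q)`** -/
theorem card_le_eight {A : Subgroup (MulAut L)} (h2 : ∀ a ∈ A, a * a = 1) : Nat.card A ≤ 8 := by
  have h1 := card_le_two_mul R h2
  have h3 := card_inn_le R (A := A ⊓ Inn L) inf_le_right (fun a ha => h2 a ha.1)
  omega

end rep

section group

variable {G : Type*} [Group G] {F : Type*} [Field F] [Finite F]

/-- the image of `A ≤ N(J)` in `Aut(J / O(J))` -/
noncomputable def im (J A : Subgroup G) : Subgroup (MulAut (↥J ⧸ oddCore ↥J)) :=
  (A.subgroupOf (normalizer (J : Set G))).map (act J)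

theorem mem_im {J A : Subgroup G} {x : MulAut (↥J ⧸ oddCore ↥J)} :
    x ∈ im J A ↔ ∃ a ∈ A, ∃ h : a ∈ normalizer (J : Set G), act J ⟨a, h⟩ = x := by
  constructor
  · rintro ⟨⟨a, h⟩, ha, rfl⟩
    exact ⟨a, ha, h, rfl⟩
  · rintro ⟨a, ha, h, rfl⟩
    exact ⟨⟨a, h⟩, ha, rfl⟩

theorem card_im {J A : Subgroup G} (hA : A ≤ normalizer (J : Set G))
    (hf : ∀ a ∈ A, Fixes a J → a = 1) : Nat.card (im J A) = Nat.card A := by
  have h1 : Function.Injective ((act J).comp (A.subgroupOf (normalizer (J : Set G))).subtype) := by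
    rw [injective_iff_map_eq_one]
    rintro ⟨⟨a, h⟩, ha⟩ h3
    have h4 : Fixes a J := (act_eq_one_iff h).mp h3
    have h5 := hf a ha h4
    apply Subtype.ext
    apply Subtype.ext
    exact h5
  have h2 : im J A = ((act J).comp (A.subgroupOf (normalizer (J : Set G))).subtype).range := by
    rw [MonoidHom.range_comp, range_subtype]
    rfl
  rw [h2, ← Nat.card_congr (MonoidHom.ofInjective h1).toEquiv,
    Nat.card_congr (subgroupOfEquivOfLe hA).toEquiv]

theorem im_sq {J A : Subgroup G} (h2 : ∀ a ∈ A, a * a = 1) : ∀ x ∈ im J A, x * x = 1 := by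
  intro x hx
  obtain ⟨a, ha, h, rfl⟩ := mem_im.mp hx
  rw [← act_mul, act_congr (mul_mem h h) (h2 a ha)]
  exact map_one _

theorem card_le_eight' {J A : Subgroup G} (R : Cfsg.Agent.GH.L2Aut.Rep F (↥J ⧸ oddCore ↥J))
    (hA : A ≤ normalizer (J : Set G)) (h2 : ∀ a ∈ A, a * a = 1)
    (hf : ∀ a ∈ A, Fixes a J → a = 1) : Nat.card A ≤ 8 := by
  rw [← card_im hA hf]
  exact card_le_eight R (im_sq h2)

variable [Finite G] {α : Type*} [Fintype α] [DecidableEq α]

/-- **(F9)** -/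
theorem fixes_of_mod {J I : Subgroup G} (R : Cfsg.Agent.GH.L2Aut.Rep F (↥J ⧸ oddCore ↥J))
    {S : Finset α} (M : Mod I S) (h9 : 8 ≤ S.card) (hp : PComponents.pElem 2 I = I)
    (hI : I ≤ normalizer (J : Set G)) : ∀ y ∈ I, Fixes y J := by
  obtain ⟨K, hK⟩ : ∃ K : Subgroup G, ∀ y, y ∈ K ↔ y ∈ I ∧ Fixes y J := by
    refine ⟨{ carrier := {y | y ∈ I ∧ Fixes y J}, one_mem' := ⟨one_mem _, fixes_one J⟩,
              mul_mem' := fun ha hb => ⟨mul_mem ha.1 hb.1, fixes_mul ha.2 hb.2⟩,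
              inv_mem' := fun ha => ⟨inv_mem ha.1, fixes_inv ha.2⟩ }, fun y => Iff.rfl⟩
  have hKI : K ≤ I := fun y hy => ((hK y).mp hy).1
  have hKn : ∀ g ∈ I, ∀ y ∈ K, g * y * g⁻¹ ∈ K := by
    intro g hg y hy
    obtain ⟨h1, h2⟩ := (hK y).mp hy
    exact (hK _).mpr ⟨mul_mem (mul_mem hg h1) (inv_mem hg), fixes_conj h2 (hI hg)⟩
  -- the image of `K` in `Alt(S)`
  have hsim : IsSimpleGroup ↥(alt S) := isSimpleGroup_alt (by omega)
  have hn : ((K.subgroupOf I).map M.homK).Normal := by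
    have h1 : (K.subgroupOf I).Normal := by
      refine ⟨fun y hy g => ?_⟩
      exact hKn g g.2 y hy
    exact h1.map M.homK M.homK_surjective
  rcases hn.eq_bot_or_eq_top with hbot | htop
  · -- `K` is odd
    exfalso
    have hKc : K ≤ core I := by
      intro y hy
      have h1 : M.homK ⟨y, hKI hy⟩ ∈ (K.subgroupOf I).map M.homK := ⟨⟨y, hKI hy⟩, hy, rfl⟩
      rw [hbot, Subgroup.mem_bot] at h1
      rw [← M.core_iff y (hKI hy)]
      exact congrArg Subtype.val h1
    obtain ⟨T, hT, hT4⟩ := Finset.exists_subset_card_eq (s := S) (n := 4) (by omega)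
    obtain ⟨T', hT', hT4'⟩ := Finset.exists_subset_card_eq (s := S \ T) (n := 4) (by
      rw [Finset.card_sdiff_of_subset hT, hT4]; omega)
    have hdisj : ∀ x ∈ T', x ∉ T := fun x hx => (Finset.mem_sdiff.mp (hT' hx)).2
    obtain ⟨V, hV⟩ := exists_RF' M hT hT4
    obtain ⟨V', hV', hc⟩ := exists_RF_fix M (hT'.trans Finset.sdiff_subset) hT4' hV.isPGroup
      (fun v hv => hV.memN hv) (fun v hv x hx => (hV.mem v hv).2 x (hdisj x hx))
    have hcomm : ∀ (m : V') (n : V), Commute (V'.subtype m) (V.subtype n) :=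
      fun m n => hc m m.2 n n.2
    obtain ⟨f, hf⟩ : ∃ f, f = MonoidHom.noncommCoprod V'.subtype V.subtype hcomm := ⟨_, rfl⟩
    have hinj : Function.Injective f := by
      rw [hf, MonoidHom.noncommCoprod_injective]
      refine ⟨V'.subtype_injective, V.subtype_injective, ?_⟩
      rw [range_subtype, range_subtype, disjoint_iff_inf_le]
      rintro x ⟨hx', hx⟩
      rw [Subgroup.mem_bot]
      apply hV'.eq_one hx'
      ext p
      by_cases hp : p ∈ T'
      · exact (hV.mem x hx).2 p (hdisj p hp)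
      · exact (hV'.mem x hx').2 p hp
    have hfm : ∀ x ∈ f.range, ∃ v ∈ V', ∃ w ∈ V, x = v * w := by
      rintro _ ⟨⟨v, w⟩, rfl⟩
      exact ⟨v, v.2, w, w.2, by rw [hf, MonoidHom.noncommCoprod_apply]; rfl⟩
    have hfI : f.range ≤ I := by
      intro x hx
      obtain ⟨v, hv, w, hw, rfl⟩ := hfm x hx
      exact mul_mem (hV'.le hv) (hV.le hw)
    have hf2 : ∀ x ∈ f.range, x * x = 1 := by
      intro x hx
      obtain ⟨v, hv, w, hw, rfl⟩ := hfm x hx
      have h1 : v * w = w * v := hc v hv w hw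
      calc v * w * (v * w) = v * (w * v) * w := by group
        _ = (v * v) * (w * w) := by rw [← h1]; group
        _ = 1 := by rw [hV'.sq v hv, hV.sq w hw, one_mul]
    have h1 := card_le_eight' R (hfI.trans hI) hf2 (fun x hx hfx =>
      eq_one_of_mem_core_sq (hKc ((hK x).mpr ⟨hfI hx, hfx⟩)) (hf2 x hx))
    rw [← Nat.card_congr (MonoidHom.ofInjective hinj).toEquiv, Nat.card_prod, hV'.natCard,
      hV.natCard] at h1
    omega
  · -- `I = K O(I)`
    have hle : I ≤ K := by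
      rw [← hp]
      refine (closure_le _).mpr ?_
      rintro y ⟨hy, n, hn⟩
      change y ∈ K
      have h1 : M.homK ⟨y, hy⟩ ∈ (K.subgroupOf I).map M.homK := by rw [htop]; trivial
      obtain ⟨⟨k, hkI⟩, hk, hkφ⟩ := h1
      have h2 : k⁻¹ * y ∈ core I := by
        rw [← M.eq_iff hkI hy]
        exact congrArg Subtype.val hkφ
      -- `y` is a 2-element modulo `K`, of odd order modulo `K`
      have hKn' : (K.subgroupOf I).Normal := ⟨fun y hy g => hKn g g.2 y hy⟩
      have h3 : orderOf (QuotientGroup.mk (⟨y, hy⟩ : ↥I) : ↥I ⧸ K.subgroupOf I) ∣ 2 ^ n := by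
        apply orderOf_dvd_of_pow_eq_one
        have : (⟨y, hy⟩ : ↥I) ^ 2 ^ n = 1 := Subtype.ext hn
        rw [← QuotientGroup.mk_pow, this]
        rfl
      have h4 : (QuotientGroup.mk (⟨y, hy⟩ : ↥I) : ↥I ⧸ K.subgroupOf I) =
          QuotientGroup.mk (⟨k⁻¹ * y, mul_mem (inv_mem hkI) hy⟩ : ↥I) := by
        rw [QuotientGroup.eq]
        change (y⁻¹ * (k⁻¹ * y)) ∈ K
        have h5 := hKn y⁻¹ (inv_mem hy) k⁻¹ (inv_mem hk)
        rwa [inv_inv, mul_assoc] at h5
      have h5 : orderOf (QuotientGroup.mk (⟨y, hy⟩ : ↥I) : ↥I ⧸ K.subgroupOf I) ∣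
          Nat.card (core I) := by
        rw [h4]
        refine (orderOf_map_dvd (QuotientGroup.mk' (K.subgroupOf I))
          (⟨k⁻¹ * y, mul_mem (inv_mem hkI) hy⟩ : ↥I)).trans ?_
        rw [Subgroup.orderOf_mk]
        exact Subgroup.orderOf_dvd_natCard _ h2
      have h6 : orderOf (QuotientGroup.mk (⟨y, hy⟩ : ↥I) : ↥I ⧸ K.subgroupOf I) ∣ 1 := by
        have h7 := Nat.dvd_gcd h3 h5
        rwa [Nat.Coprime.gcd_eq_one (Nat.Coprime.pow_left n
          (Nat.coprime_two_left.mpr (odd_card_core I)))] at h7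
      rw [Nat.dvd_one, orderOf_eq_one_iff, QuotientGroup.eq_one_iff] at h6
      exact h6
    exact fun y hy => ((hK y).mp (hle hy)).2

end group

end Cfsg.Agent.UGT.A9.LTwo
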