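import Cfsg.Agent.UGT.PumpGen

/-!
# Marker components

`N` a perfect subgroup of even order of `H` (`Marker N`). A 2-component `J` of `H` is an *N-component* (`IsMark H N J`) if
`N` does not fix `J` elementwise.

* (M1) `mark_of_le`, `eq_of_le`: if `N ≤ J` then `J` is the only N-component. `mark_diag`, `mark_diag_cj`, `eq_or_of_diag`:
  if `N ≤ diag(J, t)`, the N-components are `J` and `J^t`.
* (M2) `IsMark.pump`: `t` an involution of `H`, `N ≤ C(t)`: an N-component `I` of `C_H(t)` is a 2-component of `C_J(t)` for a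
  `t`-invariant N-component `J` of `H` or the diagonal of two N-components `J ≠ J^t`. Conversely `isComp_of_inf`,
  `exists_diag`.
* `comp_cen_eq`: if `t` fixes the 2-component `J` then `cen J t` is the only 2-component of `C_J(t)`.
-/

set_option autoImplicit false
set_option linter.unusedSectionVars false

open Cfsg Subgroup
open Cfsg.Agent.SignalizersComponents Cfsg.Agent.Lib
open Cfsg.Agent.SignalizersComponents.IntrinsicBasic
open Cfsg.Agent.SignalizersComponents.IntrinsicIntr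
open Cfsg.Agent.SignalizersComponents.PLayerAut
open Cfsg.Agent.Intrinsic.Basic Cfsg.Agent.Intrinsic.Cen Cfsg.Agent.Intrinsic.Diag
open Cfsg.Agent.McLLyComp.Act
open Cfsg.Agent.UGT.Triple Cfsg.Agent.UGT.LemG Cfsg.Agent.UGT.PumpGen
open scoped commutatorElement

namespace Cfsg.Agent.UGT.A9.Marker

variable {G : Type*} [Group G]

/-- a perfect subgroup of even order -/
structure Mkr (N : Subgroup G) : Prop where
  perfect : ⁅N, N⁆ = N
  even : 2 ∣ Nat.card N

/-- `J` is an `N`-component of `H` -/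
def IsMark (H N J : Subgroup G) : Prop := IsComp H J ∧ ¬ ∀ n ∈ N, Fixes n J

theorem IsMark.comp {H N J : Subgroup G} (h : IsMark H N J) : IsComp H J := h.1

theorem IsMark.le {H N J : Subgroup G} (h : IsMark H N J) : J ≤ H := h.1.1

theorem IsMark.exists {H N J : Subgroup G} (h : IsMark H N J) : ∃ n ∈ N, ¬ Fixes n J := by
  have := h.2
  push Not at this
  exact this

variable [Finite G]

theorem Mkr.of_comp {H N : Subgroup G} (h : IsComp H N) : Mkr N := ⟨h.perfect, h.even⟩

theorem Mkr.not_odd {N K : Subgroup G} (h : Mkr N) (hK : Odd (Nat.card K)) : ¬ N ≤ K := fun hle =>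
  (Nat.not_even_iff_odd.mpr hK) (even_iff_two_dvd.mpr (h.even.trans (card_dvd_of_le hle)))

/-- a perfect subgroup of even order does not lie in an odd subgroup modulo which it is abelian -/
theorem Mkr.false_of_comm {N K : Subgroup G} (h : Mkr N) (hK : Odd (Nat.card K))
    (hc : ∀ a ∈ N, ∀ b ∈ N, ⁅a, b⁆ ∈ K) : False := by
  have h1 : ⁅N, N⁆ ≤ K := by
    rw [Subgroup.commutator_le]
    exact hc
  rw [h.perfect] at h1
  exact h.not_odd hK h1

/-- elements of `O(H)` commuting with `t` lie in the core of `C_H(t)` -/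
theorem mem_core_inf {H : Subgroup G} {t y : G} (hy : y ∈ core H)
    (hyt : y ∈ centralizer ({t} : Set G)) : y ∈ core (H ⊓ centralizer ({t} : Set G)) := by
  obtain ⟨N, hN⟩ : ∃ N, N = core H ⊓ centralizer ({t} : Set G) := ⟨_, rfl⟩
  have h1 : N ≤ core (H ⊓ centralizer ({t} : Set G)) := by
    refine le_core ?_ ?_ ?_
    · rw [hN]
      exact inf_le_inf_right _ (core_le _)
    · intro g hg
      have h1 : g ∈ normalizer (core H : Set G) := le_normalizer_core _ hg.1
      have h2 : g ∈ normalizer (centralizer ({t} : Set G) : Set G) := le_normalizer hg.2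
      rw [mem_normalizer_iff_cj] at h1 h2 ⊢
      rw [hN, cj_inf, h1, h2]
    · refine Odd.of_dvd_nat (odd_card_core H) ?_
      rw [hN]
      exact card_dvd_of_le inf_le_left
  exact h1 (hN ▸ ⟨hy, hyt⟩)

/-! ### (M1) -/

theorem mark_of_le {H N J : Subgroup G} (hN : Mkr N) (hJ : IsComp H J) (hNJ : N ≤ J) :
    IsMark H N J :=
  ⟨hJ, fun h => hN.false_of_comm (odd_card_core J) fun a ha b hb => (h a ha).2 b (hNJ hb)⟩

theorem eq_of_le {H N J J' : Subgroup G} (hJ : IsComp H J) (hNJ : N ≤ J) (h : IsMark H N J') :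
    J' = J := by
  by_contra hne
  exact h.2 fun n hn => h.1.fixes_of_mem hJ hne (hNJ hn)

section diag

variable {X J N : Subgroup G} {s : G}

/-- members of the diagonal fixing `J` fix `J^s` -/
theorem fixes_cj {n : G} (hn : n * s = s * n) (h : Fixes n J) : Fixes n (cj s J) := by
  have h1 := h.cj s
  have : s * n * s⁻¹ = n := by rw [← hn]; group
  rwa [this] at h1

/-- if `n`, `m` are in the diagonal and `n` fixes `J` then they commute modulo the core -/
theorem comm_of_fixes (hJ : IsComp X J) (hsX : s ∈ X) (hs : s * s = 1) (hne : cj s J ≠ J) {n m : G}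
    (hn : n ∈ X) (hns : n * s = s * n) (hf : Fixes n J) (hm : m ∈ diag X J s) : ⁅n, m⁆ ∈ core X := by
  obtain ⟨h1, h2, -, -⟩ := exists_diag hJ hsX hs hne
  obtain ⟨k, hk, hmk⟩ := h2 m hm
  have hmX : m ∈ X := (h1.le hm).1
  have hJ' : IsComp X (cj s J) := isComp_cj_of_mem hJ hsX
  have hk' : s * k * s⁻¹ ∈ cj s J := conj_mem_cj hk
  have e1 : ⁅n, k⁆ ∈ core X := hJ.core_le_core (hf.2 k hk)
  have e2 : ⁅n, s * k * s⁻¹⁆ ∈ core X := hJ'.core_le_core ((fixes_cj hns hf).2 _ hk')
  rw [commutator_mem_core_iff hn (hJ.le hk)] at e1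
  rw [commutator_mem_core_iff hn (hJ'.le hk')] at e2
  rw [commutator_mem_core_iff hn hmX, mk_of_diag hJ hsX hmX hk hmk, ← mul_assoc, e1, mul_assoc, e2]
  exact (mul_assoc _ _ _).symm

theorem mark_diag (hN : Mkr N) (hJ : IsComp X J) (hsX : s ∈ X) (hs : s * s = 1) (hne : cj s J ≠ J)
    (hNd : N ≤ diag X J s) : IsMark X N J := by
  obtain ⟨h1, -, -, -⟩ := exists_diag hJ hsX hs hne
  refine ⟨hJ, fun h => hN.false_of_comm (odd_card_core X) fun a ha b hb => ?_⟩
  have h2 := h1.le (hNd ha)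
  exact comm_of_fixes hJ hsX hs hne h2.1 (mem_centralizer_singleton_iff.mp h2.2) (h a ha) (hNd hb)

theorem mark_cj (hJ : IsMark X N J) (hsX : s ∈ X) (hN : N ≤ centralizer ({s} : Set G)) :
    IsMark X N (cj s J) := by
  refine ⟨isComp_cj_of_mem hJ.1 hsX, fun h => hJ.2 fun n hn => ?_⟩
  have h1 := (h n hn).cj s⁻¹
  rw [cj_inv_cj] at h1
  have h2 : n * s = s * n := mem_centralizer_singleton_iff.mp (hN hn)
  have h3 : s⁻¹ * n * s⁻¹⁻¹ = n := by
    rw [inv_inv, mul_assoc, h2]; group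
  rwa [h3] at h1

theorem mark_diag_cj (hN : Mkr N) (hJ : IsComp X J) (hsX : s ∈ X) (hs : s * s = 1)
    (hne : cj s J ≠ J) (hNd : N ≤ diag X J s) : IsMark X N (cj s J) := by
  obtain ⟨h1, -, -, -⟩ := exists_diag hJ hsX hs hne
  exact mark_cj (mark_diag hN hJ hsX hs hne hNd) hsX (hNd.trans (h1.le.trans inf_le_right))

theorem eq_or_of_diag (hJ : IsComp X J) (hsX : s ∈ X) (hs : s * s = 1) (hne : cj s J ≠ J)
    (hNd : N ≤ diag X J s) {J' : Subgroup G} (h : IsMark X N J') : J' = J ∨ J' = cj s J := by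
  by_contra hcon
  push Not at hcon
  obtain ⟨h1, -, -, -⟩ := exists_diag hJ hsX hs hne
  refine h.2 fun n hn => ?_
  exact fixes_of_comm_core h.1 (h1.le (hNd hn)).1 fun j hj =>
    comm_diag_of_ne hJ hsX hs hne h.1 hcon.1 hcon.2 (hNd hn) hj

end diag

/-! ### (M2) -/

/-- `d ∈ C_X(s)` fixing the 2-component `J` of `X` fixes the 2-components `Z` of `C_X(s)` pumping up to `J`. -/
theorem fixes_of_pump {X J Z : Subgroup G} {s d : G} (hsX : s ∈ X) (hs : s * s = 1)
    (hZ : IsComp (X ⊓ centralizer ({s} : Set G)) Z) (hJ : IsComp X J) (hdX : d ∈ X)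
    (hds : d * s = s * d) (hf : Fixes d J) (hor : Z ≤ J ∨ (cj s J ≠ J ∧ Z = diag X J s)) :
    Fixes d Z := by
  have hd : d ∈ X ⊓ centralizer ({s} : Set G) := ⟨hdX, mem_centralizer_singleton_iff.mpr hds⟩
  refine fixes_of_comm_core hZ hd fun z hz => ?_
  have hc : ⁅d, z⁆ ∈ centralizer ({s} : Set G) := by
    rw [commutatorElement_def]
    have h1 := (hZ.le hz).2
    exact mul_mem (mul_mem (mul_mem hd.2 h1) (inv_mem hd.2)) (inv_mem h1)
  refine mem_core_inf ?_ hc
  rcases hor with h | ⟨hne, h⟩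
  · exact hJ.core_le_core (hf.2 z (h hz))
  · rw [h] at hz
    exact comm_of_fixes hJ hsX hs hne hdX hds hf hz

/-- **(M2)** -/
theorem IsMark.pump {X N I : Subgroup G} {s : G} (hsX : s ∈ X) (hs : s * s = 1)
    (hN : N ≤ X ⊓ centralizer ({s} : Set G)) (hI : IsMark (X ⊓ centralizer ({s} : Set G)) N I) :
    ∃ J, IsMark X N J ∧
      ((cj s J = J ∧ I ≤ J ∧ IsComp (J ⊓ centralizer ({s} : Set G)) I) ∨
        (cj s J ≠ J ∧ IsMark X N (cj s J) ∧ I = diag X J s)) := by
  obtain ⟨J, hJ, -, hor⟩ := McLLyComp.PumpT.exists_pump hsX hs hI.1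
  have hm : IsMark X N J := by
    refine ⟨hJ, fun h => hI.2 fun n hn => ?_⟩
    refine fixes_of_pump hsX hs hI.1 hJ (hN hn).1 (mem_centralizer_singleton_iff.mp (hN hn).2) (h n hn) ?_
    rcases hor with ⟨-, h⟩ | h
    · exact Or.inl h
    · exact Or.inr h
  refine ⟨J, hm, ?_⟩
  rcases hor with ⟨h1, h2⟩ | ⟨h1, h2⟩
  · left
    refine ⟨mem_normalizer_iff_cj.mp h1, h2, ?_⟩
    exact hI.1.restrict (inf_le_inf_right _ hJ.le) (le_inf h2 (hI.1.le.trans inf_le_right))
  · right
    exact ⟨h1, mark_cj hm hsX (hN.trans inf_le_right), h2⟩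

/-- `E` a 2-component of `C_J(s)`, `J` a 2-component of `X`: marker in terms of fixing -/
theorem mark_inf {X J E N : Subgroup G} {s : G} (hJ : IsComp X J)
    (hE : IsComp (J ⊓ centralizer ({s} : Set G)) E) (h : ¬ ∀ n ∈ N, Fixes n E) :
    IsMark (X ⊓ centralizer ({s} : Set G)) N E := ⟨isComp_of_inf hJ hE, h⟩

/-- if `N ≤ C_X(s)` does not fix `J ≠ J^s` then the diagonal is an `N`-component of `C_X(s)` -/
theorem mark_diag_of {X J N : Subgroup G} {s : G} (hJ : IsMark X N J) (hsX : s ∈ X) (hs : s * s = 1)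
    (hne : cj s J ≠ J) (hN : N ≤ X ⊓ centralizer ({s} : Set G))
    (hNJ : ∀ n ∈ N, n ∈ normalizer (J : Set G)) :
    IsMark (X ⊓ centralizer ({s} : Set G)) N (diag X J s) := by
  obtain ⟨h1, -, -, -⟩ := exists_diag hJ.1 hsX hs hne
  refine ⟨h1, fun h => hJ.2 fun n hn => ?_⟩
  have hns := (hN hn).2
  have hn' : n ∈ normalizer (cj s J : Set G) := by
    have h2 := mem_normalizer_iff_cj.mp (hNJ n hn)
    have h3 : n * s = s * n := mem_centralizer_singleton_iff.mp hns
    rw [mem_normalizer_iff_cj, ← cj_mul, h3, cj_mul, h2]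
  refine fixes_of_comm_diag hJ.1 hsX hs hne (hN hn).1 (hNJ n hn) hn' fun m hm => ?_
  have h2 := (h n hn).2 m hm
  have h3 := h1.core_le_core h2
  obtain ⟨-, -, -, h4, -⟩ := exists_diag hJ.1 hsX hs hne
  rw [h4] at h2
  exact h2.2

/-- if `s` fixes the 2-component `J` then `cen J s` is the only 2-component of `C_J(s)` -/
theorem comp_cen_eq {X J E : Subgroup G} {s : G} (hJ : IsComp X J) (hsX : s ∈ X) (hs : s * s = 1)
    (hf : Fixes s J) (hE : IsComp (J ⊓ centralizer ({s} : Set G)) E) : E = cen J s := by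
  obtain ⟨h1, -⟩ := isComp_cen hJ hsX hs hf
  have h2 : IsComp (J ⊓ centralizer ({s} : Set G)) (cen J s) :=
    h1.restrict (inf_le_inf_right _ hJ.le) (le_inf (cen_le J s) (cen_le_centralizer J s))
  refine hE.eq_of_le h2 ?_
  rw [← hE.pElem_eq]
  exact PComponents.pElem_mono hE.le

end Cfsg.Agent.UGT.A9.Marker
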