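import Cfsg.Agent.UGT.A9.LTwoField
import Cfsg.Agent.UGT.Iface

/-!
# L2-facts for node A9 : the interface

`J : Subgroup G`, `Bar J = J / O(J) ≅ PSL(2,q)`, `q ≥ 5` odd.

* `l2_comp_unique` (F1)
* `l2_no_alt`, `l2_no_alt_self` (F3)
* `l2_fixes_or` (F6)
* `l2_exists_comp` (TF)
* `l2_fixes_of_mod` (F9)
* `l2_card_le_eight` : 2-rank of `Aut PSL(2,q)` is at most 3.
-/

set_option autoImplicit false

open Cfsg Subgroup
open Cfsg.Agent.Intrinsic.Basic
open Cfsg.Agent.SignalizersComponents.IntrinsicBasic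
open Cfsg.Agent.SignalizersComponents Cfsg.Agent.Lib
open Cfsg.Agent.UGT.Triple
open Cfsg.Agent.UAlt
open Cfsg.Agent.UGT.Iface (Bar IsL2)

namespace Cfsg.Agent.UGT.A9.LTwo

universe u

variable {G : Type u} [Group G]

theorem exists_rep {J : Subgroup G} (h : IsL2 (Bar J)) : ∃ (F : Type) (_ : Field F) (_ : Finite F),
    Nonempty (Cfsg.Agent.GH.L2Aut.Rep F (↥J ⧸ oddCore ↥J)) := by
  obtain ⟨F, _, _, hodd, -, ⟨e⟩⟩ := h
  exact ⟨F, inferInstance, inferInstance,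
    ⟨Cfsg.Agent.GH.L2Aut.Rep.ofEquiv (Cfsg.Agent.GH.L2Aut.two_ne_zero_of_odd hodd) e⟩⟩

variable [Finite G] {J : Subgroup G}

/-- **(F1)** a subgroup of `J` has at most one 2-component -/
theorem l2_unique (hL : IsL2 (Bar J)) {H E E' : Subgroup G} (hH : H ≤ J) (hE : IsComp H E)
    (hE' : IsComp H E') : E = E' := by
  obtain ⟨F, _, _, ⟨R⟩⟩ := exists_rep hL
  exact comp_unique' R hH hE hE'

/-- **(F1)** `C_J(t)` has at most one 2-component -/
theorem l2_comp_unique (hL : IsL2 (Bar J)) {t : G} {E E' : Subgroup G}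
    (hE : IsComp (J ⊓ centralizer ({t} : Set G)) E) (hE' : IsComp (J ⊓ centralizer ({t} : Set G)) E') :
    E = E' :=
  l2_unique hL inf_le_left hE hE'

/-- **(F3)** no subgroup of `J` is alternating of degree `≥ 7` modulo its core -/
theorem l2_no_alt (hL : IsL2 (Bar J)) {E : Subgroup G} (hE : E ≤ J) {k : ℕ} (h7 : 7 ≤ k) :
    ¬ AltType E k := by
  obtain ⟨F, _, _, ⟨R⟩⟩ := exists_rep hL
  exact no_alt' R hE h7

/-- **(F3)** -/
theorem l2_no_alt_comp (hL : IsL2 (Bar J)) {t : G} {E : Subgroup G}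
    (hE : IsComp (J ⊓ centralizer ({t} : Set G)) E) {k : ℕ} (h7 : 7 ≤ k) : ¬ AltType E k :=
  l2_no_alt hL (hE.le.trans inf_le_left) h7

/-- **(F3)** -/
theorem l2_no_alt_self (hL : IsL2 (Bar J)) {k : ℕ} (h7 : 7 ≤ k) : ¬ AltType J k :=
  l2_no_alt hL le_rfl h7

/-- **(F6)** `t`, `u` commuting involutions, `E` a 2-component of `C_J(t)` on which `u` is trivial: `u` or `ut` is
trivial on `J / O(J)` -/
theorem l2_fixes_or {f : G} (hJ : IsComp (centralizer ({f} : Set G)) J) (hL : IsL2 (Bar J)) {t u : G}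
    (htt : t * t = 1) (huu : u * u = 1) (htu : t * u = u * t)
    (htf : t ∈ centralizer ({f} : Set G)) (huf : u ∈ centralizer ({f} : Set G))
    (htJ : t ∈ normalizer (J : Set G)) (huJ : u ∈ normalizer (J : Set G)) {E : Subgroup G}
    (hE : IsComp (J ⊓ centralizer ({t} : Set G)) E) (hf : Fixes u E) :
    Fixes u J ∨ Fixes (u * t) J := by
  obtain ⟨F, _, _, ⟨R⟩⟩ := exists_rep hL
  exact fixes_or' R hJ htt huu htu htf huf htJ huJ hE hf

/-- **(TF)** -/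
theorem l2_exists_comp {e f : G} {A : Subgroup G} (T : IsTriple e f J) (hL : IsL2 (Bar J))
    (hA : A ≤ centralizer ({f} : Set G) ⊓ normalizer (J : Set G)) (h2 : ∀ g ∈ A, g * g = 1)
    (h8 : Nat.card A = 8) (he : e ∈ A) (hf : ∀ g ∈ A, Fixes g J → g = 1) :
    ∃ g ∈ A, g ≠ 1 ∧ ∃ E, IsComp (J ⊓ centralizer ({g} : Set G)) E := by
  obtain ⟨F, _, _, ⟨R⟩⟩ := exists_rep hL
  exact exists_comp_of_eight R T (hA.trans inf_le_left) (hA.trans inf_le_right) h2 h8 he hf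

/-- **(F9)** `Alt(n)`, `n ≥ 8`, acts trivially on `J / O(J)` -/
theorem l2_fixes_of_mod {α : Type*} [Fintype α] [DecidableEq α] (hL : IsL2 (Bar J)) {I : Subgroup G}
    {S : Finset α} (M : Mod I S) (h8 : 8 ≤ S.card) (hp : PComponents.pElem 2 I = I)
    (hI : I ≤ normalizer (J : Set G)) : ∀ y ∈ I, Fixes y J := by
  obtain ⟨F, _, _, ⟨R⟩⟩ := exists_rep hL
  exact fixes_of_mod R M h8 hp hI

omit [Finite G] in
/-- the 2-rank of `Aut PSL(2,q)` is at most 3 -/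
theorem l2_card_le_eight (hL : IsL2 (Bar J)) {A : Subgroup G} (hA : A ≤ normalizer (J : Set G))
    (h2 : ∀ a ∈ A, a * a = 1) (hf : ∀ a ∈ A, Fixes a J → a = 1) : Nat.card A ≤ 8 := by
  obtain ⟨F, _, _, ⟨R⟩⟩ := exists_rep hL
  exact card_le_eight' R hA h2 hf

end Cfsg.Agent.UGT.A9.LTwo
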