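import Cfsg.Agent.UAlt.SupplyL2

/-!
# L2-facts for node A9

`J / O(J) ≅ PSL(2,q)`, `q` odd.

* `comp_unique` (F1) : a subgroup of `J` has at most one 2-component;
* `no_alt` (F3) : no subgroup `E` of `J` has `E / O(E) ≅ Alt(k)`, `k ≥ 7`;
* `fixes_or` (F6) : `t`, `u` commuting involutions, `E` a 2-component of `C_J(t)`, `u` trivial on `E` : `u` or `ut` is
  trivial on `J / O(J)`.
-/

set_option autoImplicit false

open Cfsg Equiv Equiv.Perm Subgroup
open Cfsg.Agent.Intrinsic.Basic Cfsg.Agent.Intrinsic.Diag Cfsg.Agent.Intrinsic.Cen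
open Cfsg.Agent.SignalizersComponents Cfsg.Agent.Lib
open Cfsg.Agent.SignalizersComponents.IntrinsicBasic
open Cfsg.Agent.McLLyComp.Act
open Cfsg.Agent.UGT.Triple Cfsg.Agent.UGT.PumpGen
open Cfsg.Agent.UAlt Cfsg.Agent.UAlt.Supply
open Cfsg.Agent.GH.L2Aut
open scoped commutatorElement

namespace Cfsg.Agent.UGT.A9.LTwo

variable {G : Type*} [Group G] [Finite G] {F : Type*} [Field F] [Finite F]

/-- an involution of `E`, not in an odd subgroup -/
theorem exists_inv_of_comp {H E N : Subgroup G} (hE : IsComp H E) (hN : Odd (Nat.card N)) :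
    ∃ z ∈ E, z * z = 1 ∧ z ≠ 1 := by
  have h1 : ∃ k ∈ E, ∃ n : ℕ, k ^ 2 ^ n = 1 ∧ k ∉ N := by
    by_contra hcon
    push Not at hcon
    exact hE.not_odd hN (hE.le_of_two fun k hk n hn => hcon k hk n hn)
  obtain ⟨k, hk, n, hn, hkN⟩ := h1
  have hk1 : k ≠ 1 := fun e => hkN (e ▸ one_mem _)
  induction n generalizing k with
  | zero => rw [pow_zero, pow_one] at hn; exact absurd hn hk1
  | succ n ih =>
    by_cases h2 : k ^ 2 ^ n = 1
    · exact ih k hk h2 hkN hk1
    · refine ⟨k ^ 2 ^ n, pow_mem hk _, ?_, h2⟩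
      rw [← pow_add, ← two_mul, ← pow_succ']
      exact hn

/-- an involution of `J` induces a nontrivial inner automorphism on `J / O(J)` -/
theorem conj_ne_one (J : Subgroup G) {z : G} (hz : z ∈ J) (hzz : z * z = 1) (hz1 : z ≠ 1) :
    (QuotientGroup.mk (⟨z, hz⟩ : ↥J) : ↥J ⧸ oddCore ↥J) ≠ 1 := by
  rw [Ne, mk_eq_one_iff]
  exact fun h => hz1 (eq_one_of_mem_core_sq h hzz)

omit [Finite G] in
/-- a subgroup `E` of `J` with `E = [E,E]`, not of odd order, has a nontrivial perfect image -/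
theorem exists_perf {J E : Subgroup G} (hEJ : E ≤ J) (hp : ⁅E, E⁆ = E)
    (hodd : ¬ E ≤ core J) {u : G} (huJ : u ∈ normalizer (J : Set G)) (hf : ∀ y ∈ E, u * y = y * u) :
    ∃ D : Subgroup (↥J ⧸ oddCore ↥J), ⁅D, D⁆ = D ∧ D ≠ ⊥ ∧ ∀ d ∈ D, act J ⟨u, huJ⟩ d = d := by
  refine ⟨(E.subgroupOf J).map (QuotientGroup.mk' (oddCore ↥J)), ?_, ?_, ?_⟩
  · rw [← Subgroup.map_commutator]
    congr 1
    apply Subgroup.map_injective J.subtype_injective
    rw [Subgroup.map_commutator, subgroupOf_map_subtype, inf_of_le_left hEJ, hp]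
  · intro hbot
    rw [Subgroup.map_eq_bot_iff, QuotientGroup.ker_mk'] at hbot
    apply hodd
    intro y hy
    have h3 : (⟨y, hEJ hy⟩ : ↥J) ∈ E.subgroupOf J := hy
    exact (mem_core_iff (hEJ hy)).mpr (hbot h3)
  · rintro _ ⟨⟨y, hyJ⟩, hy, rfl⟩
    have h3 : u * y = y * u := hf y hy
    change act J ⟨u, huJ⟩ (QuotientGroup.mk ⟨y, hyJ⟩) = QuotientGroup.mk ⟨y, hyJ⟩
    rw [act_mk huJ hyJ]
    congr 1
    apply Subtype.ext
    change u * y * u⁻¹ = y
    rw [h3, mul_inv_cancel_right]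

/-- an involution `u` with `act u ∈ PGL` which centralizes a 2-component `E ≤ J` is trivial on `J / O(J)` -/
theorem fixes_of_pgl {J : Subgroup G} (R : Cfsg.Agent.GH.L2Aut.Rep F (↥J ⧸ oddCore ↥J))
    {H E : Subgroup G} (hE : IsComp H E) (hEJ : E ≤ J) {u : G} (huu : u * u = 1)
    (huJ : u ∈ normalizer (J : Set G)) (hP : act J ⟨u, huJ⟩ ∈ R.PGL)
    (hf : ∀ y ∈ E, u * y = y * u) : Fixes u J := by
  by_contra hcon
  obtain ⟨D, hD1, hD2, hD3⟩ := exists_perf hEJ hE.perfect (fun h => hE.not_odd (odd_card_core J) h)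
    huJ hf
  refine hD2 (no_perfect R hP ?_ ?_ hD1 hD3)
  · intro h5
    exact hcon ((act_eq_one_iff _).mp h5)
  · rw [← act_mul, act_congr (mul_mem huJ huJ) huu]
    exact map_one _

/-- **(F1)** a subgroup of `J` has at most one 2-component -/
theorem comp_unique' {J : Subgroup G} (R : Cfsg.Agent.GH.L2Aut.Rep F (↥J ⧸ oddCore ↥J))
    {H E E' : Subgroup G} (hH : H ≤ J) (hE : IsComp H E) (hE' : IsComp H E') : E = E' := by
  by_contra hne
  obtain ⟨z, hz, hzz, hz1⟩ := exists_inv_of_comp hE (odd_card_core J)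
  have hf : Fixes z E' := hE'.fixes_of_mem hE (Ne.symm hne) hz
  obtain ⟨h1, -⟩ := isComp_cen hE' (hE.le hz) hzz hf
  have hzJ := hH (hE.le hz)
  have h2 := fixes_of_pgl R h1 ((cen_le E' z).trans (hE'.le.trans hH)) hzz (le_normalizer hzJ)
    (by rw [act_of_mem hzJ]; exact R.conj_mem_PGL _) (fun y hy => (comm_of_mem_cen hy).symm)
  rw [← act_eq_one_iff (le_normalizer hzJ), act_of_mem hzJ] at h2
  exact conj_ne_one J hzJ hzz hz1 (R.conj_injective (by rw [h2, map_one]))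

/-- **(F6)** -/
theorem fixes_or' {f : G} {J : Subgroup G} (R : Cfsg.Agent.GH.L2Aut.Rep F (↥J ⧸ oddCore ↥J))
    (hJ : IsComp (centralizer ({f} : Set G)) J) {t u : G} (htt : t * t = 1) (huu : u * u = 1)
    (htu : t * u = u * t) (htf : t ∈ centralizer ({f} : Set G)) (huf : u ∈ centralizer ({f} : Set G))
    (htJ : t ∈ normalizer (J : Set G)) (huJ : u ∈ normalizer (J : Set G)) {E : Subgroup G}
    (hE : IsComp (J ⊓ centralizer ({t} : Set G)) E) (hf : Fixes u E) :
    Fixes u J ∨ Fixes (u * t) J := by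
  have hE' := isComp_of_inf hJ hE
  have hut : u ∈ centralizer ({t} : Set G) := mem_centralizer_singleton_iff.mpr htu.symm
  obtain ⟨h1, -⟩ := isComp_cen hE' ⟨huf, hut⟩ huu hf
  have hle : cen E u ≤ J := (cen_le E u).trans (hE.le.trans inf_le_left)
  have hct : ∀ y ∈ cen E u, t * y = y * t := fun y hy =>
    (mem_centralizer_singleton_iff.mp (hE.le (cen_le E u hy)).2).symm
  have hcu : ∀ y ∈ cen E u, u * y = y * u := fun y hy => (comm_of_mem_cen hy).symm
  have huut : (u * t) * (u * t) = 1 := by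
    calc (u * t) * (u * t) = u * (t * u) * t := by group
      _ = (u * u) * (t * t) := by rw [htu]; group
      _ = 1 := by rw [huu, htt, one_mul]
  by_cases hP : act J ⟨u, huJ⟩ ∈ R.PGL
  · exact Or.inl (fixes_of_pgl R h1 hle huu huJ hP hcu)
  by_cases hPt : act J ⟨t, htJ⟩ ∈ R.PGL
  · -- `t` is trivial on `J / O(J)`
    have h2 := fixes_of_pgl R h1 hle htt htJ hPt hct
    -- `cen J t` is the 2-component `E`
    obtain ⟨h3, h4⟩ := isComp_cen hJ htf htt h2
    have h5 : IsComp (J ⊓ centralizer ({t} : Set G)) (cen J t) :=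
      h3.restrict (inf_le_inf_right _ hJ.le) (PComponents.pElem_le _)
    have h6 : E = cen J t := comp_unique' R inf_le_left hE h5
    left
    rw [← fixes_iff_of_sup h4 (h6 ▸ hf.1) huJ, ← h6]
    exact hf
  · right
    refine fixes_of_pgl R h1 hle huut (mul_mem huJ htJ) ?_ (fun y hy => ?_)
    · rw [act_mul huJ htJ]
      refine mul_mem_pgl R ?_ ?_ hP hPt
      · rw [← act_mul, act_congr (mul_mem huJ huJ) huu]
        exact map_one _
      · rw [← act_mul, act_congr (mul_mem htJ htJ) htt]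
        exact map_one _
    · rw [mul_assoc, hct y hy, ← mul_assoc, hcu y hy, mul_assoc]

section alt

variable {α : Type*} [Fintype α] [DecidableEq α]

/-- **(F3)** -/
theorem no_mod {J E : Subgroup G} (R : Cfsg.Agent.GH.L2Aut.Rep F (↥J ⧸ oddCore ↥J)) (hE : E ≤ J)
    {S : Finset α} (M : Mod E S) (h7 : 7 ≤ S.card) : False := by
  obtain ⟨T, hT, hT4⟩ := Finset.exists_subset_card_eq (s := S) (n := 4) (by omega)
  obtain ⟨a, ha, b, hb, c, hc, hab, hac, hbc⟩ : ∃ a ∈ S \ T, ∃ b ∈ S \ T, ∃ c ∈ S \ T,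
      a ≠ b ∧ a ≠ c ∧ b ≠ c := by
    have h1 : 2 < (S \ T).card := by rw [Finset.card_sdiff_of_subset hT, hT4]; omega
    obtain ⟨a, ha, b, hb, c, hc, h⟩ := Finset.two_lt_card.mp h1
    exact ⟨a, ha, b, hb, c, hc, h.1, h.2.1, h.2.2⟩
  obtain ⟨V, hV⟩ := exists_RF' M hT hT4
  obtain ⟨σ, hσ⟩ : ∃ σ : Perm α, σ = swap a b * swap a c := ⟨_, rfl⟩
  have h3c : σ.IsThreeCycle := by rw [hσ]; exact Equiv.Perm.isThreeCycle_swap_mul_swap_same hab hac hbc
  have hfix : ∀ x, x ∉ S \ T → σ x = x := by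
    intro x hx
    have hxa : x ≠ a := fun e => hx (e ▸ ha)
    have hxb : x ≠ b := fun e => hx (e ▸ hb)
    have hxc : x ≠ c := fun e => hx (e ▸ hc)
    rw [hσ, Perm.mul_apply, swap_apply_of_ne_of_ne hxa hxc, swap_apply_of_ne_of_ne hxa hxb]
  have hσS : σ ∈ alt S := by
    refine ⟨h3c.mem_alternatingGroup, fun x hx => hfix x fun h => hx (Finset.mem_sdiff.mp h).1⟩
  have hσT : ∀ x ∈ T, σ x = x := fun x hx => hfix x fun h => (Finset.mem_sdiff.mp h).2 hx
  obtain ⟨k, hk, hkV, hkσ⟩ := M.exists_fix_lift hV.isPGroup (fun v hv => le_normalizer (hV.le hv)) hσS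
    (fun v hv => (comm_of_fix hσT (alt_le_sym _ (hV.mem v hv))).symm)
  obtain ⟨v, hv, hv1⟩ := hV.exists_ne
  obtain ⟨w, hw, hw1, hvw⟩ : ∃ w ∈ V, w ≠ 1 ∧ v ≠ w := by
    by_contra hno
    push Not at hno
    have h1 : V ≤ zpowers v := by
      intro w hw
      by_cases hw1 : w = 1
      · rw [hw1]
        exact one_mem _
      · rw [← hno w hw hw1]
        exact mem_zpowers v
    have h2 := Subgroup.card_dvd_of_le h1
    rw [Nat.card_zpowers, hV.natCard] at h2
    have h3 : orderOf v ∣ 2 := orderOf_dvd_of_pow_eq_one (by rw [pow_two]; exact hV.sq v hv)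
    have h4 := Nat.le_of_dvd (by norm_num) (h2.trans h3)
    omega
  have hJv := hE (hV.le hv)
  have hJw := hE (hV.le hw)
  have hJk := hE hk
  have hodd := odd_card_core J
  obtain ⟨a', ha'⟩ : ∃ a : ↥J ⧸ oddCore ↥J, a = QuotientGroup.mk ⟨v, hJv⟩ := ⟨_, rfl⟩
  obtain ⟨b', hb'⟩ : ∃ a : ↥J ⧸ oddCore ↥J, a = QuotientGroup.mk ⟨w, hJw⟩ := ⟨_, rfl⟩
  obtain ⟨c', hc'⟩ : ∃ a : ↥J ⧸ oddCore ↥J, a = QuotientGroup.mk ⟨k, hJk⟩ := ⟨_, rfl⟩
  have key : ∀ (x y : G) (hx : x ∈ J) (hy : y ∈ J), (QuotientGroup.mk (⟨x, hx⟩ : ↥J) : ↥J ⧸ oddCore ↥J) *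
      QuotientGroup.mk (⟨y, hy⟩ : ↥J) = QuotientGroup.mk ⟨x * y, mul_mem hx hy⟩ := fun x y hx hy => rfl
  have hFour : Four a' b' := by
    refine ⟨?_, ?_, ?_, ?_, ?_, ?_⟩
    · rw [ha', key, mk_eq_one_iff, hV.sq v hv]
      exact one_mem _
    · rw [hb', key, mk_eq_one_iff, hV.sq w hw]
      exact one_mem _
    · rw [ha', Ne, mk_eq_one_iff]
      exact fun h => hv1 (one_of_odd hodd h (hV.sq v hv))
    · rw [hb', Ne, mk_eq_one_iff]
      exact fun h => hw1 (one_of_odd hodd h (hV.sq w hw))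
    · rw [ha', hb', Ne, mk_eq_iff]
      intro h
      have h1 := one_of_odd hodd h (hV.sq _ (mul_mem (inv_mem hv) hw))
      exact hvw (inv_mul_eq_one.mp h1)
    · rw [ha', hb', key, key]
      congr 1
      exact Subtype.ext (hV.comm hv hw)
  have hca : ∀ (x : G) (hx : x ∈ V), MulAut.conj c' (QuotientGroup.mk (⟨x, hE (hV.le hx)⟩ : ↥J)) =
      QuotientGroup.mk (⟨x, hE (hV.le hx)⟩ : ↥J) := by
    intro x hx
    rw [MulAut.conj_apply, mul_inv_eq_iff_eq_mul, hc', key, key]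
    congr 1
    exact Subtype.ext (hkV x hx)
  have h1 := R.fix_four hFour (R.conj_mem_PGL c') (by rw [ha']; exact hca v hv)
    (by rw [hb']; exact hca w hw)
  have hab' : (a' * b') * (a' * b') = 1 := by
    calc (a' * b') * (a' * b') = a' * (b' * a') * b' := by group
      _ = a' * (a' * b') * b' := by rw [hFour.comm]
      _ = (a' * a') * (b' * b') := by group
      _ = 1 := by rw [hFour.aa, hFour.bb, one_mul]
  have h2 : c' * c' = 1 := by
    rcases h1 with h1 | h1 | h1 | h1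
    · have : c' = 1 := R.conj_injective (by rw [h1, map_one])
      rw [this, one_mul]
    · rw [R.conj_injective h1]; exact hFour.aa
    · rw [R.conj_injective h1]; exact hFour.bb
    · rw [R.conj_injective h1]; exact hab'
  rw [hc', key, mk_eq_one_iff] at h2
  have h3 : k * k ∈ core E := by
    have h4 : E ⊓ core J ≤ core E := by
      refine le_core inf_le_left ?_ ?_
      · intro e he
        rw [mem_normalizer_iff]
        intro x
        have h5 : e ∈ normalizer (core J : Set G) := le_normalizer_core J (hE he)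
        constructor
        · rintro ⟨h6, h7⟩
          exact ⟨E.mul_mem (E.mul_mem he h6) (E.inv_mem he), (mem_normalizer_iff.mp h5 x).mp h7⟩
        · rintro ⟨h6, h7⟩
          refine ⟨?_, (mem_normalizer_iff.mp h5 x).mpr h7⟩
          have h8 := E.mul_mem (E.mul_mem (E.inv_mem he) h6) he
          rwa [show e⁻¹ * (e * x * e⁻¹) * e = x by group] at h8
      · obtain ⟨m, hm⟩ := Subgroup.card_dvd_of_le (inf_le_right : E ⊓ core J ≤ core J)
        rw [hm] at hodd
        exact (Nat.odd_mul.mp hodd).1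
    exact h4 ⟨mul_mem hk hk, h2⟩
  rw [← M.core_iff _ (mul_mem hk hk), M.mul _ _ (le_normalizer hk) (le_normalizer hk), hkσ] at h3
  have h4 : orderOf σ = 3 := h3c.orderOf
  have h5 : orderOf σ ∣ 2 := orderOf_dvd_of_pow_eq_one (by rw [pow_two]; exact h3)
  rw [h4] at h5
  norm_num at h5

/-- **(F3)** -/
theorem no_alt' {J E : Subgroup G} (R : Cfsg.Agent.GH.L2Aut.Rep F (↥J ⧸ oddCore ↥J)) (hE : E ≤ J)
    {k : ℕ} (h7 : 7 ≤ k) : ¬ AltType E k := by
  intro h
  obtain ⟨M⟩ := h.mod_of_card (S := (Finset.univ : Finset (Fin k))) (by rw [Finset.card_univ, Fintype.card_fin]) h7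
  exact no_mod R hE M (by rw [Finset.card_univ, Fintype.card_fin]; exact h7)

end alt

end Cfsg.Agent.UGT.A9.LTwo
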