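import Cfsg.Agent.UGT.A9.LTwoRank
import Cfsg.Agent.GH.L2AutF
import Cfsg.Agent.TwoFusion.SLTwoFacts
import Cfsg.Agent.SignalizersComponents.CoprimeGen

/-!
# L2-facts for node A9 : involutions of field type

* `exists_comp` : an involution of field type, `q > 9`, has a 2-component on `J`;
* `fixes_core_nine` : `q = 9`;
* `exists_comp_of_eight` (TF).
-/

set_option autoImplicit false

open Cfsg Subgroup
open Cfsg.Agent.Intrinsic.Basic Cfsg.Agent.Intrinsic.Diag Cfsg.Agent.Intrinsic.Cen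
open Cfsg.Agent.SignalizersComponents Cfsg.Agent.Lib
open Cfsg.Agent.SignalizersComponents.IntrinsicBasic
open Cfsg.Agent.McLLyComp.Act
open Cfsg.Agent.UGT.Triple Cfsg.Agent.UGT.PumpGen
open Cfsg.Agent.UAlt Cfsg.Agent.UAlt.Supply
open Cfsg.Agent.GH.L2Aut
open scoped commutatorElement

namespace Cfsg.Agent.UGT.A9.LTwo

section rep

variable {F : Type*} [Field F] [Finite F] {L : Type*} [Group L] (R : Cfsg.Agent.GH.L2Aut.Rep F L)

local notation "SL2" => Matrix.SpecialLinearGroup (Fin 2) F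
local notation "M2" => Matrix (Fin 2) (Fin 2) F

theorem sub_normal {K : Subfield F} {σ : F ≃+* F} (hm : Even (orderOf σ)) (hK : ∀ a, a ∈ K ↔ σ a = a)
    (hcard : Nat.card F = Nat.card K ^ orderOf σ) :
    ((R.sub K).subgroupOf (fixSub (R.fa σ))).Normal := by
  obtain ⟨w, hw, hws, hcov⟩ := R.exists_outer hm hK hcard
  apply normal_of_index_eq_two
  rw [index_eq_two_iff']
  refine ⟨⟨w, hw⟩, ?_⟩
  rintro ⟨x, hx⟩
  rw [mem_subgroupOf, mem_subgroupOf]
  change Xor (w * x ∈ R.sub K) (x ∈ R.sub K)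
  by_cases hxs : x ∈ R.sub K
  · refine Or.inr ⟨hxs, fun h => hws ?_⟩
    have h1 := mul_mem h (inv_mem hxs)
    rwa [mul_inv_cancel_right] at h1
  · exact Or.inl ⟨hcov x hx hxs, hxs⟩

/-- the isomorphism of a representation -/
noncomputable def toPSL {F : Type*} [Field F] {L : Type*} [Group L] (R : Cfsg.Agent.GH.L2Aut.Rep F L) :
    L ≃* Matrix.ProjectiveSpecialLinearGroup (Fin 2) F :=
  (QuotientGroup.quotientKerEquivOfSurjective R.π R.surj).symm.trans
    (QuotientGroup.quotientMulEquivOfEq (by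
      ext x
      rw [MonoidHom.mem_ker, R.ker, mem_center_iff R.two]))

include R in
theorem simple_rep (hq : 3 < Nat.card F) : IsSimpleGroup L := by
  have := Fintype.ofFinite F
  rw [Nat.card_eq_fintype_card] at hq
  have h1 := TwoFusion.SLTwoFacts.isSimpleGroup_psl (F := F) hq
  exact ((toPSL R).isSimpleGroup_congr).mpr h1

include R in
theorem not_comm_rep : ¬ IsMulCommutative L := by
  intro h
  obtain ⟨a, b, hab⟩ := R.exists_four
  have h1 : a ∈ center L := by
    rw [Subgroup.mem_center_iff]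
    intro g
    exact h.is_comm.comm g a
  rw [R.center_eq_bot, Subgroup.mem_bot] at h1
  exact hab.a1 h1

include R in
theorem two_dvd_rep : 2 ∣ Nat.card L := by
  obtain ⟨a, b, hab⟩ := R.exists_four
  have h1 : orderOf a = 2 := orderOf_eq_prime (by rw [pow_two, hab.aa]) hab.a1
  rw [← h1]
  exact orderOf_dvd_natCard a

/-- `q = 9` : an automorphism of odd order is linear -/
theorem fld_eq_one_of_odd (h9 : Nat.card F = 9) {σ : F ≃+* F} (hodd : Odd (orderOf σ)) : σ = 1 := by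
  obtain ⟨K, hK, hcard⟩ := exists_fixed_field σ
  rw [← orderOf_eq_one_iff]
  have h1 : 1 < Nat.card K := Finite.one_lt_card
  rw [h9] at hcard
  generalize orderOf σ = n at *
  generalize Nat.card K = k at *
  have h2 : n ≤ 3 := by
    by_contra hcon
    push Not at hcon
    have h3 : 2 ^ 4 ≤ k ^ n := (Nat.pow_le_pow_left h1 4).trans (Nat.pow_le_pow_right (by omega) hcon)
    omega
  obtain ⟨m, hm⟩ := hodd
  have h3 : n = 1 ∨ n = 3 := by omega
  rcases h3 with h3 | h3
  · exact h3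
  · exfalso
    rw [h3] at hcard
    have h4 : k = 2 ∨ 3 ≤ k := by omega
    rcases h4 with h4 | h4
    · rw [h4] at hcard; norm_num at hcard
    · have := Nat.pow_le_pow_left h4 3
      omega

omit [Finite F] in
theorem pow_nine (hp3 : CharP F 3) (hfr : ∀ c : F, c ^ 9 = c) (a b : F) {i : M2} (hi : i * i = -1) :
    (a • (1 : M2) + b • i) ^ 9 = a • (1 : M2) + b • i := by
  have hcc : Commute (a • (1 : M2)) (b • i) := by
    have : Commute (1 : M2) i := Commute.one_left _
    exact (this.smul_left a).smul_right b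
  have h3 : Fact (Nat.Prime 3) := ⟨Nat.prime_three⟩
  have h6 : (a • (1 : M2) + b • i) ^ 3 ^ 2 = (a • (1 : M2)) ^ 3 ^ 2 + (b • i) ^ 3 ^ 2 :=
    add_pow_char_pow_of_commute 3 2 hcc
  have h7 : (3 : ℕ) ^ 2 = 9 := by norm_num
  rw [h7] at h6
  have h8 : i ^ 9 = i := by
    have h9 : i ^ 9 = (i * i) ^ 4 * i := by
      rw [← pow_two, ← pow_mul, ← pow_succ]
    have h10 : (-1 : M2) ^ 4 = 1 := by
      rw [show (4 : ℕ) = 2 * 2 by norm_num, pow_mul, neg_one_sq, one_pow]
    rw [h9, hi, h10, one_mul]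
  have h11 : (a • (1 : M2)) ^ 9 = a • (1 : M2) := by rw [smul_pow, hfr, one_pow]
  have h12 : (b • i) ^ 9 = b • i := by rw [smul_pow, hfr, h8]
  rw [h6, h11, h12]

include R in
/-- `q = 9` : the centralizer of an inner involution in `Aut PSL(2,9)` has no elements of odd order -/
theorem eq_one_of_odd_nine (h9 : Nat.card F = 9) {t : L} (ht : t * t = 1) (ht1 : t ≠ 1)
    {x : MulAut L} (hodd : Odd (orderOf x)) (hc : x * MulAut.conj t = MulAut.conj t * x) : x = 1 := by
  have hx9 : x ^ 8 = 1 → x = 1 := by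
    intro h
    have h1 : orderOf x ∣ 2 ^ 3 := orderOf_dvd_of_pow_eq_one h
    have h2 : (orderOf x).Coprime (2 ^ 3) := Nat.Coprime.pow_right 3 (Nat.coprime_two_right.mpr hodd)
    exact orderOf_eq_one_iff.mp (Nat.Coprime.eq_one_of_dvd h2 h1)
  apply hx9
  have h1 : R.fld x = 1 := by
    apply fld_eq_one_of_odd h9
    obtain ⟨m, hm⟩ := orderOf_map_dvd R.fld x
    rw [hm] at hodd
    exact (Nat.odd_mul.mp hodd).1
  obtain ⟨g, rfl⟩ := R.mem_PGL.1 (R.mem_PGL_iff_fld.2 h1)
  obtain ⟨i, rfl, hi⟩ := R.exists_inv_lift ht ht1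
  rw [R.conj_π] at hc
  rcases R.comm_cases hc.symm with h | h
  · -- `g = a + b i`
    have hns : ∀ c : F, i.1 ≠ c • (1 : M2) := by
      intro c h3
      apply R.not_scalar_of_ne (g := Matrix.SpecialLinearGroup.toGL i) _ c h3
      rw [← R.conj_π]
      intro h4
      exact ht1 (R.conj_injective (by rw [h4, map_one]))
    obtain ⟨a, b, hab⟩ := exists_ab hns (M := g.1) h
    have hp3 : CharP F 3 := by
      have := Fintype.ofFinite F
      obtain ⟨p, hp⟩ := CharP.exists F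
      have hpp : p.Prime := CharP.char_is_prime F p
      obtain ⟨n, _, hn⟩ := FiniteField.card F p
      rw [← Nat.card_eq_fintype_card, h9] at hn
      have h3 : p ∣ 3 ^ 2 := by
        norm_num
        rw [hn]
        exact dvd_pow_self p (PNat.ne_zero n)
      have h4 := hpp.dvd_of_dvd_pow h3
      have h5 : p = 3 := (Nat.prime_dvd_prime_iff_eq hpp Nat.prime_three).1 h4
      rwa [h5] at hp
    have hfr : ∀ c : F, c ^ 9 = c := by
      intro c
      have := Fintype.ofFinite F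
      have h3 := FiniteField.pow_card c
      rwa [← Nat.card_eq_fintype_card, h9] at h3
    have h5 : g.1 ^ 9 = g.1 := by
      rw [hab]
      exact pow_nine hp3 hfr a b hi
    have h6 : g ^ 9 = g := Units.ext (by rw [Units.val_pow_eq_pow_val]; exact h5)
    have h7 : R.gl g ^ 9 = R.gl g := by rw [← map_pow, h6]
    have h8 : R.gl g ^ 8 * R.gl g = 1 * R.gl g := by rw [← pow_succ, h7, one_mul]
    exact mul_right_cancel h8
  · have h3 := R.anticomm_inv (g := Matrix.SpecialLinearGroup.toGL i) (h := g) (by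
      rw [h, neg_neg])
    calc R.gl g ^ 8 = (R.gl g * R.gl g) ^ 4 := by rw [← pow_two, ← pow_mul]
      _ = 1 := by rw [h3, one_pow]

end rep

section group

variable {G : Type*} [Group G] {F : Type*} [Field F] [Finite F]

/-- `C_J(g)` acts on the fixed points of `g` on `J / O(J)` -/
noncomputable def homC {J : Subgroup G} {g : G} (hg : g ∈ normalizer (J : Set G)) :
    ↥(J ⊓ centralizer ({g} : Set G)) →* ↥(fixSub (act J ⟨g, hg⟩)) where
  toFun x := ⟨QuotientGroup.mk ⟨x, x.2.1⟩, by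
    rw [mem_fixSub, act_mk hg x.2.1]
    congr 1
    apply Subtype.ext
    change g * x * g⁻¹ = x
    rw [← mem_centralizer_singleton_iff.mp x.2.2, mul_inv_cancel_right]⟩
  map_one' := rfl
  map_mul' _ _ := rfl

theorem homC_coe {J : Subgroup G} {g : G} (hg : g ∈ normalizer (J : Set G))
    (x : ↥(J ⊓ centralizer ({g} : Set G))) :
    (homC hg x : ↥J ⧸ oddCore ↥J) = QuotientGroup.mk ⟨x, x.2.1⟩ := rfl

variable [Finite G]

theorem homC_surjective {J : Subgroup G} {g : G} (hg : g ∈ normalizer (J : Set G)) (hgg : g * g = 1) :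
    Function.Surjective (homC hg) := by
  rintro ⟨y, hy⟩
  obtain ⟨⟨x, hx⟩, rfl⟩ := QuotientGroup.mk_surjective y
  rw [mem_fixSub, act_mk hg hx, mk_eq_iff] at hy
  -- `hy : (g x g⁻¹)⁻¹ x ∈ O(J)`
  have h1 : x * g * x⁻¹ * g⁻¹ ∈ core J := by
    have h2 : x ∈ normalizer (core J : Set G) := le_normalizer_core J hx
    have h3 := (mem_normalizer_iff.mp h2 _).mp hy
    have e : x * ((g * x * g⁻¹)⁻¹ * x) * x⁻¹ = x * g * x⁻¹ * g⁻¹ := by group
    rwa [e] at h3
  obtain ⟨v, hv, hvc⟩ := ClassificationK.PCompTransport.exists_mem_mul_commute (core J)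
    (coprime_card_core J) g x hgg h1
  have hvJ := core_le J hv
  refine ⟨⟨v⁻¹ * x, J.mul_mem (J.inv_mem hvJ) hx, mem_centralizer_singleton_iff.mpr hvc⟩, ?_⟩
  apply Subtype.ext
  rw [homC_coe, mk_eq_iff]
  change (v⁻¹ * x)⁻¹ * x ∈ core J
  have e : (v⁻¹ * x)⁻¹ * x = x⁻¹ * v * x := by group
  rw [e]
  have h2 : x⁻¹ ∈ normalizer (core J : Set G) := le_normalizer_core J (inv_mem hx)
  have h3 := (mem_normalizer_iff.mp h2 v).mp hv
  rwa [inv_inv] at h3

theorem odd_ker {J : Subgroup G} {g : G} (hg : g ∈ normalizer (J : Set G)) :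
    Odd (Nat.card (homC hg).ker) := by
  have h1 : (homC hg).ker.map (J ⊓ centralizer ({g} : Set G)).subtype ≤ core J := by
    rintro _ ⟨m, hm, rfl⟩
    have h2 : homC hg m = 1 := hm
    have h3 := congrArg Subtype.val h2
    rw [homC_coe] at h3
    exact (mk_eq_one_iff m.2.1).mp h3
  have h2 := Subgroup.card_dvd_of_le h1
  rw [Subgroup.card_map_of_injective (Subgroup.subtype_injective _)] at h2
  obtain ⟨m, hm⟩ := h2
  have h3 := odd_card_core J
  rw [hm] at h3
  exact (Nat.odd_mul.mp h3).1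

/-- **an involution of field type has a 2-component on `J`** (`q > 9`) -/
theorem exists_comp {J : Subgroup G} (R : Cfsg.Agent.GH.L2Aut.Rep F (↥J ⧸ oddCore ↥J)) {g : G}
    (hg : g ∈ normalizer (J : Set G)) (hgg : g * g = 1) (hP : act J ⟨g, hg⟩ ∉ R.PGL)
    (hq : 9 < Nat.card F) : ∃ E, IsComp (J ⊓ centralizer ({g} : Set G)) E := by
  have hfin := R.finite_aut
  have hα : act J ⟨g, hg⟩ * act J ⟨g, hg⟩ = 1 := by
    rw [← act_mul, act_congr (mul_mem hg hg) hgg]
    exact map_one _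
  obtain ⟨R', -, -, h1, h2⟩ := R.ftype_rep hP hα
  obtain ⟨σ, hσ⟩ : ∃ σ, σ = R.fld (act J ⟨g, hg⟩) := ⟨_, rfl⟩
  rw [← hσ] at h1 h2
  obtain ⟨K, hK, hcard⟩ := exists_fixed_field σ
  have hm : Even (orderOf σ) := by rw [h2]; exact even_two
  have hK3 : 3 < Nat.card K := by
    by_contra hcon
    push Not at hcon
    rw [h2] at hcard
    have := Nat.pow_le_pow_left hcon 2
    omega
  -- the component
  obtain ⟨C, hC⟩ : ∃ C, C = (R'.sub K).subgroupOf (fixSub (act J ⟨g, hg⟩)) := ⟨_, rfl⟩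
  have hle : R'.sub K ≤ fixSub (act J ⟨g, hg⟩) := by
    rw [h1]
    exact R'.sub_le_fix hK
  have hn : C.Normal := by
    have h3 := sub_normal R' hm hK hcard
    rw [hC]
    revert h3
    rw [h1]
    exact id
  have hcomp : IsComponent C := by
    rw [hC] at hn ⊢
    exact Mod.isComponent_subgroupOf hle hn.isSubnormal (simple_rep (R'.subRep K) hK3)
      (not_comm_rep (R'.subRep K))
  have h2C : 2 ∣ Nat.card C := by
    rw [hC, Nat.card_congr (subgroupOfEquivOfLe hle).toEquiv]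
    exact two_dvd_rep (R'.subRep K)
  obtain ⟨h3, -⟩ := IntrinsicLift.lift_component (homC hg) (homC_surjective hg hgg) (odd_ker hg)
    hcomp h2C
  exact ⟨_, isComp_of_subtype h3⟩

omit [Finite G] in
/-- two different nontrivial elements -/
theorem exists_two {X : Type*} [Group X] {A : Subgroup X} (h : 3 ≤ Nat.card A) :
    ∃ a ∈ A, ∃ b ∈ A, a ≠ 1 ∧ b ≠ 1 ∧ a ≠ b := by
  by_contra hcon
  push Not at hcon
  have h1 : Nat.card A ≤ 2 := by
    by_cases h3 : ∃ a ∈ A, a ≠ 1
    · obtain ⟨a, ha, ha1⟩ := h3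
      have h4 : (A : Set X) ⊆ {1, a} := by
        intro x hx
        by_cases hx1 : x = 1
        · exact Or.inl hx1
        · exact Or.inr (hcon a ha x hx ha1 hx1).symm
      have h5 := Set.ncard_le_ncard h4 (Set.toFinite _)
      have h6 := Set.ncard_insert_le (1 : X) {a}
      rw [Set.ncard_singleton] at h6
      have h7 : Nat.card A = (A : Set X).ncard := rfl
      omega
    · push Not at h3
      have h4 : A = ⊥ := (eq_bot_iff_forall _).mpr h3
      rw [h4, Subgroup.card_bot]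
      omega
  omega

omit [Finite G] in
/-- `A` elementary abelian of order 8, faithful on `J / O(J)` : the inner part has order 4, the other elements are
of field type -/
theorem exists_inner_four {J A : Subgroup G} (R : Cfsg.Agent.GH.L2Aut.Rep F (↥J ⧸ oddCore ↥J))
    (hA : A ≤ normalizer (J : Set G)) (h2 : ∀ a ∈ A, a * a = 1)
    (hf : ∀ a ∈ A, Fixes a J → a = 1) (h8 : Nat.card A = 8) :
    ∃ V ≤ A, Nat.card V = 4 ∧ (∀ v ∈ V, ∀ h : v ∈ normalizer (J : Set G), act J ⟨v, h⟩ ∈ Inn _) ∧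
      ∀ g ∈ A, g ∉ V → ∀ h : g ∈ normalizer (J : Set G), act J ⟨g, h⟩ ∉ R.PGL := by
  obtain ⟨V, hV⟩ : ∃ V : Subgroup G, ∀ y, y ∈ V ↔ y ∈ A ∧ ∀ h : y ∈ normalizer (J : Set G),
      act J ⟨y, h⟩ ∈ Inn (↥J ⧸ oddCore ↥J) := by
    refine ⟨{ carrier := {y | y ∈ A ∧ ∀ h : y ∈ normalizer (J : Set G), act J ⟨y, h⟩ ∈ Inn _},
              one_mem' := ⟨one_mem _, fun h => ?_⟩,
              mul_mem' := fun {a b} ha hb => ⟨mul_mem ha.1 hb.1, fun h => ?_⟩,
              inv_mem' := fun {a} ha => ⟨inv_mem ha.1, fun h => ?_⟩ }, fun y => Iff.rfl⟩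
    · have h3 : act J ⟨a * b, h⟩ = act J ⟨a, hA ha.1⟩ * act J ⟨b, hA hb.1⟩ := act_mul (hA ha.1) (hA hb.1)
      rw [h3]
      exact mul_mem (ha.2 _) (hb.2 _)
    · have h3 : act J ⟨1, h⟩ = 1 := map_one (act J)
      rw [h3]
      exact one_mem _
    · have h3 : act J ⟨a⁻¹, h⟩ = (act J ⟨a, hA ha.1⟩)⁻¹ := act_inv (hA ha.1)
      rw [h3]
      exact inv_mem (ha.2 _)
  have hVA : V ≤ A := fun y hy => ((hV y).mp hy).1
  have him : im J V = im J A ⊓ Inn _ := by
    ext x
    constructor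
    · intro hx
      obtain ⟨v, hv, h, rfl⟩ := mem_im.mp hx
      exact ⟨mem_im.mpr ⟨v, hVA hv, h, rfl⟩, ((hV v).mp hv).2 h⟩
    · rintro ⟨hx, hxI⟩
      obtain ⟨v, hv, h, rfl⟩ := mem_im.mp hx
      exact mem_im.mpr ⟨v, (hV v).mpr ⟨hv, fun _ => hxI⟩, h, rfl⟩
  have hc : Nat.card (im J V) = Nat.card V := card_im (hVA.trans hA) fun a ha => hf a (hVA ha)
  have hV4 : Nat.card V = 4 := by
    have h3 := card_le_two_mul R (im_sq (J := J) h2)
    rw [card_im hA hf, h8, ← him, hc] at h3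
    have h4 := card_inn_le R (A := im J V) (by rw [him]; exact inf_le_right)
      (im_sq fun a ha => h2 a (hVA ha))
    rw [hc] at h4
    omega
  refine ⟨V, hVA, hV4, fun v hv => ((hV v).mp hv).2, fun g hg hgV h hP => hgV ?_⟩
  obtain ⟨a, ha, b, hb, ha1, hb1, hab⟩ := exists_two (A := im J V) (by rw [hc]; omega)
  have hmem : ∀ x ∈ im J V, x ∈ im J A ∧ x ∈ Inn (↥J ⧸ oddCore ↥J) := by
    intro x hx
    rw [him] at hx
    exact hx
  have hsq := im_sq (J := J) h2
  have hgim : act J ⟨g, h⟩ ∈ im J A := mem_im.mpr ⟨g, hg, h, rfl⟩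
  have h3 := mem_four_of_comm R (hmem a ha).2 (hmem b hb).2 (hsq a (hmem a ha).1) (hsq b (hmem b hb).1)
    ha1 hb1 hab (comm_of_sq' hsq (hmem a ha).1 (hmem b hb).1) hP (comm_of_sq' hsq hgim (hmem a ha).1)
    (comm_of_sq' hsq hgim (hmem b hb).1)
  refine (hV g).mpr ⟨hg, fun _ => ?_⟩
  rcases h3 with h3 | h3 | h3 | h3
  · rw [h3]; exact one_mem _
  · rw [h3]; exact (hmem a ha).2
  · rw [h3]; exact (hmem b hb).2
  · rw [h3]; exact mul_mem (hmem a ha).2 (hmem b hb).2

/-- `q = 9` : a group `O` of odd order, normalized by a four-group `V` which is inner and faithful on `J / O(J)`, is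
trivial on `J / O(J)` -/
theorem fixes_of_nine {J O V : Subgroup G} (R : Cfsg.Agent.GH.L2Aut.Rep F (↥J ⧸ oddCore ↥J))
    (h9 : Nat.card F = 9) (hO : Odd (Nat.card O)) (hOJ : O ≤ normalizer (J : Set G))
    (hVJ : V ≤ normalizer (J : Set G)) (hV4 : Nat.card V = 4) (hV2 : ∀ v ∈ V, v * v = 1)
    (hVf : ∀ v ∈ V, Fixes v J → v = 1)
    (hVI : ∀ v ∈ V, ∀ h : v ∈ normalizer (J : Set G), act J ⟨v, h⟩ ∈ Inn _)
    (hVO : V ≤ normalizer (O : Set G)) : ∀ d ∈ O, Fixes d J := by
  have hp2 : Fact (Nat.Prime 2) := ⟨Nat.prime_two⟩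
  obtain ⟨K, hK⟩ : ∃ K : Subgroup G, ∀ y, y ∈ K ↔ Fixes y J := by
    refine ⟨{ carrier := {y | Fixes y J}, one_mem' := fixes_one J,
              mul_mem' := fun ha hb => fixes_mul ha hb,
              inv_mem' := fun ha => fixes_inv ha }, fun y => Iff.rfl⟩
  have hel : Cfsg.IsElementaryAbelian 2 V := by
    refine ⟨⟨⟨fun x y => Subtype.ext (comm_of_sq' hV2 x.2 y.2)⟩⟩, fun a ha => ?_⟩
    rw [pow_two]
    exact hV2 a ha
  have h1 := CoprimeGen.le_iSup_centralizer_ne_one (p := 2) (Z := O) hel (by rw [hV4]; norm_num)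
    (fun h => (Nat.not_even_iff_odd.mpr hO) (even_iff_two_dvd.mpr h)) hVO
  have h2 : O ≤ K := by
    refine h1.trans (iSup_le ?_)
    rintro ⟨a, ha, ha1⟩ y ⟨hy, hya⟩
    rw [hK]
    have hyJ := hOJ hy
    have haJ := hVJ ha
    rw [← act_eq_one_iff hyJ]
    obtain ⟨t, ht, hta⟩ := R.inn_inv (hVI a ha haJ) (by
      rw [← act_mul, act_congr (mul_mem haJ haJ) (hV2 a ha)]
      exact map_one _)
    have ht1 : t ≠ 1 := by
      rintro rfl
      rw [map_one, act_eq_one_iff] at hta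
      exact ha1 (hVf a ha hta)
    apply eq_one_of_odd_nine R h9 ht ht1
    · have h3 : orderOf (act J ⟨y, hyJ⟩) ∣ Nat.card O := by
        refine (orderOf_map_dvd (act J) _).trans ?_
        rw [Subgroup.orderOf_mk]
        exact Subgroup.orderOf_dvd_natCard _ hy
      obtain ⟨m, hm⟩ := h3
      rw [hm] at hO
      exact (Nat.odd_mul.mp hO).1
    · rw [← hta, ← act_mul, ← act_mul]
      exact act_congr _ (mem_centralizer_singleton_iff.mp hya)
  exact fun d hd => (hK d).mp (h2 hd)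

/-- **(TF)** -/
theorem exists_comp_of_eight {e f : G} {J A : Subgroup G}
    (R : Cfsg.Agent.GH.L2Aut.Rep F (↥J ⧸ oddCore ↥J)) (T : IsTriple e f J)
    (hAf : A ≤ centralizer ({f} : Set G)) (hA : A ≤ normalizer (J : Set G))
    (h2 : ∀ a ∈ A, a * a = 1) (h8 : Nat.card A = 8) (he : e ∈ A)
    (hf : ∀ a ∈ A, Fixes a J → a = 1) :
    ∃ g ∈ A, g ≠ 1 ∧ ∃ E, IsComp (J ⊓ centralizer ({g} : Set G)) E := by
  obtain ⟨V, hVA, hV4, hVI, hVP⟩ := exists_inner_four R hA h2 hf h8
  obtain ⟨g, hg, hgV⟩ : ∃ g ∈ A, g ∉ V := by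
    by_contra hcon
    push Not at hcon
    have h3 := Subgroup.card_le_of_le (show A ≤ V from hcon)
    omega
  have hg1 : g ≠ 1 := fun h => hgV (h ▸ one_mem _)
  by_cases h9 : 9 < Nat.card F
  · exact ⟨g, hg, hg1, exists_comp R (hA hg) (h2 g hg) (hVP g hg hgV _) h9⟩
  · exfalso
    -- `q = 9`
    have hF9 : Nat.card F = 9 := by
      have hα : act J ⟨g, hA hg⟩ * act J ⟨g, hA hg⟩ = 1 := by
        rw [← act_mul, act_congr (mul_mem (hA hg) (hA hg)) (h2 g hg)]
        exact map_one _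
      have h3 := R.fld_order_two (hVP g hg hgV _) hα
      obtain ⟨K, hK, hcard⟩ := exists_fixed_field (R.fld (act J ⟨g, hA hg⟩))
      rw [h3] at hcard
      have h4 : 1 < Nat.card K := Finite.one_lt_card
      have h5 := odd_card (two_sub R.two K)
      obtain ⟨m, hm⟩ := h5
      have h6 : 3 ≤ Nat.card K := by omega
      have h7 := Nat.pow_le_pow_left h6 2
      omega
    obtain ⟨d, hd, hdf, hdJ⟩ := T.bad
    apply hdJ
    refine fixes_of_nine R hF9 (O := core (centralizer ({f} : Set G) ⊓ centralizer ({e} : Set G)))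
      (odd_card_core _) ?_ (hVA.trans hA) hV4 (fun v hv => h2 v (hVA hv)) (fun v hv => hf v (hVA hv))
      hVI ?_ d (inf_le_core hd hdf)
    · intro y hy
      exact mem_normalizer T.comp (mem_c T.comm.symm) T.invx hy
    · intro v hv
      apply le_normalizer_core
      exact ⟨hAf (hVA hv), mem_c (comm_of_sq' h2 (hVA hv) he)⟩

end group

end Cfsg.Agent.UGT.A9.LTwo
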