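import Cfsg.Agent.UGT.A9.MarkOne
import Cfsg.Agent.UGT.RedAltB
import Cfsg.Agent.UGT.NoWing

/-!
# NodeA9, (3.1): the configuration

`Cfg x a M b c v d N`: `(x, a, L)` a triple, `L / O(L) ≅ Alt(S)`, `|S| = 9`; `b`, `c` commuting involutions of `C(x, a)`
acting as commuting transpositions on `S` with `x b`, `x c ∈ L`; `v ∈ L` interchanges `b` and `c`; `N` is the 2-component
of `C(a, b, c)` in `L`.
-/

set_option autoImplicit false
set_option linter.unusedSectionVars false

open Cfsg Subgroup Equiv Equiv.Perm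
open Cfsg.Agent.SignalizersComponents Cfsg.Agent.Lib
open Cfsg.Agent.SignalizersComponents.IntrinsicBasic
open Cfsg.Agent.SignalizersComponents.IntrinsicIntr
open Cfsg.Agent.SignalizersComponents.PLayerAut
open Cfsg.Agent.Intrinsic.Basic Cfsg.Agent.Intrinsic.Cen Cfsg.Agent.Intrinsic.Diag
open Cfsg.Agent.McLLyComp.Act
open Cfsg.Agent.UGT.Triple Cfsg.Agent.UGT.LemG Cfsg.Agent.UGT.PumpGen Cfsg.Agent.UGT.Iface
open Cfsg.Agent.UGT.RedAlt
open Cfsg.Agent.UAlt
open scoped commutatorElement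

namespace Cfsg.Agent.UGT.A9

open Marker

universe u
variable {G : Type u} [Group G] [Finite G] {α : Type*} [Fintype α] [DecidableEq α]

/-- the world of `NodeA9` -/
def W9 (G : Type u) [Group G] : Prop := ∀ (x a : G) (L : Subgroup G), IsTriple x a L →
  IsL2 (Bar L) ∨ IsAlt 7 (Bar L) ∨ IsAlt 9 (Bar L)

structure Cfg (x a : G) {L : Subgroup G} {S : Finset α} (M : Mod L S) (b c v d : G) (N : Subgroup G) :
    Prop where
  T : IsTriple x a L
  card : S.card = 9
  pb : Part x a M (x * b) b d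
  pc : Part x a M (x * c) c d
  bc : b * c = c * b
  rL : b * c ∈ L
  vL : v ∈ L
  vb : v * b * v⁻¹ = c
  vc : v * c * v⁻¹ = b
  lab : ∃ p q p' q' : α, p ∈ S ∧ q ∈ S ∧ p' ∈ S ∧ q' ∈ S ∧ [p, q, p', q'].Nodup ∧ M.φ b = swap p q ∧
    M.φ c = swap p' q'
  Ncomp : IsComp (centralizer ({a} : Set G) ⊓ centralizer ({b} : Set G) ⊓ centralizer ({c} : Set G)) N
  NL : N ≤ L
  Nlab : ∀ n ∈ N, M.φ n ∈ alt (fixIn S (M.φ (b * c)))
  Nlift : ∀ σ ∈ alt (fixIn S (M.φ (b * c))), ∃ n ∈ N, M.φ n = σ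
  dφ : M.φ d ≠ 1

namespace Cfg

variable {x a b c v d : G} {L N : Subgroup G} {S : Finset α} {M : Mod L S}

theorem symm (h : Cfg x a M b c v d N) : Cfg x a M c b v d N where
  T := h.T
  card := h.card
  pb := h.pc
  pc := h.pb
  bc := h.bc.symm
  rL := h.bc ▸ h.rL
  vL := h.vL
  vb := h.vc
  vc := h.vb
  lab := by
    obtain ⟨p, q, p', q', h1, h2, h3, h4, h5, h6, h7⟩ := h.lab
    refine ⟨p', q', p, q, h3, h4, h1, h2, ?_, h7, h6⟩
    simp only [List.nodup_cons, List.mem_cons, List.not_mem_nil, or_false, not_or, not_false_eq_true,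
      List.nodup_nil, and_true] at h5 ⊢
    obtain ⟨⟨a1, a2, a3⟩, ⟨a4, a5⟩, a6⟩ := h5
    exact ⟨⟨a6, Ne.symm a2, Ne.symm a4⟩, ⟨Ne.symm a3, Ne.symm a5⟩, a1⟩
  Ncomp := by
    have := h.Ncomp
    rwa [inf_right_comm] at this
  NL := h.NL
  Nlab := by rw [← h.bc]; exact h.Nlab
  Nlift := by rw [← h.bc]; exact h.Nlift
  dφ := h.dφ

variable (h : Cfg x a M b c v d N)

include h

theorem bb : b * b = 1 := sq_of_order h.pb.invc
theorem cc : c * c = 1 := sq_of_order h.pc.invc
theorem aa : a * a = 1 := sq_of_order h.T.inva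
theorem rr : (b * c) * (b * c) = 1 := by
  calc (b * c) * (b * c) = b * (c * b) * c := by group
    _ = b * (b * c) * c := by rw [h.bc]
    _ = (b * b) * (c * c) := by group
    _ = 1 := by rw [h.bb, h.cc, one_mul]

theorem ab : a * b = b * a := h.pb.ca.symm
theorem ac : a * c = c * a := h.pc.ca.symm
theorem br : b * (b * c) = (b * c) * b := by rw [mul_assoc, h.bc]
theorem cr : c * (b * c) = (b * c) * c := by rw [← mul_assoc, h.bc]
theorem ar : a * (b * c) = (b * c) * a := by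
  rw [← mul_assoc, h.ab, mul_assoc, h.ac, mul_assoc]

theorem Nb {n : G} (hn : n ∈ N) : n * b = b * n := mem_centralizer_singleton_iff.mp (h.Ncomp.le hn).1.2
theorem Nc {n : G} (hn : n ∈ N) : n * c = c * n := mem_centralizer_singleton_iff.mp (h.Ncomp.le hn).2
theorem Na {n : G} (hn : n ∈ N) : n * a = a * n := mem_centralizer_singleton_iff.mp (h.Ncomp.le hn).1.1
theorem Nr {n : G} (hn : n ∈ N) : n * (b * c) = (b * c) * n := by
  rw [← mul_assoc, h.Nb hn, mul_assoc, h.Nc hn, mul_assoc]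

theorem mkr : Mkr N := Mkr.of_comp h.Ncomp

theorem φr : M.φ (b * c) = M.φ b * M.φ c := M.mul _ _ h.pb.cN h.pc.cN

theorem rne : M.φ (b * c) ≠ 1 := by
  rw [h.φr]
  obtain ⟨p, q, p', q', h1, h2, h3, h4, h5, h6, h7⟩ := h.lab
  rw [h6, h7]
  simp only [List.nodup_cons, List.mem_cons, List.not_mem_nil, or_false, not_or, not_false_eq_true,
      List.nodup_nil, and_true] at h5
  intro e
  have := Equiv.congr_fun e p
  rw [Perm.mul_apply, swap_apply_of_ne_of_ne h5.1.2.1 h5.1.2.2, swap_apply_left, Perm.one_apply] at this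
  exact h5.1.1 this.symm

/-- the fixed points of `b`, `c`, `b c` -/
theorem fix_facts : (fixIn S (M.φ b)).card = 7 ∧ (fixIn S (M.φ c)).card = 7 ∧
    (fixIn S (M.φ (b * c))).card = 5 ∧ fixIn S (M.φ (b * c)) = fixIn S (M.φ b) ∩ fixIn S (M.φ c) := by
  obtain ⟨p, q, p', q', h1, h2, h3, h4, h5, h6, h7⟩ := h.lab
  simp only [List.nodup_cons, List.mem_cons, List.not_mem_nil, or_false, not_or, not_false_eq_true,
      List.nodup_nil, and_true] at h5
  obtain ⟨⟨a1, a2, a3⟩, ⟨a4, a5⟩, a6⟩ := h5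
  have e1 : fixIn S (M.φ b) = (S.erase q).erase p := by
    ext y
    rw [mem_fixIn, h6, Finset.mem_erase, Finset.mem_erase]
    constructor
    · rintro ⟨hy, hs⟩
      refine ⟨?_, ?_, hy⟩
      · rintro rfl; rw [swap_apply_left] at hs; exact a1 hs.symm
      · rintro rfl; rw [swap_apply_right] at hs; exact a1 hs
    · rintro ⟨h1, h2, h3⟩
      exact ⟨h3, swap_apply_of_ne_of_ne h1 h2⟩
  have e2 : fixIn S (M.φ c) = (S.erase q').erase p' := by
    ext y
    rw [mem_fixIn, h7, Finset.mem_erase, Finset.mem_erase]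
    constructor
    · rintro ⟨hy, hs⟩
      refine ⟨?_, ?_, hy⟩
      · rintro rfl; rw [swap_apply_left] at hs; exact a6 hs.symm
      · rintro rfl; rw [swap_apply_right] at hs; exact a6 hs
    · rintro ⟨h1, h2, h3⟩
      exact ⟨h3, swap_apply_of_ne_of_ne h1 h2⟩
  have e3 : fixIn S (M.φ (b * c)) = fixIn S (M.φ b) ∩ fixIn S (M.φ c) := by
    ext y
    rw [Finset.mem_inter, mem_fixIn, mem_fixIn, mem_fixIn, h.φr, Perm.mul_apply, h6, h7]
    constructor
    · rintro ⟨hy, hs⟩
      -- `swap p q (swap p' q' y) = y`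
      have key : swap p' q' y = swap p q y := by
        have := congrArg (swap p q) hs
        rwa [swap_apply_self] at this
      have h8 : swap p' q' y = y := by
        by_contra hne
        have hy1 : y = p' ∨ y = q' := by
          by_contra hcon
          push Not at hcon
          exact hne (swap_apply_of_ne_of_ne hcon.1 hcon.2)
        have hy2 : swap p q y = y := by
          rcases hy1 with rfl | rfl
          · exact swap_apply_of_ne_of_ne (Ne.symm a2) (Ne.symm a4)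
          · exact swap_apply_of_ne_of_ne (Ne.symm a3) (Ne.symm a5)
        exact hne (key.trans hy2)
      rw [h8] at hs
      exact ⟨⟨hy, hs⟩, hy, h8⟩
    · rintro ⟨⟨hy, hs⟩, -, hs'⟩
      exact ⟨hy, by rw [hs', hs]⟩
  refine ⟨?_, ?_, ?_, e3⟩
  · rw [e1, Finset.card_erase_of_mem (Finset.mem_erase.mpr ⟨a1, h1⟩), Finset.card_erase_of_mem h2, h.card]
  · rw [e2, Finset.card_erase_of_mem (Finset.mem_erase.mpr ⟨a6, h3⟩), Finset.card_erase_of_mem h4, h.card]
  · rw [e3, e1, e2]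
    have e4 : (S.erase q).erase p ∩ (S.erase q').erase p' = (((S.erase q).erase p).erase q').erase p' := by
      ext y
      simp only [Finset.mem_inter, Finset.mem_erase]
      tauto
    rw [e4, Finset.card_erase_of_mem, Finset.card_erase_of_mem, Finset.card_erase_of_mem,
      Finset.card_erase_of_mem h2, h.card]
    · exact Finset.mem_erase.mpr ⟨a1, h1⟩
    · exact Finset.mem_erase.mpr ⟨Ne.symm a3, Finset.mem_erase.mpr ⟨Ne.symm a5, h4⟩⟩
    · refine Finset.mem_erase.mpr ⟨a6, Finset.mem_erase.mpr ⟨Ne.symm a2, Finset.mem_erase.mpr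
        ⟨Ne.symm a4, h3⟩⟩⟩

theorem subset_b : fixIn S (M.φ (b * c)) ⊆ fixIn S (M.φ b) := by
  rw [h.fix_facts.2.2.2]; exact Finset.inter_subset_left

/-- `N ≤ cmp b` -/
theorem N_le_b : N ≤ M.cmp b := by
  rw [← h.Ncomp.pElem_eq]
  refine PComponents.pElem_mono fun n hn => ?_
  exact M.mem_pre.mpr ⟨h.NL hn, (h.Nb hn).symm, alt_mono h.subset_b (h.Nlab n hn)⟩

theorem N_le_r : N ≤ M.cmp (b * c) := by
  rw [← h.Ncomp.pElem_eq]
  refine PComponents.pElem_mono fun n hn => ?_
  exact M.mem_pre.mpr ⟨h.NL hn, (h.Nr hn).symm, h.Nlab n hn⟩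

theorem ncomm_a : N ≤ centralizer ({a} : Set G) := h.Ncomp.le.trans (inf_le_left.trans inf_le_left)
theorem ncomm_b : N ≤ centralizer ({b} : Set G) := h.Ncomp.le.trans (inf_le_left.trans inf_le_right)
theorem ncomm_c : N ≤ centralizer ({c} : Set G) := h.Ncomp.le.trans inf_le_right
theorem ncomm_r : N ≤ centralizer ({b * c} : Set G) := fun _ hn =>
  mem_centralizer_singleton_iff.mpr (h.Nr hn)

end Cfg

end Cfsg.Agent.UGT.A9
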