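import Cfsg.Agent.UGT.A9.BadA
import Cfsg.Agent.UGT.RedR
import Cfsg.Agent.UGT.RedRB

/-!
# NodeA9, (1.1), (1.2): pump-ups

`PK x a d c E K`: `(x, c, K)` is a triple, the 2-component `E` of `C(a, c)` lies in `K` or is the diagonal of `K`, `K^a`.
-/

set_option autoImplicit false
set_option linter.unusedSectionVars false

open Cfsg Subgroup Equiv Equiv.Perm
open Cfsg.Agent.SignalizersComponents Cfsg.Agent.Lib
open Cfsg.Agent.SignalizersComponents.IntrinsicBasic
open Cfsg.Agent.SignalizersComponents.IntrinsicIntr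
open Cfsg.Agent.SignalizersComponents.PLayerAut
open Cfsg.Agent.Intrinsic.Basic Cfsg.Agent.Intrinsic.Cen Cfsg.Agent.Intrinsic.Diag
open Cfsg.Agent.McLLyComp.Act
open Cfsg.Agent.UGT.Triple Cfsg.Agent.UGT.LemG Cfsg.Agent.UGT.PumpGen Cfsg.Agent.UGT.Iface
open Cfsg.Agent.UGT.RedAlt Cfsg.Agent.UGT.NoWing Cfsg.Agent.UGT.RedR Cfsg.Agent.UGT.RedRB
open Cfsg.Agent.UAlt
open scoped commutatorElement

namespace Cfsg.Agent.UGT.A9

open Marker

universe u
variable {G : Type u} [Group G] [Finite G] {α : Type*} [Fintype α] [DecidableEq α]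

/-! ### types -/

theorem W9.center_bot (W : W9 G) {x a : G} {L : Subgroup G} (T : IsTriple x a L) :
    center (Bar L) = ⊥ := by
  rcases W x a L T with h | h | h
  · exact center_of_L2 h
  · obtain ⟨Mo⟩ := exists_mod (by norm_num) h
    exact center_bar Mo
  · obtain ⟨Mo⟩ := exists_mod (by norm_num) h
    exact center_bar Mo

/-- the fact (F1) -/
def F1 (G : Type u) [Group G] : Prop := ∀ K : Subgroup G, IsL2 (Bar K) → OneComp K

/-- the facts (F2), (F6) -/
def F26 (G : Type u) [Group G] : Prop := ∀ K : Subgroup G, IsL2 (Bar K) →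
  ∀ s ∈ normalizer (K : Set G), s * s = 1 → ¬ Fixes s K → ∀ E : Subgroup G,
    IsComp (K ⊓ centralizer ({s} : Set G)) E → IsAlt 5 (Bar E) → Nat.card (Bar K) = 7800 ∧
      ∀ t ∈ normalizer (K : Set G), t * t = 1 → t * s = s * t → Fixes t E →
        Fixes t K ∨ Fixes (s * t) K

theorem W9.oneComp (W : W9 G) (hF : F1 G) {x a : G} {L : Subgroup G} (T : IsTriple x a L) :
    OneComp L := by
  rcases W x a L T with h | h | h
  · exact hF L h
  · obtain ⟨Mo⟩ := exists_mod (by norm_num) h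
    exact OneComp.of_mod Mo
  · obtain ⟨Mo⟩ := exists_mod (by norm_num) h
    exact OneComp.of_mod Mo

/-! ### pump-ups -/

structure PK (x a d c : G) (E K : Subgroup G) : Prop where
  T : IsTriple x c K
  df : ¬ Fixes d K
  or : (a ∈ normalizer (K : Set G) ∧ E ≤ K) ∨
    (cj a K ≠ K ∧ E = diag (centralizer ({c} : Set G)) K a)

section PK

variable {x a d c : G} {E K : Subgroup G}

/-- diagonal case: `K / O(K) ≅ E / O(E)` -/
theorem PK.equiv (h : PK x a d c E K) (W : W9 G) (ha : a * a = 1) (hac : a * c = c * a)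
    (hne : cj a K ≠ K) : E = diag (centralizer ({c} : Set G)) K a ∧
    Nonempty ((↥K ⧸ oddCore ↥K) ≃* (↥E ⧸ oddCore ↥E)) := by
  have hE : E = diag (centralizer ({c} : Set G)) K a := by
    rcases h.or with h1 | h1
    · exact absurd (mem_normalizer_iff_cj.mp h1.1) hne
    · exact h1.2
  refine ⟨hE, ?_⟩
  obtain ⟨f, hfs, hfk⟩ : ∃ f : (↥K ⧸ oddCore ↥K) →* (↥E ⧸ oddCore ↥E), Function.Surjective f ∧
      f.ker ≤ center (↥K ⧸ oddCore ↥K) := by
    obtain ⟨-, -, -, -, f, hfs, hfk, -⟩ := exists_diag h.T.comp (mem_c hac) ha hne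
    rw [hE]
    exact ⟨f, hfs, hfk⟩
  have hZ := W.center_bot h.T
  rw [hZ, le_bot_iff] at hfk
  exact ⟨MulEquiv.ofBijective f ⟨(MonoidHom.ker_eq_bot_iff f).mp hfk, hfs⟩⟩

theorem PK.single (h : PK x a d c E K) (haK : a ∈ normalizer (K : Set G)) : E ≤ K := by
  rcases h.or with h1 | h1
  · exact h1.2
  · exact absurd (mem_normalizer_iff_cj.mp haK) h1.1

theorem exists_PK (hx : orderOf x = 2) (hc : orderOf c = 2) (ha2 : a * a = 1) (hca : c * a = a * c)
    (hcx : c * x = x * c) (hE : IsComp (centralizer ({c} : Set G) ⊓ centralizer ({a} : Set G)) E)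
    (hd : d ∈ core (centralizer ({x} : Set G))) (hda : d ∈ centralizer ({a} : Set G))
    (hdc : d ∈ centralizer ({c} : Set G)) (hf : ¬ Fixes d E) : ∃ K, PK x a d c E K := by
  obtain ⟨K, h1, h2, h3⟩ := pump hx hc ha2 hca hcx hE hd hda hdc hf
  exact ⟨K, h1, h2, h3⟩

/-- `E` of alternating type of degree at least 7, single case: type `A₇` or `A₉` -/
theorem PK.alt_of_seven (h : PK x a d c E K) (W : W9 G) (haK : a ∈ normalizer (K : Set G))
    {T : Finset α} (ME : Mod E T) (h7 : 7 ≤ T.card) : IsAlt 7 (Bar K) ∨ IsAlt 9 (Bar K) := by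
  rcases W x c K h.T with h1 | h1
  · exact absurd (noWing_L2 h1) (not_bar (h.single haK) ME h7)
  · exact h1

end PK

namespace Cfg

variable {x a b c v d : G} {L N : Subgroup G} {S : Finset α} {M : Mod L S}
variable (h : Cfg x a M b c v d N)

include h

/-- **(1.1)** -/
theorem exists_Kb : ∃ K, PK x a d b (M.cmp b) K := by
  obtain ⟨K, h1, h2, h3, -⟩ := h.pb.pump h.T
  exact ⟨K, h1, h2, h3⟩

theorem exists_mod_b : ∃ M' : Mod (M.cmp b) (fixIn S (M.φ b)), ∀ y ∈ M.cmp b, M'.φ y = M.φ y :=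
  M.exists_cmp h.pb.cN h.bb h.fix_facts.1.ge

theorem exists_mod_r : ∃ M' : Mod (M.cmp (b * c)) (fixIn S (M.φ (b * c))),
    ∀ y ∈ M.cmp (b * c), M'.φ y = M.φ y :=
  M.exists_cmp_five (le_normalizer h.rL) h.rr h.fix_facts.2.2.1.ge (by rw [h.fix_facts.2.2.1]; norm_num)

/-- single case for `b` -/
theorem single_b (W : W9 G) {K : Subgroup G} (hK : PK x a d b (M.cmp b) K)
    (haK : a ∈ normalizer (K : Set G)) : Fixes a K ∧ IsAlt 7 (Bar K) := by
  obtain ⟨MM, -⟩ := h.exists_mod_b
  have h7 := h.fix_facts.1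
  have key : ∀ (n : ℕ), 7 ≤ n → IsAlt n (Bar K) → Fixes a K ∧ IsAlt 7 (Bar K) := by
    intro n hn hA
    obtain ⟨Mo'⟩ := exists_mod hn hA
    have := h.pb.isAlt h.T hK.T hK.df haK (hK.single haK) Mo'
    rwa [h7] at this
  rcases hK.alt_of_seven W haK MM h7.ge with h1 | h1
  · exact key 7 le_rfl h1
  · exact key 9 (by norm_num) h1

theorem isAlt_cmp_b : IsAlt 7 (Bar (M.cmp b)) := by
  obtain ⟨e⟩ := quot_cmp M h.pb.cN h.bb (by rw [h.fix_facts.1]; norm_num)
  have := isAlt_of_equiv e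
  rwa [h.fix_facts.1] at this

theorem isAlt_cmp_r : IsAlt 5 (Bar (M.cmp (b * c))) := by
  obtain ⟨e⟩ := quot_cmp M (le_normalizer h.rL) h.rr h.fix_facts.2.2.1.ge
  have := isAlt_of_equiv e
  rwa [h.fix_facts.2.2.1] at this

/-- `K_b` has type `A₇` in both cases -/
theorem alt_b (W : W9 G) {K : Subgroup G} (hK : PK x a d b (M.cmp b) K) : IsAlt 7 (Bar K) := by
  by_cases haK : a ∈ normalizer (K : Set G)
  · exact (h.single_b W hK haK).2
  · obtain ⟨-, ⟨e⟩⟩ := hK.equiv W h.aa h.ab (fun e => haK (mem_normalizer_iff_cj.mpr e))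
    obtain ⟨e'⟩ := h.isAlt_cmp_b
    exact ⟨e.trans e'⟩

theorem isComp_cmp_b : IsComp (centralizer ({b} : Set G) ⊓ centralizer ({a} : Set G)) (M.cmp b) := by
  rw [inf_comm]
  exact M.isComp_cmp_of h.T.comp h.pb.cN h.bb (by rw [h.fix_facts.1]; norm_num)

theorem isComp_cmp_r :
    IsComp (centralizer ({b * c} : Set G) ⊓ centralizer ({a} : Set G)) (M.cmp (b * c)) := by
  rw [inf_comm]
  exact M.isComp_cmp_of h.T.comp (le_normalizer h.rL) h.rr h.fix_facts.2.2.1.ge

theorem comm_of_L {y : G} (hy : y ∈ L) : y * a = a * y :=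
  mem_centralizer_singleton_iff.mp (h.T.comp.le hy)

theorem fixes_a : Fixes a L := fixes_of_comm_core h.T.comp
  (mem_centralizer_singleton_iff.mpr rfl) (fun j hj => by
    rw [commutatorElement_def, ← h.comm_of_L hj, mul_inv_cancel_right, mul_inv_cancel]
    exact one_mem _)

theorem φa : M.φ a = 1 := (M.fixes_iff h.fixes_a.1).mpr h.fixes_a

theorem order_r : orderOf (b * c) = 2 :=
  orderOf_eq_prime (by rw [pow_two]; exact h.rr) (fun e => h.rne (by rw [e, M.one]))

theorem order_ab : orderOf (a * b) = 2 := by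
  refine orderOf_eq_prime ?_ ?_
  · rw [pow_two]
    calc a * b * (a * b) = a * (b * a) * b := by group
      _ = a * (a * b) * b := by rw [h.ab]
      _ = (a * a) * (b * b) := by group
      _ = 1 := by rw [h.aa, h.bb, one_mul]
  · intro e
    have e1 : b = a := by
      calc b = (a * a) * b := by rw [h.aa, one_mul]
        _ = a * (a * b) := by group
        _ = a := by rw [e, mul_one]
    -- `a` fixes `L`, `b` does not
    have h1 : M.φ b = 1 := by
      rw [e1]
      exact h.φa
    have h2 := h.fix_facts.1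
    rw [h1] at h2
    have h3 : fixIn S (1 : Perm α) = S := by
      ext y; rw [mem_fixIn]; simp
    rw [h3, h.card] at h2
    omega

theorem dL : d ∈ normalizer (L : Set G) := h.T.mem_normalizer_of_core h.pb.dD h.pb.da

theorem dlab : M.φ d ∈ alt (fixIn S (M.φ (b * c))) := by
  have h1 := (three_fix h.T M).2 d ⟨h.pb.dD, h.pb.da⟩
  refine alt_mono ?_ h1
  rw [h.fix_facts.2.2.2]
  have key : ∀ b' : G, Part x a M (x * b') b' d → fixIn S (M.φ x) ⊆ fixIn S (M.φ b') := by
    intro b' P i hi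
    rw [mem_fixIn] at hi ⊢
    refine ⟨hi.1, ?_⟩
    have e : M.φ b' = M.φ x * M.φ (x * b') := by
      rw [← M.mul _ _ h.T.x_mem (le_normalizer P.rL)]
      congr 1
      exact P.ceq
    rw [e, Perm.mul_apply]
    rcases P.part i with h2 | h2
    · rw [h2, hi.2]
    · rw [h2, hi.2, hi.2]
  exact Finset.subset_inter (key b h.pb) (key c h.pc)

theorem not_fixes_dr : ¬ Fixes d (M.cmp (b * c)) := by
  intro hf
  obtain ⟨MM, hMM⟩ := h.exists_mod_r
  apply h.dφ
  have h1 : ∀ σ ∈ alt (fixIn S (M.φ (b * c))), M.φ d * σ = σ * M.φ d := by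
    intro σ hσ
    obtain ⟨y, hy, rfl⟩ := M.cmp_lift (le_normalizer h.rL) h.rr h.fix_facts.2.2.1.ge hσ
    have hyL := M.cmp_le _ hy
    have h2 := hf.2 y hy
    have h3 := core_le _ h2
    rw [← MM.core_iff _ h3, hMM _ h3, commutatorElement_def,
      M.mul _ _ (mul_mem (mul_mem h.dL (le_normalizer hyL)) (inv_mem h.dL)) (inv_mem (le_normalizer hyL)),
      M.conj h.dL (le_normalizer hyL), M.inv (le_normalizer hyL), mul_inv_eq_one,
      mul_inv_eq_iff_eq_mul] at h2
    exact h2
  ext i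
  by_cases hi : i ∈ fixIn S (M.φ (b * c))
  · rw [apply_of_comm_alt (by rw [h.fix_facts.2.2.1]; norm_num) h1 hi, Perm.one_apply]
  · rw [h.dlab.2 i hi, Perm.one_apply]

theorem exists_Kr : ∃ K, PK x a d (b * c) (M.cmp (b * c)) K := by
  refine exists_PK h.T.invx h.order_r h.aa h.ar.symm ?_ h.isComp_cmp_r h.pb.dD h.pb.da ?_ h.not_fixes_dr
  · rw [mul_assoc, h.pc.cx, ← mul_assoc, h.pb.cx, mul_assoc]
  · rw [mem_centralizer_singleton_iff]
    have h1 := mem_centralizer_singleton_iff.mp h.pb.dc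
    have h2 := mem_centralizer_singleton_iff.mp h.pc.dc
    rw [← mul_assoc, h1, mul_assoc, h2, mul_assoc]

/-- centralizers with `a` -/
theorem cent_a (t : G) : centralizer ({a * t} : Set G) ⊓ centralizer ({a} : Set G) =
    centralizer ({t} : Set G) ⊓ centralizer ({a} : Set G) := by
  ext y
  simp only [mem_inf, mem_centralizer_singleton_iff]
  constructor
  · rintro ⟨h1, h2⟩
    refine ⟨?_, h2⟩
    have h3 : a * (y * t) = a * (t * y) := by
      calc a * (y * t) = (a * y) * t := by group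
        _ = (y * a) * t := by rw [h2]
        _ = y * (a * t) := by group
        _ = a * t * y := h1
        _ = a * (t * y) := by group
    exact mul_left_cancel h3
  · rintro ⟨h1, h2⟩
    refine ⟨?_, h2⟩
    calc y * (a * t) = (y * a) * t := by group
      _ = a * (y * t) := by rw [h2]; group
      _ = a * t * y := by rw [h1]; group

theorem order_at {t : G} (ht : orderOf t = 2) (hat : a * t = t * a) (hne : M.φ t ≠ 1) :
    orderOf (a * t) = 2 := by
  have htt := sq_of_order ht
  refine orderOf_eq_prime ?_ ?_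
  · rw [pow_two]
    calc a * t * (a * t) = a * (t * a) * t := by group
      _ = a * (a * t) * t := by rw [hat]
      _ = (a * a) * (t * t) := by group
      _ = 1 := by rw [h.aa, htt, one_mul]
  · intro e
    apply hne
    have e1 : t = a := by
      calc t = (a * a) * t := by rw [h.aa, one_mul]
        _ = a * (a * t) := by group
        _ = a := by rw [e, mul_one]
    rw [e1]; exact h.φa

theorem bne : M.φ b ≠ 1 := by
  intro h1
  have h2 := h.fix_facts.1
  rw [h1] at h2
  have h3 : fixIn S (1 : Perm α) = S := by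
    ext y; rw [mem_fixIn]; simp
  rw [h3, h.card] at h2
  omega

theorem exists_Kar : ∃ K, PK x a d (a * (b * c)) (M.cmp (b * c)) K := by
  have hxr : (b * c) * x = x * (b * c) := by
    rw [mul_assoc, h.pc.cx, ← mul_assoc, h.pb.cx, mul_assoc]
  have hax : a * x = x * a := h.T.comm
  have had := mem_centralizer_singleton_iff.mp h.pb.da
  refine exists_PK h.T.invx (h.order_at h.order_r h.ar h.rne) h.aa ?_ ?_ ?_ h.pb.dD h.pb.da ?_ h.not_fixes_dr
  · rw [mul_assoc, ← h.ar]
  · rw [mul_assoc, hxr, ← mul_assoc, hax, mul_assoc]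
  · rw [h.cent_a]; exact h.isComp_cmp_r
  · rw [mem_centralizer_singleton_iff]
    have h1 := mem_centralizer_singleton_iff.mp h.pb.dc
    have h2 := mem_centralizer_singleton_iff.mp h.pc.dc
    calc d * (a * (b * c)) = (d * a) * (b * c) := by group
      _ = a * (d * b) * c := by rw [had]; group
      _ = a * b * (d * c) := by rw [h1]; group
      _ = a * (b * c) * d := by rw [h2]; group

theorem exists_Kab : ∃ K, PK x a d (a * b) (M.cmp b) K := by
  have hax : a * x = x * a := h.T.comm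
  have had := mem_centralizer_singleton_iff.mp h.pb.da
  have h1 := mem_centralizer_singleton_iff.mp h.pb.dc
  refine exists_PK h.T.invx (h.order_at h.pb.invc h.ab h.bne) h.aa ?_ ?_ ?_ h.pb.dD h.pb.da ?_ h.pb.df
  · rw [mul_assoc, ← h.ab]
  · rw [mul_assoc, h.pb.cx, ← mul_assoc, hax, mul_assoc]
  · rw [h.cent_a]; exact h.isComp_cmp_b
  · rw [mem_centralizer_singleton_iff]
    calc d * (a * b) = (d * a) * b := by group
      _ = a * (d * b) := by rw [had]; group
      _ = a * b * d := by rw [h1]; group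

end Cfg

end Cfsg.Agent.UGT.A9
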