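import Cfsg.Agent.UGT.A9.MarkOne

/-!
# Labels: general lemmas for NodeA9

* `Mod.compat'`: two labellings agreeing on a common normalized subgroup `E` over `Alt(F)` agree on `F`.
* `Mod.not_fixes_cmp`: elements moving a fixed point of `t` do not fix `cmp t`.
* `Mod.cmp_unique`: the 2-component of `C_K(t)`.
-/

set_option autoImplicit false
set_option linter.unusedSectionVars false

open Cfsg Subgroup Equiv Equiv.Perm
open Cfsg.Agent.SignalizersComponents Cfsg.Agent.Lib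
open Cfsg.Agent.SignalizersComponents.IntrinsicBasic
open Cfsg.Agent.Intrinsic.Basic Cfsg.Agent.Intrinsic.Cen Cfsg.Agent.Intrinsic.Diag
open Cfsg.Agent.UAlt
open scoped commutatorElement

namespace Cfsg.Agent.UAlt.Mod

variable {G : Type*} [Group G] {α : Type*} [Fintype α] [DecidableEq α]
  {K K' E : Subgroup G} {S S' F : Finset α}

theorem compat' (M : Mod K S) (M' : Mod K' S') (hE : E ≤ normalizer (K : Set G))
    (hE' : E ≤ normalizer (K' : Set G)) (hφ : ∀ e ∈ E, M'.φ e = M.φ e) (hF : 4 ≤ F.card)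
    (hlift : ∀ σ ∈ alt F, ∃ e ∈ E, M.φ e = σ) {g : G} (hg : g ∈ normalizer (K : Set G))
    (hg' : g ∈ normalizer (K' : Set G)) (hgE : g ∈ normalizer (E : Set G)) {y : α} (hy : y ∈ F) :
    M'.φ g y = M.φ g y := by
  have h1 : ∀ σ ∈ alt F, ((M.φ g)⁻¹ * M'.φ g) * σ = σ * ((M.φ g)⁻¹ * M'.φ g) := by
    intro σ hσ
    obtain ⟨e, he, rfl⟩ := hlift σ hσ
    have h2 : g * e * g⁻¹ ∈ E := (mem_normalizer_iff.mp hgE e).mp he
    have h3 := hφ _ h2
    rw [M.conj hg (hE he), M'.conj hg' (hE' he), hφ e he] at h3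
    calc (M.φ g)⁻¹ * M'.φ g * M.φ e = (M.φ g)⁻¹ * (M'.φ g * M.φ e * (M'.φ g)⁻¹) * M'.φ g := by group
      _ = (M.φ g)⁻¹ * (M.φ g * M.φ e * (M.φ g)⁻¹) * M'.φ g := by rw [h3]
      _ = M.φ e * ((M.φ g)⁻¹ * M'.φ g) := by group
  have h3 := apply_of_comm_alt hF h1 hy
  rw [Perm.mul_apply, Perm.inv_eq_iff_eq] at h3
  exact h3

/-- if `[g, e]` has trivial label for the members `e` of `E` over `Alt(F)` then `g` is trivial on `F` -/
theorem apply_of_fixes (M : Mod K S) (hE : E ≤ normalizer (K : Set G)) (hF : 4 ≤ F.card)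
    (hlift : ∀ σ ∈ alt F, ∃ e ∈ E, M.φ e = σ) {g : G} (hg : g ∈ normalizer (K : Set G))
    (h : ∀ e ∈ E, M.φ ⁅g, e⁆ = 1) {y : α} (hy : y ∈ F) : M.φ g y = y := by
  refine apply_of_comm_alt hF (fun σ hσ => ?_) hy
  obtain ⟨e, he, rfl⟩ := hlift σ hσ
  have h2 := h e he
  rw [commutatorElement_def, M.mul _ _ (mul_mem (mul_mem hg (hE he)) (inv_mem hg)) (inv_mem (hE he)),
    M.conj hg (hE he), M.inv (hE he), mul_inv_eq_one, mul_inv_eq_iff_eq_mul] at h2
  exact h2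

variable [Finite G]

theorem not_fixes_cmp (M : Mod K S) {t : G} (ht : t ∈ normalizer (K : Set G)) (htt : t * t = 1)
    (h5 : 5 ≤ (fixIn S (M.φ t)).card) {n : G} (hn : n ∈ normalizer (K : Set G)) {y : α}
    (hy : y ∈ fixIn S (M.φ t)) (hne : M.φ n y ≠ y) : ¬ Fixes n (M.cmp t) := fun hf =>
  hne (M.apply_of_fixes (E := M.cmp t) ((M.cmp_le t).trans le_normalizer) (by omega)
    (fun σ hσ => M.cmp_lift ht htt h5 hσ) hn (fun e he =>
      (M.core_iff _ (core_le _ (M.core_cmp_le ht htt h5 (hf.2 e he)))).mpr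
        (M.core_cmp_le ht htt h5 (hf.2 e he))) hy)

end Cfsg.Agent.UAlt.Mod
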