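import Cfsg.Agent.UGT.A9.BadB
import Cfsg.Agent.UGT.A9.Label

/-!
# NodeA9, (3.1): reduction to the case `K_b = K_b^a`, `K_c = K_c^a`

`K = K_r = K_r^a`, `r = b c`. The group `C(b, c)` has at most one `N`-component (`unique_bc`).
* `comp_single`: if `K_c = K_c^a` then `C(b, c)` has an `N`-component of type `A₅`.
* `swap_c`: if `K_c ≠ K_c^a` then `b` interchanges them, and `C(b, c)` has an `N`-component of type `A₇`.
* `not_double` (3.1b): `K_c = K_c^a`.
-/

set_option autoImplicit false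
set_option linter.unusedSectionVars false

open Cfsg Subgroup Equiv Equiv.Perm
open Cfsg.Agent.SignalizersComponents Cfsg.Agent.Lib
open Cfsg.Agent.SignalizersComponents.IntrinsicBasic
open Cfsg.Agent.SignalizersComponents.IntrinsicIntr
open Cfsg.Agent.SignalizersComponents.PLayerAut
open Cfsg.Agent.Intrinsic.Basic Cfsg.Agent.Intrinsic.Cen Cfsg.Agent.Intrinsic.Diag
open Cfsg.Agent.McLLyComp.Act
open Cfsg.Agent.UGT.Triple Cfsg.Agent.UGT.LemG Cfsg.Agent.UGT.PumpGen Cfsg.Agent.UGT.Iface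
open Cfsg.Agent.UGT.RedAlt Cfsg.Agent.UGT.NoWing Cfsg.Agent.UGT.RedR Cfsg.Agent.UGT.RedRB
open Cfsg.Agent.UAlt
open scoped commutatorElement

namespace Cfsg.Agent.UGT.A9

open Marker

universe u
variable {G : Type u} [Group G] [Finite G] {α : Type*} [Fintype α] [DecidableEq α]

theorem cent_mul_left {s t : G} (hss : s * s = 1) :
    centralizer ({s * t} : Set G) ⊓ centralizer ({s} : Set G) =
      centralizer ({s} : Set G) ⊓ centralizer ({t} : Set G) := by
  ext y
  simp only [mem_inf, mem_centralizer_singleton_iff]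
  constructor
  · rintro ⟨h1, h2⟩
    refine ⟨h2, ?_⟩
    have h3 : s * (y * t) = s * (t * y) := by
      calc s * (y * t) = (s * y) * t := by group
        _ = (y * s) * t := by rw [h2]
        _ = y * (s * t) := by group
        _ = s * t * y := h1
        _ = s * (t * y) := by group
    exact mul_left_cancel h3
  · rintro ⟨h1, h2⟩
    refine ⟨?_, h1⟩
    calc y * (s * t) = (y * s) * t := by group
      _ = s * (y * t) := by rw [h1]; group
      _ = s * t * y := by rw [h2]; group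

omit [Finite G] in
theorem norm_of_le_cent {z : G} {K : Subgroup G} (hK : K ≤ centralizer ({z} : Set G)) :
    z ∈ normalizer (K : Set G) := by
  have key : ∀ k ∈ K, z * k * z⁻¹ = k := fun k hk => by
    rw [← mem_centralizer_singleton_iff.mp (hK hk), mul_inv_cancel_right]
  rw [mem_normalizer_iff]
  intro k
  constructor
  · intro hk; rw [key k hk]; exact hk
  · intro hk
    have h1 := key _ hk
    have h2 : z * k * z⁻¹ = k := by
      calc z * k * z⁻¹ = z⁻¹ * (z * (z * k * z⁻¹) * z⁻¹) * z := by group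
        _ = z⁻¹ * (z * k * z⁻¹) * z := by rw [h1]
        _ = k := by group
    rw [h2] at hk; exact hk

theorem not_five_seven {K : Type*} [Group K] (h5 : IsAlt 5 K) (h7 : IsAlt 7 K) : False := by
  obtain ⟨e5⟩ := h5
  obtain ⟨e7⟩ := h7
  have h1 := Nat.card_congr (e5.symm.trans e7).toEquiv
  have h2 : ∀ n, 2 ≤ n → 2 * Nat.card ↥(alternatingGroup (Fin n)) = n.factorial := by
    intro n hn
    have : Nontrivial (Fin n) := Fin.nontrivial_iff_two_le.mpr hn
    have h3 := two_mul_card_alternatingGroup (α := Fin n)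
    rw [Fintype.card_perm, Fintype.card_fin] at h3
    rw [Nat.card_eq_fintype_card]
    exact h3
  have h5 := h2 5 (by norm_num)
  have h7 := h2 7 (by norm_num)
  rw [h1, h7] at h5
  norm_num [Nat.factorial] at h5

namespace Cfg

variable {x a b c v d : G} {L N : Subgroup G} {S : Finset α} {M : Mod L S}
variable (h : Cfg x a M b c v d N)

include h

theorem exists_move : ∃ n ∈ N, ∃ i ∈ fixIn S (M.φ (b * c)), M.φ n i ≠ i := by
  obtain ⟨σ, hσ, -, hσ1⟩ := exists_inv_alt (S := fixIn S (M.φ (b * c))) (by rw [h.fix_facts.2.2.1]; norm_num)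
  obtain ⟨n, hn, e⟩ := h.Nlift σ hσ
  refine ⟨n, hn, ?_⟩
  by_contra hcon
  push Not at hcon
  apply hσ1
  rw [← e]
  ext i
  by_cases hi : i ∈ fixIn S (M.φ (b * c))
  · rw [hcon i hi, Perm.one_apply]
  · rw [(h.Nlab n hn).2 i hi, Perm.one_apply]

theorem cN_cmp_b : c ∈ normalizer (M.cmp b : Set G) :=
  M.mem_normalizer_cmp h.pb.cN h.pc.cN h.bc.symm

theorem N_le_c : N ≤ M.cmp c := by
  have := h.symm.N_le_b
  exact this

theorem NX : N ≤ centralizer ({b} : Set G) ⊓ centralizer ({c} : Set G) := le_inf h.ncomm_b h.ncomm_c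

/-- the labels of a labelling of `K_b` extending the labels of `cmp b` -/
theorem lab_b {K : Subgroup G} (MK : Mod K (fixIn S (M.φ b))) (hE : M.cmp b ≤ normalizer (K : Set G))
    (hφ : ∀ y ∈ M.cmp b, MK.φ y = M.φ y) {t : G} (htK : t ∈ normalizer (K : Set G))
    (htL : t ∈ normalizer (L : Set G)) (htb : t * b = b * t) :
    fixIn (fixIn S (M.φ b)) (MK.φ t) = fixIn S (M.φ b) ∩ fixIn S (M.φ t) := by
  ext i
  rw [mem_fixIn, Finset.mem_inter]
  constructor
  · rintro ⟨h1, h2⟩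
    refine ⟨h1, ?_⟩
    rw [M.compat' MK ((M.cmp_le b).trans le_normalizer) hE hφ (by rw [h.fix_facts.1]; norm_num)
      (fun σ hσ => M.cmp_lift h.pb.cN h.bb (by rw [h.fix_facts.1]; norm_num) hσ) htL htK
      (M.mem_normalizer_cmp h.pb.cN htL htb) h1] at h2
    exact mem_fixIn.mpr ⟨(mem_fixIn.mp h1).1, h2⟩
  · rintro ⟨h1, h2⟩
    refine ⟨h1, ?_⟩
    rw [M.compat' MK ((M.cmp_le b).trans le_normalizer) hE hφ (by rw [h.fix_facts.1]; norm_num)
      (fun σ hσ => M.cmp_lift h.pb.cN h.bb (by rw [h.fix_facts.1]; norm_num) hσ) htL htK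
      (M.mem_normalizer_cmp h.pb.cN htL htb) h1]
    exact (mem_fixIn.mp h2).2

/-- an involution `t` acting on `L` as `c` normalizing `K_b` has an `N`-component of type `A₅` in `K_b` -/
theorem comp_of_lab {K : Subgroup G} (MK : Mod K (fixIn S (M.φ b))) (hE : M.cmp b ≤ normalizer (K : Set G))
    (hφ : ∀ y ∈ M.cmp b, MK.φ y = M.φ y) {t : G} (htK : t ∈ normalizer (K : Set G))
    (htL : t ∈ normalizer (L : Set G)) (htb : t * b = b * t) (htt : t * t = 1) (htc : M.φ t = M.φ c) :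
    ∃ E, IsComp (K ⊓ centralizer ({t} : Set G)) E ∧ IsAlt 5 (Bar E) ∧ ¬ ∀ n ∈ N, Fixes n E := by
  have h1 := h.lab_b MK hE hφ htK htL htb
  rw [htc, ← h.fix_facts.2.2.2] at h1
  have h5 : (fixIn (fixIn S (M.φ b)) (MK.φ t)).card = 5 := by rw [h1, h.fix_facts.2.2.1]
  refine ⟨MK.cmp t, MK.isComp_cmp htK htt h5.ge, ?_, ?_⟩
  · obtain ⟨e⟩ := quot_cmp MK htK htt h5.ge
    have := isAlt_of_equiv e
    rwa [h5] at this
  · intro hf
    obtain ⟨n, hn, i, hi, hne⟩ := h.exists_move
    have hnb := h.N_le_b hn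
    refine MK.not_fixes_cmp htK htt h5.ge (hE hnb) (y := i) (by rw [h1]; exact hi) ?_ (hf n hn)
    rw [hφ n hnb]
    exact hne

/-- labelling of `K_b` -/
theorem exists_label (W : W9 G) {K : Subgroup G} (hK : PK x a d b (M.cmp b) K) :
    M.cmp b ≤ normalizer (K : Set G) ∧
      ∃ MK : Mod K (fixIn S (M.φ b)), ∀ y ∈ M.cmp b, MK.φ y = M.φ y := by
  obtain ⟨MM, hMM⟩ := h.exists_mod_b
  have h7 := h.fix_facts.1
  by_cases haK : a ∈ normalizer (K : Set G)
  · have hle := hK.single haK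
    obtain ⟨hfa, hA⟩ := h.single_b W hK haK
    refine ⟨hle.trans le_normalizer, ?_⟩
    -- `cmp b` covers `K`
    have hcen := isComp_cen hK.T.comp (mem_c h.ab) h.aa hfa
    have hcomp : IsComp (K ⊓ centralizer ({a} : Set G)) (M.cmp b) :=
      h.isComp_cmp_b.restrict (inf_le_inf_right _ hK.T.comp.le)
        (le_inf hle (h.isComp_cmp_b.le.trans inf_le_right))
    have he := comp_cen_eq hK.T.comp (mem_c h.ab) h.aa hfa hcomp
    obtain ⟨A, hA'⟩ := MM.exists_extend (K := K) (by rw [h7]) (by rw [he]; exact hcen.2)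
    exact ⟨A, fun y hy => (hA' y hy).trans (hMM y hy)⟩
  · have hne : cj a K ≠ K := fun e => haK (mem_normalizer_iff_cj.mpr e)
    obtain ⟨hd, -⟩ := hK.equiv W h.aa h.ab hne
    have hA := h.alt_b W hK
    have hs : IsSimpleGroup (↥K ⧸ oddCore ↥K) := by
      obtain ⟨e⟩ := hA
      have : IsSimpleGroup ↥(alternatingGroup (Fin 7)) :=
        alternatingGroup.isSimpleGroup (by rw [Nat.card_eq_fintype_card, Fintype.card_fin]; norm_num)
      exact (MulEquiv.isSimpleGroup_congr e).mpr this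
    obtain ⟨MK, hMK⟩ := exists_mod_diag hK.T.comp (mem_c h.ab) h.aa hne hs (by rw [h7]) hd MM
    refine ⟨fun m hm => ?_, MK, fun y hy => (hMK y hy).trans (hMM y hy)⟩
    rw [hd] at hm
    obtain ⟨k, -, -, -, h3⟩ := diag_act hK.T.comp (mem_c h.ab) h.aa hne hm
    exact h3

omit h in
theorem _root_.Cfsg.Agent.UGT.A9.W9.diag_equiv (W : W9 G) {t : G} {K : Subgroup G} (T : IsTriple x t K)
    {s : G} (hst : s * t = t * s) (hss : s * s = 1) (hne : cj s K ≠ K) :
    Nonempty (Bar K ≃* Bar (diag (centralizer ({t} : Set G)) K s)) := by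
  obtain ⟨-, -, -, -, f, hfs, hfk, -⟩ := exists_diag T.comp (mem_c hst) hss hne
  have hZ := W.center_bot T
  rw [hZ, le_bot_iff] at hfk
  exact ⟨MulEquiv.ofBijective f ⟨(MonoidHom.ker_eq_bot_iff f).mp hfk, hfs⟩⟩

/-- the `N`-components of `C(b)` -/
theorem mark_b {K : Subgroup G} (hK : PK x a d b (M.cmp b) K) :
    IsMark (centralizer ({b} : Set G)) N K := by
  rcases hK.or with ⟨-, h2⟩ | ⟨h1, h2⟩
  · exact mark_of_le h.mkr hK.T.comp (h.N_le_b.trans h2)
  · exact mark_diag h.mkr hK.T.comp (mem_c h.ab) h.aa h1 (h2 ▸ h.N_le_b)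

theorem eq_or_b {K : Subgroup G} (hK : PK x a d b (M.cmp b) K) {J : Subgroup G}
    (hJ : IsMark (centralizer ({b} : Set G)) N J) : J = K ∨ J = cj a K := by
  rcases hK.or with ⟨-, h2⟩ | ⟨h1, h2⟩
  · exact Or.inl (eq_of_le hK.T.comp (h.N_le_b.trans h2) hJ)
  · exact eq_or_of_diag hK.T.comp (mem_c h.ab) h.aa h1 (h2 ▸ h.N_le_b) hJ

section bad

variable (W : W9 G) (hF1 : F1 G) {K : Subgroup G} (hK : PK x a d (b * c) (M.cmp (b * c)) K)
  (haK : a ∈ normalizer (K : Set G))

include W hF1 hK haK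

/-- **(B2)** `C(b, c)` has at most one `N`-component. -/
theorem unique_bc {I I' : Subgroup G}
    (hI : IsMark (centralizer ({b} : Set G) ⊓ centralizer ({c} : Set G)) N I)
    (hI' : IsMark (centralizer ({b} : Set G) ⊓ centralizer ({c} : Set G)) N I') : I = I' := by
  rw [← cent_mul_left h.bb] at hI hI'
  refine mark_unique (mem_c h.br) h.bb (le_inf h.ncomm_r h.ncomm_b) hK.T.comp
    (h.N_le_r.trans (hK.single haK)) (W.oneComp hF1 hK.T) hI hI'

/-- if `K_b ≠ K_b^a` then `c` interchanges them -/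
theorem swap_b {Kb : Subgroup G} (hKb : PK x a d b (M.cmp b) Kb) (hne : cj a Kb ≠ Kb) :
    cj c Kb ≠ Kb := by
  intro hc
  obtain ⟨hE, MK, hMK⟩ := h.exists_label W hKb
  obtain ⟨E, hE1, -, hE3⟩ := h.comp_of_lab MK hE hMK (t := c) (mem_normalizer_iff_cj.mpr hc) h.pc.cN
    h.bc.symm h.cc rfl
  obtain ⟨h1, h2, h3⟩ := two_marks (X := centralizer ({b} : Set G)) (N := N) (mem_c h.ab) h.aa hne
    (mem_c h.bc.symm) h.cc hKb.T.comp h.ac h.ncomm_a hE1 hE3
  exact h3 (h.unique_bc W hF1 hK haK h2 h1)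

/-- the `N`-component of type `A₅` of `C(b, c)` in the single case -/
theorem mark_single {Kb : Subgroup G} (hKb : PK x a d b (M.cmp b) Kb)
    (haKb : a ∈ normalizer (Kb : Set G)) : ∃ E,
      IsMark (centralizer ({b} : Set G) ⊓ centralizer ({c} : Set G)) N E ∧ IsAlt 5 (Bar E) := by
  obtain ⟨hE, MK, hMK⟩ := h.exists_label W hKb
  have hle := hKb.single haKb
  obtain ⟨E, hE1, hE2, hE3⟩ := h.comp_of_lab MK hE hMK (t := c)
    (norm_of_comm h.mkr hKb.T.comp (h.N_le_b.trans hle) (mem_c h.bc.symm) h.ncomm_c) h.pc.cN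
    h.bc.symm h.cc rfl
  exact ⟨E, mark_inf hKb.T.comp hE1 hE3, hE2⟩

/-- the `N`-component of type `A₇` of `C(b, c)` in the double case -/
theorem mark_double {Kb : Subgroup G} (hKb : PK x a d b (M.cmp b) Kb) (hne : cj a Kb ≠ Kb) : ∃ E,
      IsMark (centralizer ({b} : Set G) ⊓ centralizer ({c} : Set G)) N E ∧ IsAlt 7 (Bar E) := by
  have hc := h.swap_b W hF1 hK haK hKb hne
  obtain ⟨hE, -⟩ := h.exists_label W hKb
  refine ⟨diag (centralizer ({b} : Set G)) Kb c, ?_, ?_⟩
  · exact mark_diag_of (h.mark_b hKb) (mem_c h.bc.symm) h.cc hc h.NX fun n hn => hE (h.N_le_b hn)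
  · obtain ⟨e⟩ := W.diag_equiv hKb.T h.bc.symm h.cc hc
    obtain ⟨e'⟩ := h.alt_b W hKb
    exact ⟨e.symm.trans e'⟩

theorem double_of_double {Kb Kc : Subgroup G} (hKb : PK x a d b (M.cmp b) Kb)
    (hKc : PK x a d c (M.cmp c) Kc) (hne : cj a Kb ≠ Kb) : cj a Kc ≠ Kc := by
  intro hc
  obtain ⟨E, hE, hE7⟩ := h.mark_double W hF1 hK haK hKb hne
  have hK' : PK x a d (c * b) (M.cmp (c * b)) K := by rw [← h.bc]; exact hK
  obtain ⟨E', hE', hE5⟩ := h.symm.mark_single W hF1 hK' haK hKc (mem_normalizer_iff_cj.mpr hc)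
  rw [inf_comm] at hE'
  rw [h.unique_bc W hF1 hK haK hE' hE] at hE5
  exact not_five_seven hE5 hE7

/-- if `K_b ≠ K_b^a` then `b` normalizes `K_{ar}` (if `K_{ar} ≠ K_{ar}^a`); `K_{ar} = K_{ar}^a` is impossible -/
theorem norm_ar {Kb Kar : Subgroup G} (hKb : PK x a d b (M.cmp b) Kb) (hne : cj a Kb ≠ Kb)
    (hKar : PK x a d (a * (b * c)) (M.cmp (b * c)) Kar) : cj a Kar ≠ Kar ∧ cj b Kar = Kar := by
  have hc := h.swap_b W hF1 hK haK hKb hne
  obtain ⟨hE, MK, hMK⟩ := h.exists_label W hKb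
  -- `a c` normalizes `K_b`
  have hac : cj (a * c) Kb = Kb := by
    have h1 : cj c Kb = cj a Kb := by
      rcases h.eq_or_b hKb (mark_cj (h.mark_b hKb) (mem_c h.bc.symm) h.ncomm_c) with h1 | h1
      · exact absurd h1 hc
      · exact h1
    rw [cj_mul, h1, ← cj_mul, h.aa, cj_one]
  have hacb : a * c * b = b * (a * c) := by
    rw [mul_assoc, ← h.bc, ← mul_assoc, h.ab, mul_assoc]
  have hacac : a * c * (a * c) = 1 := by
    calc a * c * (a * c) = a * (c * a) * c := by group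
      _ = a * (a * c) * c := by rw [h.ac]
      _ = (a * a) * (c * c) := by group
      _ = 1 := by rw [h.aa, h.cc, one_mul]
  have haL : a ∈ normalizer (L : Set G) := h.fixes_a.1
  obtain ⟨E, hE1, -, hE3⟩ := h.comp_of_lab MK hE hMK (t := a * c) (mem_normalizer_iff_cj.mpr hac)
    (mul_mem haL h.pc.cN) hacb hacac (by rw [M.mul _ _ haL h.pc.cN, h.φa, one_mul])
  have haac : a * (a * c) = a * c * a := by
    calc a * (a * c) = a * (c * a) := by rw [h.ac]
      _ = a * c * a := by group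
  obtain ⟨h1, h2, h3⟩ := two_marks (X := centralizer ({b} : Set G)) (N := N) (mem_c h.ab) h.aa hne
    (mem_c hacb) hacac hKb.T.comp haac h.ncomm_a hE1 hE3
  -- `C(b, a c) = C(a r, b)`
  have hX : centralizer ({b} : Set G) ⊓ centralizer ({a * c} : Set G) =
      centralizer ({a * (b * c)} : Set G) ⊓ centralizer ({b} : Set G) := by
    rw [← cent_mul_left h.bb]
    congr 3
    rw [← mul_assoc, ← h.ab, mul_assoc]
  rw [hX] at h1 h2
  have hbX : b ∈ centralizer ({a * (b * c)} : Set G) := by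
    rw [mem_centralizer_singleton_iff]
    calc b * (a * (b * c)) = (b * a) * (b * c) := by group
      _ = a * (b * (b * c)) := by rw [← h.ab]; group
      _ = a * (b * c) * b := by rw [h.br]; group
  have haX : a ∈ centralizer ({a * (b * c)} : Set G) := by
    rw [mem_centralizer_singleton_iff]
    calc a * (a * (b * c)) = a * (b * c * a) := by rw [h.ar]
      _ = a * (b * c) * a := by group
  have hNX : N ≤ centralizer ({a * (b * c)} : Set G) ⊓ centralizer ({b} : Set G) := by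
    rw [← hX]
    refine le_inf h.ncomm_b fun n hn => ?_
    rw [mem_centralizer_singleton_iff]
    calc n * (a * c) = (n * a) * c := by group
      _ = a * (n * c) := by rw [h.Na hn]; group
      _ = a * c * n := by rw [h.Nc hn]; group
  have hsingle : cj a Kar ≠ Kar := by
    intro e
    exact h3 (mark_unique hbX h.bb hNX hKar.T.comp
      (h.N_le_r.trans (hKar.single (mem_normalizer_iff_cj.mpr e))) (W.oneComp hF1 hKar.T) h2 h1)
  refine ⟨hsingle, ?_⟩
  by_contra hb
  have hd : M.cmp (b * c) = diag (centralizer ({a * (b * c)} : Set G)) Kar a := by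
    rcases hKar.or with h4 | h4
    · exact absurd (mem_normalizer_iff_cj.mp h4.1) hsingle
    · exact h4.2
  have hNd : N ≤ diag (centralizer ({a * (b * c)} : Set G)) Kar a := hd ▸ h.N_le_r
  apply h3
  rw [eq_diag_of_swap haX h.aa hsingle hbX h.bb hKar.T.comp hNX hNd hb h2,
    eq_diag_of_swap haX h.aa hsingle hbX h.bb hKar.T.comp hNX hNd hb h1]

/-- **(3.1b)** -/
theorem not_double {Kb : Subgroup G} (hKb : PK x a d b (M.cmp b) Kb) : cj a Kb = Kb := by
  by_contra hne
  obtain ⟨Kc, hKc⟩ := h.symm.exists_Kb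
  have hnec := h.double_of_double W hF1 hK haK hKb hKc hne
  obtain ⟨Kar, hKar⟩ := h.exists_Kar
  obtain ⟨h1, h2⟩ := h.norm_ar W hF1 hK haK hKb hne hKar
  have hK' : PK x a d (c * b) (M.cmp (c * b)) K := by rw [← h.bc]; exact hK
  have hKar' : PK x a d (a * (c * b)) (M.cmp (c * b)) Kar := by rw [← h.bc]; exact hKar
  obtain ⟨-, h3⟩ := h.symm.norm_ar W hF1 hK' haK hKc hnec hKar'
  have h4 : cj (a * (b * c)) Kar = Kar := by
    exact mem_normalizer_iff_cj.mp (norm_of_le_cent hKar.T.comp.le)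
  apply h1
  have h5 : cj (b * c) Kar = Kar := by rw [cj_mul, h3, h2]
  rwa [cj_mul, h5] at h4

end bad

end Cfg

end Cfsg.Agent.UGT.A9
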