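import Cfsg.Agent.UGT.A9.BadC

/-!
# NodeA9, (3.1a): tools

* `fixes_of_nine`: an involution `s` with a 2-component of type `A₉` in `C_J(s)` fixes `J`.
* `Cfg.fixes_N`, `Cfg.mkr_cen`: the marker `C_N(q)^∞`.
* `Cfg.q_one` (q1), `Cfg.q_three` (q3).
-/

set_option autoImplicit false
set_option linter.unusedSectionVars false

open Cfsg Subgroup Equiv Equiv.Perm
open Cfsg.Agent.SignalizersComponents Cfsg.Agent.Lib
open Cfsg.Agent.SignalizersComponents.IntrinsicBasic
open Cfsg.Agent.SignalizersComponents.IntrinsicIntr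
open Cfsg.Agent.SignalizersComponents.PLayerAut
open Cfsg.Agent.Intrinsic.Basic Cfsg.Agent.Intrinsic.Cen Cfsg.Agent.Intrinsic.Diag
open Cfsg.Agent.McLLyComp.Act
open Cfsg.Agent.UGT.Triple Cfsg.Agent.UGT.LemG Cfsg.Agent.UGT.PumpGen Cfsg.Agent.UGT.Iface
open Cfsg.Agent.UGT.RedAlt Cfsg.Agent.UGT.NoWing Cfsg.Agent.UGT.RedR Cfsg.Agent.UGT.RedRB
open Cfsg.Agent.UAlt
open scoped commutatorElement

namespace Cfsg.Agent.UGT.A9

open Marker

universe u
variable {G : Type u} [Group G] [Finite G] {α : Type*} [Fintype α] [DecidableEq α]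

theorem card_isAlt {n : ℕ} (hn : 2 ≤ n) {K : Type*} [Group K] (h : IsAlt n K) :
    2 * Nat.card K = n.factorial := by
  obtain ⟨e⟩ := h
  have : Nontrivial (Fin n) := Fin.nontrivial_iff_two_le.mpr hn
  have h3 := two_mul_card_alternatingGroup (α := Fin n)
  rw [Fintype.card_perm, Fintype.card_fin] at h3
  rw [Nat.card_congr e.toEquiv, Nat.card_eq_fintype_card]
  exact h3

theorem isAlt_inj {n m : ℕ} (hn : 3 ≤ n) (hm : 3 ≤ m) {K : Type*} [Group K] (h : IsAlt n K)
    (h' : IsAlt m K) : n = m := by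
  have h1 := card_isAlt (by omega) h
  have h2 := card_isAlt (by omega) h'
  rw [h1] at h2
  exact Nat.factorial_inj (by omega) |>.mp h2

theorem isAlt_cj {n : ℕ} (hn : 7 ≤ n) {K : Subgroup G} (h : IsAlt n (Bar K)) (g : G) :
    IsAlt n (Bar (cj g K)) := by
  obtain ⟨Mo⟩ := exists_mod hn h
  have := isAlt_of_equiv ((Mo.cj g).quotEquiv.trans (altEquiv _))
  rwa [Finset.card_univ, Fintype.card_fin] at this

/-- `IsAlt` of a labelled group -/
theorem isAlt_mod {K : Subgroup G} {S : Finset α} (M : Mod K S) : IsAlt S.card (Bar K) :=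
  isAlt_of_equiv (M.quotEquiv.trans (altEquiv _))

theorem fixes_of_nine (W : W9 G) {x t s : G} {J E : Subgroup G} (T : IsTriple x t J)
    (hs : s ∈ normalizer (J : Set G)) (hss : s * s = 1) (hE : IsComp (J ⊓ centralizer ({s} : Set G)) E)
    (hE9 : IsAlt 9 (Bar E)) : Fixes s J := by
  have key : ∀ n : ℕ, 7 ≤ n → n ≤ 9 → IsAlt n (Bar J) → Fixes s J := by
    intro n hn hn9 hA
    obtain ⟨Mo⟩ := exists_mod hn hA
    obtain ⟨rfl, h5⟩ := (Mo.isComp_iff_cmp hs hss).mp hE
    obtain ⟨e⟩ := quot_cmp Mo hs hss h5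
    have h1 := isAlt_of_equiv e
    have h2 := isAlt_inj (by omega) (by norm_num) h1 hE9
    have h3 : fixIn Finset.univ (Mo.φ s) ⊆ Finset.univ := fixIn_subset _ _
    have h4 := Finset.card_le_card h3
    rw [Finset.card_univ, Fintype.card_fin] at h4
    have h6 : fixIn Finset.univ (Mo.φ s) = Finset.univ :=
      Finset.eq_of_subset_of_card_le h3 (by rw [Finset.card_univ, Fintype.card_fin]; omega)
    rw [← Mo.fixes_iff hs]
    ext i
    have h7 : i ∈ fixIn Finset.univ (Mo.φ s) := by rw [h6]; exact Finset.mem_univ i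
    rw [(mem_fixIn.mp h7).2, Perm.one_apply]
  rcases W x t J T with h | h | h
  · obtain ⟨ME⟩ := exists_mod (by norm_num) hE9
    exact absurd (noWing_L2 h) (not_bar (hE.le.trans inf_le_left) ME (by
      rw [Finset.card_univ, Fintype.card_fin]; norm_num))
  · exact key 7 le_rfl (by norm_num) h
  · exact key 9 (by norm_num) le_rfl h

namespace Cfg

variable {x a b c v d : G} {L N : Subgroup G} {S : Finset α} {M : Mod L S}
variable (h : Cfg x a M b c v d N)

include h

theorem comp_L : IsComp (centralizer ({a} : Set G)) L := h.T.comp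

theorem isAlt_L : IsAlt 9 (Bar L) := by
  have := isAlt_mod M
  rwa [h.card] at this

/-- `q ∈ C(a, b, c)` normalizing `L` and commuting with the labels of `N` fixes `N` -/
theorem fixes_N {q : G} (hqa : q * a = a * q) (hqb : q * b = b * q) (hqc : q * c = c * q)
    (hqL : q ∈ normalizer (L : Set G)) (hcomm : ∀ n ∈ N, M.φ q * M.φ n = M.φ n * M.φ q) :
    Fixes q N := by
  refine fixes_of_comm_core h.Ncomp ⟨⟨mem_c hqa, mem_c hqb⟩, mem_c hqc⟩ fun n hn => ?_
  have hnL := h.NL hn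
  have h1 : ⁅q, n⁆ ∈ core L := by
    have h2 : ⁅q, n⁆ ∈ L := mul_mem ((mem_normalizer_iff.mp hqL n).mp hnL) (inv_mem hnL)
    rw [← M.core_iff _ h2, commutatorElement_def,
      M.mul _ _ (mul_mem (mul_mem hqL (le_normalizer hnL)) (inv_mem hqL)) (inv_mem (le_normalizer hnL)),
      M.conj hqL (le_normalizer hnL), M.inv (le_normalizer hnL), mul_inv_eq_one,
      mul_inv_eq_iff_eq_mul]
    exact hcomm n hn
  have h3 : ⁅q, n⁆ ∈ centralizer ({a} : Set G) ⊓ centralizer ({b} : Set G) ⊓ centralizer ({c} : Set G) := by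
    have hq : q ∈ centralizer ({a} : Set G) ⊓ centralizer ({b} : Set G) ⊓ centralizer ({c} : Set G) :=
      ⟨⟨mem_c hqa, mem_c hqb⟩, mem_c hqc⟩
    have hn' := h.Ncomp.le hn
    rw [commutatorElement_def]
    exact mul_mem (mul_mem (mul_mem hq hn') (inv_mem hq)) (inv_mem hn')
  exact mem_core_inf (mem_core_inf (h.comp_L.core_le_core h1) h3.1.2) h3.2

/-- the marker `C_N(q)^∞` -/
theorem mkr_cen {q : G} (hqa : q * a = a * q) (hqb : q * b = b * q) (hqc : q * c = c * q)
    (hqq : q * q = 1) (hf : Fixes q N) : Mkr (cen N q) :=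
  Mkr.of_comp (isComp_cen h.Ncomp ⟨⟨mem_c hqa, mem_c hqb⟩, mem_c hqc⟩ hqq hf).1

section q

variable (W : W9 G) {K : Subgroup G} (hK : PK x a d (b * c) (M.cmp (b * c)) K)
  (hNK : N ≤ K) (hK9 : IsAlt 9 (Bar K)) {q : G} (hqa : q * a = a * q) (hqb : q * b = b * q)
  (hqc : q * c = c * q) (hqx : q * x = x * q) (hqq : q * q = 1) (hqK : Fixes q K)
  (hqL : q ∈ normalizer (L : Set G))

include hqb hqc in
theorem q_r : q * (b * c) = (b * c) * q := by
  rw [← mul_assoc, hqb, mul_assoc, hqc, mul_assoc]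

include hK hK9 hqb hqc hqq hqK in
theorem comp_FK : IsComp (centralizer ({q} : Set G) ⊓ centralizer ({b * c} : Set G)) (cen K q) ∧
    IsAlt 9 (Bar (cen K q)) ∧ cen K q ⊔ core K = K := by
  obtain ⟨h1, h2⟩ := isComp_cen hK.T.comp (mem_c (h.q_r hqb hqc)) hqq hqK
  rw [inf_comm] at h1
  obtain ⟨e, -⟩ := exists_quotEquiv h2
  obtain ⟨e'⟩ := hK9
  exact ⟨h1, ⟨e.trans e'⟩, h2⟩

omit h [Finite G] in
theorem cen_mono {A B : Subgroup G} (hAB : A ≤ B) (q : G) : cen A q ≤ cen B q :=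
  PComponents.pElem_mono (inf_le_inf_right _ hAB)

end q

end Cfg

end Cfsg.Agent.UGT.A9
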