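import Cfsg.Agent.UGT.A9.BadD

/-!
# NodeA9, (3.1a), type `A₉`: the involutions `q` fixing `K`

* `Cfg.q_one` (q1): `q` fixing `L` and `K` is trivial.
* `Cfg.q_three` (q3): `q` acting on `L` as `b` does not fix `K`.
-/

set_option autoImplicit false
set_option linter.unusedSectionVars false

open Cfsg Subgroup Equiv Equiv.Perm
open Cfsg.Agent.SignalizersComponents Cfsg.Agent.Lib
open Cfsg.Agent.SignalizersComponents.IntrinsicBasic
open Cfsg.Agent.SignalizersComponents.IntrinsicIntr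
open Cfsg.Agent.SignalizersComponents.PLayerAut
open Cfsg.Agent.Intrinsic.Basic Cfsg.Agent.Intrinsic.Cen Cfsg.Agent.Intrinsic.Diag
open Cfsg.Agent.McLLyComp.Act
open Cfsg.Agent.UGT.Triple Cfsg.Agent.UGT.LemG Cfsg.Agent.UGT.PumpGen Cfsg.Agent.UGT.Iface
open Cfsg.Agent.UGT.RedAlt Cfsg.Agent.UGT.NoWing Cfsg.Agent.UGT.RedR Cfsg.Agent.UGT.RedRB
open Cfsg.Agent.UAlt
open scoped commutatorElement

namespace Cfsg.Agent.UGT.A9

open Marker

universe u
variable {G : Type u} [Group G] [Finite G] {α : Type*} [Fintype α] [DecidableEq α]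

namespace Cfg

variable {x a b c v d : G} {L N : Subgroup G} {S : Finset α} {M : Mod L S}
variable (h : Cfg x a M b c v d N)

include h

section q

variable (W : W9 G) {K : Subgroup G} (hK : PK x a d (b * c) (M.cmp (b * c)) K)
  (hNK : N ≤ K) (hK9 : IsAlt 9 (Bar K)) {q : G} (hqa : q * a = a * q) (hqb : q * b = b * q)
  (hqc : q * c = c * q) (hqx : q * x = x * q) (hqq : q * q = 1) (hqK : Fixes q K)

include W hK hNK hK9 hqa hqb hqc hqx hqq hqK

/-- **(q1)** -/
theorem q_one (hqL : Fixes q L) : q = 1 := by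
  by_contra hq1
  have hq2 : orderOf q = 2 := orderOf_eq_prime (by rw [pow_two]; exact hqq) hq1
  have hqr := h.q_r hqb hqc
  have hφq : M.φ q = 1 := (M.fixes_iff hqL.1).mpr hqL
  have hfN : Fixes q N := h.fixes_N hqa hqb hqc hqL.1 fun n _ => by rw [hφq, one_mul, mul_one]
  have hmk := h.mkr_cen hqa hqb hqc hqq hfN
  obtain ⟨hFK, hFK9, -⟩ := h.comp_FK hK hK9 hqb hqc hqq hqK
  have hNF : cen N q ≤ cen K q := cen_mono hNK q
  have hNr : cen N q ≤ centralizer ({b * c} : Set G) := (cen_le N q).trans h.ncomm_r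
  have hNq : cen N q ≤ centralizer ({q} : Set G) := cen_le_centralizer N q
  have hmF : IsMark (centralizer ({q} : Set G) ⊓ centralizer ({b * c} : Set G)) (cen N q) (cen K q) :=
    mark_of_le hmk hFK hNF
  have hrX : b * c ∈ centralizer ({q} : Set G) := mem_c hqr.symm
  have haX : a ∈ centralizer ({q} : Set G) := mem_c hqa.symm
  have hr_cen : b * c ∈ cen L q := mem_cen_of_sq h.rL hqr.symm h.rr
  obtain ⟨hcL, hcovL⟩ := isComp_cen h.T.comp (mem_c hqa) hqq hqL
  obtain ⟨Lq, TLq, hor⟩ := h.T.pump hq2 hqa hqx hqL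
  have hrne : b * c ≠ 1 := fun e => h.rne (by rw [e, M.one])
  rcases hor with ⟨haL, hle⟩ | ⟨hne, hd⟩
  · -- single
    have hN' : cen N q ≤ Lq := (cen_mono h.NL q).trans hle
    have hrL : b * c ∈ normalizer (Lq : Set G) := le_normalizer (hle hr_cen)
    obtain ⟨h1, -⟩ := comp_of_mark hrX h.rr (le_inf hNq hNr) TLq.comp hN' hmF
    have h2 := fixes_of_nine W TLq hrL h.rr h1 hFK9
    -- `r ∈ Lq` fixes `Lq`
    rcases W x q Lq TLq with h3 | h3 | h3
    · obtain ⟨ME⟩ := exists_mod (by norm_num) hFK9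
      exact absurd (noWing_L2 h3) (not_bar (h1.le.trans inf_le_left) ME (by
        rw [Finset.card_univ, Fintype.card_fin]; norm_num))
    · obtain ⟨Mo⟩ := exists_mod (by norm_num) h3
      exact hrne (eq_one_of_mem_core_sq ((Mo.core_iff _ (hle hr_cen)).mp ((Mo.fixes_iff hrL).mpr h2)) h.rr)
    · obtain ⟨Mo⟩ := exists_mod (by norm_num) h3
      exact hrne (eq_one_of_mem_core_sq ((Mo.core_iff _ (hle hr_cen)).mp ((Mo.fixes_iff hrL).mpr h2)) h.rr)
  · -- double
    have hN' : cen N q ≤ diag (centralizer ({q} : Set G)) Lq a := hd ▸ cen_mono h.NL q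
    have hrd : b * c ∈ diag (centralizer ({q} : Set G)) Lq a := hd ▸ hr_cen
    obtain ⟨_, -, -, -, hrL⟩ := diag_act TLq.comp haX h.aa hne hrd
    have hrLa : b * c ∈ normalizer (cj a Lq : Set G) := by
      rw [mem_normalizer_iff_cj] at hrL ⊢
      rw [← cj_mul, ← h.ar, cj_mul, hrL]
    obtain ⟨J, hJ, h1 | h1⟩ := hmF.pump hrX h.rr (le_inf hNq hNr)
    · have hfix : Fixes (b * c) Lq := by
        rcases eq_or_of_diag TLq.comp haX h.aa hne hN' hJ with rfl | rfl
        · exact fixes_of_nine W TLq hrL h.rr h1.2.2 hFK9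
        · have T' := TLq.cj a
          rw [h.T.comm, mul_inv_cancel_right, ← hqa, mul_inv_cancel_right] at T'
          have h2 := (fixes_of_nine W T' hrLa h.rr h1.2.2 hFK9).cj a
          rwa [← cj_mul, h.aa, cj_one, h.ar, mul_inv_cancel_right] at h2
      -- `r` is central modulo the core in the diagonal
      have hfc : Fixes (b * c) (cen L q) := by
        refine fixes_of_comm_core hcL ⟨mem_c h.ar.symm, hrX⟩ fun m hm => ?_
        have h2 : ⁅b * c, m⁆ ∈ core (centralizer ({q} : Set G)) :=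
          comm_of_fixes TLq.comp haX h.aa hne hrX h.ar.symm hfix (hd ▸ hm)
        have hmL := cen_le L q hm
        have h3 : ⁅b * c, m⁆ ∈ centralizer ({a} : Set G) := by
          rw [commutatorElement_def]
          have h4 : b * c ∈ centralizer ({a} : Set G) := mem_c h.ar.symm
          have h5 : m ∈ centralizer ({a} : Set G) := h.T.comp.le hmL
          exact mul_mem (mul_mem (mul_mem h4 h5) (inv_mem h4)) (inv_mem h5)
        have h4 := mem_core_inf h2 h3
        rwa [inf_comm] at h4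
      have hrN : b * c ∈ normalizer (L : Set G) := le_normalizer h.rL
      have h5 := (fixes_iff_of_sup hcovL hfc.1 hrN).mp hfc
      exact h.rne ((M.fixes_iff hrN).mpr h5)
    · rcases eq_or_of_diag TLq.comp haX h.aa hne hN' hJ with rfl | rfl
      · exact h1.1 (mem_normalizer_iff_cj.mp hrL)
      · exact h1.1 (mem_normalizer_iff_cj.mp hrLa)

/-- **(q3)** -/
theorem q_three (hqL : q ∈ normalizer (L : Set G)) (hφq : M.φ q = M.φ b) : False := by
  have hq1 : q ≠ 1 := by
    rintro rfl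
    exact h.bne (by rw [← hφq, M.one])
  have hq2 : orderOf q = 2 := orderOf_eq_prime (by rw [pow_two]; exact hqq) hq1
  have hqr := h.q_r hqb hqc
  have hfix7 : (fixIn S (M.φ q)).card = 7 := by rw [hφq, h.fix_facts.1]
  have hfN : Fixes q N := h.fixes_N hqa hqb hqc hqL fun n hn => by
    rw [hφq, M.comm h.pb.cN (le_normalizer (h.NL hn)) (h.Nb hn).symm]
  have hmk := h.mkr_cen hqa hqb hqc hqq hfN
  obtain ⟨hFK, hFK9, -⟩ := h.comp_FK hK hK9 hqb hqc hqq hqK
  have hNF : cen N q ≤ cen K q := cen_mono hNK q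
  have hNr : cen N q ≤ centralizer ({b * c} : Set G) := (cen_le N q).trans h.ncomm_r
  have hNa : cen N q ≤ centralizer ({a} : Set G) := (cen_le N q).trans h.ncomm_a
  have hNq : cen N q ≤ centralizer ({q} : Set G) := cen_le_centralizer N q
  have hrX : b * c ∈ centralizer ({q} : Set G) := mem_c hqr.symm
  have haX : a ∈ centralizer ({q} : Set G) := mem_c hqa.symm
  have hrq : b * c ∈ normalizer (M.cmp q : Set G) :=
    M.mem_normalizer_cmp hqL (le_normalizer h.rL) hqr.symm
  -- `N_q`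
  have hNqc : IsComp (centralizer ({q} : Set G) ⊓ centralizer ({a} : Set G)) (M.cmp q) := by
    rw [inf_comm]
    exact M.isComp_cmp_of h.T.comp hqL hqq (by rw [hfix7]; norm_num)
  have hNle : cen N q ≤ M.cmp q := by
    rw [← hmk.1, hmk.1]
    refine PComponents.pElem_mono fun n hn => ?_
    refine M.mem_pre.mpr ⟨h.NL hn.1, (mem_centralizer_singleton_iff.mp hn.2).symm, ?_⟩
    rw [hφq]
    exact alt_mono h.subset_b (h.Nlab n hn.1)
  have hmN : IsMark (centralizer ({q} : Set G) ⊓ centralizer ({a} : Set G)) (cen N q) (M.cmp q) :=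
    mark_of_le hmk hNqc hNle
  have hrmove : ¬ Fixes (b * c) (M.cmp q) := by
    obtain ⟨p, q0, p', q', h1, h2, h3, h4, h5, h6, h7⟩ := h.lab
    simp only [List.nodup_cons, List.mem_cons, List.not_mem_nil, or_false, not_or, not_false_eq_true,
      List.nodup_nil, and_true] at h5
    obtain ⟨⟨a1, a2, a3⟩, ⟨a4, a5⟩, a6⟩ := h5
    refine M.not_fixes_cmp hqL hqq (by rw [hfix7]; norm_num) (le_normalizer h.rL) (y := p') ?_ ?_
    · rw [mem_fixIn, hφq, h6]
      exact ⟨h3, swap_apply_of_ne_of_ne (Ne.symm a2) (Ne.symm a4)⟩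
    · rw [h.φr, Perm.mul_apply, h7, swap_apply_left, h6,
        swap_apply_of_ne_of_ne (Ne.symm a3) (Ne.symm a5)]
      exact Ne.symm a6
  obtain ⟨J, TJ, hor⟩ := hK.T.pump hq2 hqr hqx hqK
  rcases hor with ⟨hrJ, hle⟩ | ⟨hne, hd⟩
  · -- single
    have hN' : cen N q ≤ J := hNF.trans hle
    obtain ⟨h1, -⟩ := comp_of_mark haX h.aa (le_inf hNq hNa) TJ.comp hN' hmN
    have hNJ : M.cmp q ≤ J := h1.le.trans inf_le_left
    have hFJ : IsComp (J ⊓ centralizer ({b * c} : Set G)) (cen K q) :=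
      hFK.restrict (inf_le_inf_right _ TJ.comp.le) (le_inf hle (hFK.le.trans inf_le_right))
    have h2 := fixes_of_nine W TJ hrJ h.rr hFJ hFK9
    apply hrmove
    refine ⟨hrq, fun y hy => ?_⟩
    have h3 : ⁅b * c, y⁆ ∈ M.cmp q := mul_mem ((mem_normalizer_iff.mp hrq y).mp hy) (inv_mem hy)
    exact core_of_le hNJ h3 (h2.2 y (hNJ hy))
  · -- double
    have hN' : cen N q ≤ diag (centralizer ({q} : Set G)) J (b * c) := hd ▸ hNF
    have hJm : IsMark (centralizer ({q} : Set G)) (cen N q) J :=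
      mark_diag hmk TJ.comp hrX h.rr hne hN'
    have hJm' : IsMark (centralizer ({q} : Set G)) (cen N q) (cj (b * c) J) := mark_cj hJm hrX hNr
    have hJ9 : IsAlt 9 (Bar J) := by
      obtain ⟨e⟩ := W.diag_equiv TJ hqr.symm h.rr hne
      obtain ⟨e'⟩ := hFK9
      rw [hd] at e'
      exact ⟨e.trans e'⟩
    obtain ⟨J', hJ', h1 | h1⟩ := hmN.pump haX h.aa (le_inf hNq hNa)
    · have h2 := hNle.trans h1.2.1
      have e1 := eq_of_le hJ'.1 h2 hJm
      have e2 := eq_of_le hJ'.1 h2 hJm'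
      exact hne (e2.trans e1.symm)
    · have hJ'9 : IsAlt 9 (Bar J') ∧ IsTriple x q J' := by
        rcases eq_or_of_diag TJ.comp hrX h.rr hne hN' hJ' with rfl | rfl
        · exact ⟨hJ9, TJ⟩
        · refine ⟨isAlt_cj (by norm_num) hJ9 _, ?_⟩
          have T' := TJ.cj (b * c)
          have hxr : (b * c) * x = x * (b * c) := by
            rw [mul_assoc, h.pc.cx, ← mul_assoc, h.pb.cx, mul_assoc]
          rwa [hxr, mul_inv_cancel_right, ← hqr, mul_inv_cancel_right] at T'
      obtain ⟨e⟩ := W.diag_equiv hJ'9.2 hqa.symm h.aa h1.1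
      rw [← h1.2.2] at e
      obtain ⟨e'⟩ := hJ'9.1
      have h3 : IsAlt 9 (Bar (M.cmp q)) := ⟨e.symm.trans e'⟩
      obtain ⟨e2⟩ := quot_cmp M hqL hqq (by rw [hfix7]; norm_num)
      have h4 := isAlt_of_equiv e2
      have h5 := isAlt_inj (by omega) (by norm_num) h4 h3
      omega

end q

end Cfg

end Cfsg.Agent.UGT.A9
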