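import Cfsg.Agent.UGT.A9.BadE

/-!
# NodeA9, (3.1): the end

`Cfg.bad`: `K_r = K_r^a` of type `A₉` or `L₂(q)`, not fixed by `a`, is impossible.
-/

set_option autoImplicit false
set_option linter.unusedSectionVars false

open Cfsg Subgroup Equiv Equiv.Perm
open Cfsg.Agent.SignalizersComponents Cfsg.Agent.Lib
open Cfsg.Agent.SignalizersComponents.IntrinsicBasic
open Cfsg.Agent.SignalizersComponents.IntrinsicIntr
open Cfsg.Agent.SignalizersComponents.PLayerAut
open Cfsg.Agent.Intrinsic.Basic Cfsg.Agent.Intrinsic.Cen Cfsg.Agent.Intrinsic.Diag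
open Cfsg.Agent.McLLyComp.Act
open Cfsg.Agent.UGT.Triple Cfsg.Agent.UGT.LemG Cfsg.Agent.UGT.PumpGen Cfsg.Agent.UGT.Iface
open Cfsg.Agent.UGT.RedAlt Cfsg.Agent.UGT.NoWing Cfsg.Agent.UGT.RedR Cfsg.Agent.UGT.RedRB
open Cfsg.Agent.UAlt
open scoped commutatorElement

namespace Cfsg.Agent.UGT.A9

open Marker

section perm

variable {α : Type*} [Fintype α] [DecidableEq α]

theorem two_pts {p q : α} (hpq : p ≠ q) {τ : Perm α} (h1 : τ * swap p q = swap p q * τ) :
    (τ p = p ∧ τ q = q) ∨ (τ p = q ∧ τ q = p) := by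
  have key : ∀ i, swap p q i ≠ i → swap p q (τ i) ≠ τ i := by
    intro i hi e
    apply hi
    apply τ.injective
    have h2 := Equiv.congr_fun h1 i
    rw [Perm.mul_apply, Perm.mul_apply] at h2
    rw [h2, e]
  have hmov : ∀ i, swap p q i ≠ i → i = p ∨ i = q := by
    intro i hi
    by_contra hcon
    push Not at hcon
    exact hi (swap_apply_of_ne_of_ne hcon.1 hcon.2)
  have hp := hmov _ (key p (by rw [swap_apply_left]; exact hpq.symm))
  have hq := hmov _ (key q (by rw [swap_apply_right]; exact hpq))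
  rcases hp with hp | hp <;> rcases hq with hq | hq
  · exact absurd (τ.injective (hp.trans hq.symm)) hpq
  · exact Or.inl ⟨hp, hq⟩
  · exact Or.inr ⟨hp, hq⟩
  · exact absurd (τ.injective (hp.trans hq.symm)) hpq

theorem four_cases {p q p' q' : α} (hnd : [p, q, p', q'].Nodup) {τ : Perm α}
    (h0 : ∀ i, i ≠ p → i ≠ q → i ≠ p' → i ≠ q' → τ i = i) (h1 : τ * swap p q = swap p q * τ)
    (h2 : τ * swap p' q' = swap p' q' * τ) :
    τ = 1 ∨ τ = swap p q ∨ τ = swap p' q' ∨ τ = swap p q * swap p' q' := by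
  simp only [List.nodup_cons, List.mem_cons, List.not_mem_nil, or_false, not_or, not_false_eq_true,
    List.nodup_nil, and_true] at hnd
  obtain ⟨⟨a1, a2, a3⟩, ⟨a4, a5⟩, a6⟩ := hnd
  have e1 : ∀ i, i = p ∨ i = q ∨ i = p' ∨ i = q' ∨ (i ≠ p ∧ i ≠ q ∧ i ≠ p' ∧ i ≠ q') := by
    intro i; tauto
  rcases two_pts a1 h1 with ⟨b1, b2⟩ | ⟨b1, b2⟩ <;> rcases two_pts a6 h2 with ⟨b3, b4⟩ | ⟨b3, b4⟩
  · left
    ext i
    rcases e1 i with rfl | rfl | rfl | rfl | ⟨c1, c2, c3, c4⟩
    · rw [b1, Perm.one_apply]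
    · rw [b2, Perm.one_apply]
    · rw [b3, Perm.one_apply]
    · rw [b4, Perm.one_apply]
    · rw [h0 i c1 c2 c3 c4, Perm.one_apply]
  · right; right; left
    ext i
    rcases e1 i with rfl | rfl | rfl | rfl | ⟨c1, c2, c3, c4⟩
    · rw [b1, swap_apply_of_ne_of_ne a2 a3]
    · rw [b2, swap_apply_of_ne_of_ne a4 a5]
    · rw [b3, swap_apply_left]
    · rw [b4, swap_apply_right]
    · rw [h0 i c1 c2 c3 c4, swap_apply_of_ne_of_ne c3 c4]
  · right; left
    ext i
    rcases e1 i with rfl | rfl | rfl | rfl | ⟨c1, c2, c3, c4⟩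
    · rw [b1, swap_apply_left]
    · rw [b2, swap_apply_right]
    · rw [b3, swap_apply_of_ne_of_ne (Ne.symm a2) (Ne.symm a4)]
    · rw [b4, swap_apply_of_ne_of_ne (Ne.symm a3) (Ne.symm a5)]
    · rw [h0 i c1 c2 c3 c4, swap_apply_of_ne_of_ne c1 c2]
  · right; right; right
    ext i
    rw [Perm.mul_apply]
    rcases e1 i with rfl | rfl | rfl | rfl | ⟨c1, c2, c3, c4⟩
    · rw [b1, swap_apply_of_ne_of_ne a2 a3, swap_apply_left]
    · rw [b2, swap_apply_of_ne_of_ne a4 a5, swap_apply_right]
    · rw [b3, swap_apply_left, swap_apply_of_ne_of_ne (Ne.symm a3) (Ne.symm a5)]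
    · rw [b4, swap_apply_right, swap_apply_of_ne_of_ne (Ne.symm a2) (Ne.symm a4)]
    · rw [h0 i c1 c2 c3 c4, swap_apply_of_ne_of_ne c3 c4, swap_apply_of_ne_of_ne c1 c2]

/-- an involution with four moved points is even -/
theorem even_of_four {σ : Perm (Fin 9)} (hσσ : σ * σ = 1)
    (h5 : (fixIn Finset.univ σ).card = 5) : σ ∈ alt (Finset.univ : Finset (Fin 9)) := by
  refine ⟨?_, fun x hx => absurd (Finset.mem_univ x) hx⟩
  change σ ∈ alternatingGroup (Fin 9)
  rw [Perm.mem_alternatingGroup]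
  have h1 := Equiv.Perm.sign_of_pow_two_eq_one (σ := σ) (by rw [pow_two, hσσ])
  have h2 : σ.support.card = 4 := by
    have h4 : σ.support = Finset.univ \ fixIn Finset.univ σ := by
      ext i
      rw [Perm.mem_support, Finset.mem_sdiff, mem_fixIn]
      constructor
      · intro h
        exact ⟨Finset.mem_univ i, fun h' => h h'.2⟩
      · rintro ⟨h, h'⟩ h''
        exact h' ⟨h, h''⟩
    rw [h4, Finset.card_sdiff_of_subset (fixIn_subset _ σ), h5, Finset.card_univ, Fintype.card_fin]
  have h5 : Fintype.card (Fin 9) - Fintype.card (Function.fixedPoints σ) = 4 := by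
    rw [Perm.card_fixedPoints, Perm.sum_cycleType, h2, Fintype.card_fin]
  rw [h5] at h1
  rw [h1]; norm_num

end perm

universe u
variable {G : Type u} [Group G] [Finite G] {α : Type*} [Fintype α] [DecidableEq α]

omit [Finite G] in
/-- a group generated by commuting involutions is a 2-group -/
theorem isPGroup_closure {s : Set G} (h1 : ∀ y ∈ s, y * y = 1) (h2 : ∀ y ∈ s, ∀ z ∈ s, y * z = z * y) :
    IsPGroup 2 (closure s) := by
  have hc : ∀ y ∈ closure s, ∀ z ∈ closure s, y * z = z * y := by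
    have h3 : closure s ≤ centralizer s := by
      rw [closure_le]
      intro y hy
      rw [SetLike.mem_coe, mem_centralizer_iff]
      intro z hz
      exact h2 z hz y hy
    have h4 : closure s ≤ centralizer (closure s : Set G) := by
      rw [closure_le]
      intro y hy
      rw [SetLike.mem_coe, mem_centralizer_iff]
      intro z hz
      exact ((mem_centralizer_iff.mp (h3 hz)) y hy).symm
    intro y hy z hz
    exact ((mem_centralizer_iff.mp (h4 hy)) z hz).symm
  rintro ⟨y, hy⟩
  refine ⟨1, Subtype.ext ?_⟩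
  change y ^ 2 ^ 1 = 1
  rw [pow_one, pow_two]
  refine closure_induction (p := fun y _ => y * y = 1) h1 (one_mul 1) ?_ ?_ hy
  · intro y z hy hz e1 e2
    calc y * z * (y * z) = y * (z * y) * z := by group
      _ = y * (y * z) * z := by rw [hc z hz y hy]
      _ = (y * y) * (z * z) := by group
      _ = 1 := by rw [e1, e2, one_mul]
  · intro y hy e1
    calc y⁻¹ * y⁻¹ = (y * y)⁻¹ := by group
      _ = 1 := by rw [e1, inv_one]

namespace Cfg

variable {x a b c v d : G} {L N : Subgroup G} {S : Finset α} {M : Mod L S}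
variable (h : Cfg x a M b c v d N)

include h

theorem xb : x * b = b * x := h.pb.cx.symm
theorem xc : x * c = c * x := h.pc.cx.symm

theorem core_N {n : G} (hn : n ∈ M.cmp (b * c)) (h1 : M.φ n = 1) : n ∈ core (M.cmp (b * c)) := by
  obtain ⟨MM, hMM⟩ := h.exists_mod_r
  exact (MM.core_iff n hn).mp (by rw [hMM n hn, h1])

section bad

variable (W : W9 G) (hF1 : F1 G) (hF26 : F26 G) {K : Subgroup G}
  (hK : PK x a d (b * c) (M.cmp (b * c)) K) (haK : a ∈ normalizer (K : Set G)) (haf : ¬ Fixes a K)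

include W hF1 hK haK

/-- the `N`-component of type `A₅` of `C(b, c)` is a 2-component of `C_K(b)` -/
theorem exists_E : ∃ E, IsComp (K ⊓ centralizer ({b} : Set G)) E ∧ IsAlt 5 (Bar E) ∧
    b ∈ normalizer (K : Set G) := by
  obtain ⟨Kb, hKb⟩ := h.exists_Kb
  have h1 := h.not_double W hF1 hK haK hKb
  obtain ⟨E, hE, hE5⟩ := h.mark_single W hF1 hK haK hKb (mem_normalizer_iff_cj.mpr h1)
  rw [← cent_mul_left h.bb] at hE
  obtain ⟨h2, h3⟩ := comp_of_mark (mem_c h.br) h.bb (le_inf h.ncomm_r h.ncomm_b) hK.T.comp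
    (h.N_le_r.trans (hK.single haK)) hE
  exact ⟨E, h2, hE5, h3⟩

omit W hF1 in
theorem comp_Ka : IsComp (K ⊓ centralizer ({a} : Set G)) (M.cmp (b * c)) :=
  h.isComp_cmp_r.restrict (inf_le_inf_right _ hK.T.comp.le)
    (le_inf (hK.single haK) (h.isComp_cmp_r.le.trans inf_le_right))

/-- `b` fixes `cmp r` -/
theorem fixes_b_r : Fixes b (M.cmp (b * c)) := by
  have hn := M.mem_normalizer_cmp (le_normalizer h.rL) h.pb.cN h.br
  refine ⟨hn, fun y hy => h.core_N ?_ ?_⟩
  · exact mul_mem ((mem_normalizer_iff.mp hn y).mp hy) (inv_mem hy)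
  · have hyL := le_normalizer (M.cmp_le _ hy)
    rw [commutatorElement_def, M.mul _ _ (mul_mem (mul_mem h.pb.cN hyL) (inv_mem h.pb.cN)) (inv_mem hyL),
      M.conj h.pb.cN hyL, M.inv hyL, mul_inv_eq_one, mul_inv_eq_iff_eq_mul]
    have h1 := M.cmp_mem_alt hy
    exact (comm_of_mem_sym_fixIn (alt_le_sym _ (alt_mono h.subset_b h1))).symm

include hF26 haf in
/-- (3.1a), type `L₂(25)` -/
theorem bad_L2 (hL2 : IsL2 (Bar K)) : False := by
  obtain ⟨E, hE, hE5, hbK⟩ := h.exists_E W hF1 hK haK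
  have hNK : N ≤ K := h.N_le_r.trans (hK.single haK)
  obtain ⟨hcard, h6⟩ := hF26 K hL2 a haK h.aa haf _ (h.comp_Ka hK haK) h.isAlt_cmp_r
  have h60 : ∀ {Q : Type u} [Group Q], IsAlt 5 Q → Nat.card Q = 60 := by
    intro Q _ hQ
    have := card_isAlt (by norm_num) hQ
    norm_num [Nat.factorial] at this
    omega
  rcases h6 b hbK h.bb h.ab.symm (h.fixes_b_r W hF1 hK haK) with h7 | h7
  · -- `b` fixes `K`
    have h8 := comp_cen_eq hK.T.comp (mem_c h.br) h.bb h7 hE
    obtain ⟨-, h9⟩ := isComp_cen hK.T.comp (mem_c h.br) h.bb h7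
    obtain ⟨e, -⟩ := exists_quotEquiv h9
    have h10 := h60 hE5
    rw [h8] at h10
    have h11 := Nat.card_congr e.toEquiv
    change Nat.card (Bar (cen K b)) = Nat.card (Bar K) at h11
    omega
  · -- `a b` fixes `K`
    obtain ⟨Kt, hKt⟩ := h.exists_Kab
    have htt : a * b * (a * b) = 1 := sq_of_order (h.order_at h.pb.invc h.ab h.bne)
    have htr : a * b * (b * c) = b * c * (a * b) := by
      calc a * b * (b * c) = a * (b * (b * c)) := by group
        _ = a * (b * c * b) := by rw [h.br]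
        _ = a * (b * c) * b := by group
        _ = b * c * a * b := by rw [h.ar]
        _ = b * c * (a * b) := by group
    obtain ⟨hJ, hJK⟩ := isComp_cen hK.T.comp (mem_c htr) htt h7
    rw [inf_comm] at hJ
    have hJcard : Nat.card (Bar (cen K (a * b))) = 7800 := by
      obtain ⟨e, -⟩ := exists_quotEquiv hJK
      rw [← hcard]
      exact Nat.card_congr e.toEquiv
    have hNt : N ≤ centralizer ({a * b} : Set G) := fun n hn => by
      rw [mem_centralizer_singleton_iff]
      calc n * (a * b) = (n * a) * b := by group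
        _ = a * (n * b) := by rw [h.Na hn]; group
        _ = a * b * n := by rw [h.Nb hn]; group
    have hNJ : N ≤ cen K (a * b) := by
      rw [← h.Ncomp.pElem_eq]
      exact PComponents.pElem_mono (le_inf hNK hNt)
    have hm : IsMark (centralizer ({a * b} : Set G) ⊓ centralizer ({b * c} : Set G)) N
        (cen K (a * b)) := mark_of_le h.mkr hJ hNJ
    have haX : a ∈ centralizer ({a * b} : Set G) := by
      rw [mem_centralizer_singleton_iff]
      calc a * (a * b) = a * (b * a) := by rw [h.ab]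
        _ = a * b * a := by group
    have hax : a * x = x * a := h.T.comm
    obtain ⟨MM, -⟩ := h.exists_mod_b
    -- types of the marker components of `C(a b)`
    have htype : ∀ J, IsMark (centralizer ({a * b} : Set G)) N J →
        (IsAlt 7 (Bar J) ∨ IsAlt 9 (Bar J)) ∧ IsTriple x (a * b) J := by
      intro J hJm
      have h1 : IsAlt 7 (Bar Kt) ∨ IsAlt 9 (Bar Kt) := by
        by_cases haT : a ∈ normalizer (Kt : Set G)
        · exact hKt.alt_of_seven W haT MM h.fix_facts.1.ge
        · left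
          have hne : cj a Kt ≠ Kt := fun e => haT (mem_normalizer_iff_cj.mpr e)
          obtain ⟨-, ⟨e⟩⟩ := hKt.equiv W h.aa (by rw [mem_centralizer_singleton_iff] at haX; exact haX) hne
          obtain ⟨e'⟩ := h.isAlt_cmp_b
          exact ⟨e.trans e'⟩
      have h2 : J = Kt ∨ J = cj a Kt := by
        rcases hKt.or with ⟨-, h3⟩ | ⟨h3, h4⟩
        · exact Or.inl (eq_of_le hKt.T.comp (h.N_le_b.trans h3) hJm)
        · exact eq_or_of_diag hKt.T.comp haX h.aa h3 (h4 ▸ h.N_le_b) hJm
      rcases h2 with rfl | rfl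
      · exact ⟨h1, hKt.T⟩
      · refine ⟨?_, ?_⟩
        · rcases h1 with h1 | h1
          · exact Or.inl (isAlt_cj (by norm_num) h1 _)
          · exact Or.inr (isAlt_cj (by norm_num) h1 _)
        · have T' := hKt.T.cj a
          rw [mem_centralizer_singleton_iff] at haX
          rwa [hax, mul_inv_cancel_right, haX, mul_inv_cancel_right] at T'
    obtain ⟨J, hJm, h1 | h1⟩ := hm.pump (mem_c htr.symm) h.rr (le_inf hNt h.ncomm_r)
    · obtain ⟨h2, -⟩ := htype J hJm
      have hrJ := mem_normalizer_iff_cj.mpr h1.1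
      have key : ∀ n : ℕ, 7 ≤ n → n ≤ 9 → IsAlt n (Bar J) → False := by
        intro n hn hn9 hA
        obtain ⟨Mo⟩ := exists_mod hn hA
        obtain ⟨e0, h5⟩ := (Mo.isComp_iff_cmp hrJ h.rr).mp h1.2.2
        obtain ⟨e⟩ := quot_cmp Mo hrJ h.rr h5
        have h3 := card_isAlt (by omega) (isAlt_of_equiv e)
        rw [← e0] at h3
        change 2 * Nat.card (Bar (cen K (a * b))) = _ at h3
        rw [hJcard] at h3
        have h4 := Finset.card_le_card (fixIn_subset Finset.univ (Mo.φ (b * c)))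
        rw [Finset.card_univ, Fintype.card_fin] at h4
        have h6 : (fixIn Finset.univ (Mo.φ (b * c))).card ≤ 9 := h4.trans hn9
        interval_cases (fixIn Finset.univ (Mo.φ (b * c))).card <;> norm_num [Nat.factorial] at h3
      rcases h2 with h2 | h2
      · exact key 7 le_rfl (by norm_num) h2
      · exact key 9 (by norm_num) le_rfl h2
    · obtain ⟨h2, TJ⟩ := htype J hJm
      obtain ⟨e⟩ := W.diag_equiv TJ htr.symm h.rr h1.1
      rw [← h1.2.2] at e
      have h3 := Nat.card_congr e.toEquiv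
      rw [hJcard] at h3
      rcases h2 with h2 | h2
      · have := card_isAlt (by norm_num) h2
        rw [h3] at this
        norm_num [Nat.factorial] at this
      · have := card_isAlt (by norm_num) h2
        rw [h3] at this
        norm_num [Nat.factorial] at this

include haf in
/-- (3.1a), type `A₉`: `b ∈ K` or `c ∈ K` -/
theorem mem_of_A9 (hK9 : IsAlt 9 (Bar K)) : b ∈ K ∨ c ∈ K := by
  obtain ⟨E, hE, hE5, hbK⟩ := h.exists_E W hF1 hK haK
  have hNK : N ≤ K := h.N_le_r.trans (hK.single haK)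
  obtain ⟨MK⟩ := exists_mod (by norm_num) hK9
  have hKr : ∀ k ∈ K, k * (b * c) = b * c * k := fun k hk =>
    mem_centralizer_singleton_iff.mp (hK.T.comp.le hk)
  -- `cmp r = MK.cmp a`
  obtain ⟨hr_eq, hF5⟩ := (MK.isComp_iff_cmp haK h.aa).mp (h.comp_Ka hK haK)
  have hFcard : (fixIn Finset.univ (MK.φ a)).card = 5 := by
    obtain ⟨e⟩ := quot_cmp MK haK h.aa hF5
    have h1 := isAlt_of_equiv e
    rw [← hr_eq] at h1
    exact isAlt_inj (by omega) (by norm_num) h1 h.isAlt_cmp_r
  obtain ⟨hE_eq, hFb5⟩ := (MK.isComp_iff_cmp hbK h.bb).mp hE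
  have hFbcard : (fixIn Finset.univ (MK.φ b)).card = 5 := by
    obtain ⟨e⟩ := quot_cmp MK hbK h.bb hFb5
    have h1 := isAlt_of_equiv e
    rw [← hE_eq] at h1
    exact isAlt_inj (by omega) (by norm_num) h1 hE5
  -- the labels of `N`
  have hNlift : ∀ σ ∈ alt (fixIn Finset.univ (MK.φ a)), ∃ n ∈ N, MK.φ n = σ := by
    intro σ hσ
    obtain ⟨y, hy, rfl⟩ := MK.cmp_lift haK h.aa hF5 hσ
    rw [← hr_eq] at hy
    obtain ⟨n, hn, e⟩ := h.Nlift _ (M.cmp_mem_alt hy)
    refine ⟨n, hn, ?_⟩
    have hnr := h.N_le_r hn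
    have h1 : n⁻¹ * y ∈ core (M.cmp (b * c)) := by
      refine h.core_N (mul_mem (inv_mem hnr) hy) ?_
      have hnN := le_normalizer (M.cmp_le _ hnr)
      rw [M.mul _ _ (inv_mem hnN) (le_normalizer (M.cmp_le _ hy)), M.inv hnN, e, inv_mul_cancel]
    rw [hr_eq] at h1
    exact (MK.eq_iff (hNK hn) ((hr_eq ▸ MK.cmp_le a : M.cmp (b * c) ≤ K) hy)).mpr
      (MK.core_cmp_le haK h.aa hF5 h1)
  have hbfix : ∀ i ∈ fixIn Finset.univ (MK.φ a), MK.φ b i = i := by
    intro i hi
    refine apply_of_comm_alt (by omega) (fun σ hσ => ?_) hi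
    obtain ⟨n, hn, rfl⟩ := hNlift σ hσ
    exact MK.comm hbK (le_normalizer (hNK hn)) (h.Nb hn).symm
  have hFeq : fixIn Finset.univ (MK.φ a) = fixIn Finset.univ (MK.φ b) := by
    refine Finset.eq_of_subset_of_card_le (fun i hi => ?_) (by rw [hFcard, hFbcard])
    exact mem_fixIn.mpr ⟨Finset.mem_univ i, hbfix i hi⟩
  -- the lift `k`
  have hσσ := MK.sq hbK h.bb
  have hσalt := even_of_four hσσ hFbcard
  have hxK : x ∈ normalizer (K : Set G) := hK.T.x_mem
  have hcK : c ∈ normalizer (K : Set G) := by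
    have h1 : c = b * (b * c) := by rw [← mul_assoc, h.bb, one_mul]
    rw [h1]
    exact mul_mem hbK (norm_of_le_cent hK.T.comp.le)
  have hPcomm : ∀ y ∈ ({a, b, c, x} : Set G), ∀ z ∈ ({a, b, c, x} : Set G), y * z = z * y := by
    have e1 := h.ab
    have e2 := h.ac
    have e3 : a * x = x * a := h.T.comm
    have e4 := h.bc
    have e5 := h.xb
    have e6 := h.xc
    rintro y (rfl | rfl | rfl | rfl) z (rfl | rfl | rfl | rfl)
    all_goals first
      | rfl
      | assumption
      | (symm; assumption)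
  have hPsq : ∀ y ∈ ({a, b, c, x} : Set G), y * y = 1 := by
    rintro y (rfl | rfl | rfl | rfl)
    · exact h.aa
    · exact h.bb
    · exact h.cc
    · exact sq_of_order h.T.invx
  obtain ⟨Q, hQK, -, hQP, -, hQl, hQ1⟩ := MK.exists_group_lift (P := closure {a, b, c, x})
    (isPGroup_closure hPsq hPcomm) (by
      rw [closure_le]
      rintro y (rfl | rfl | rfl | rfl)
      · exact haK
      · exact hbK
      · exact hcK
      · exact hxK) (Q₀ := zpowers (MK.φ b)) (by
      rintro ⟨y, hy⟩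
      obtain ⟨j, rfl⟩ := mem_zpowers_iff.mp hy
      refine ⟨1, Subtype.ext ?_⟩
      change (MK.φ b ^ j) ^ 2 ^ 1 = 1
      rw [pow_one, ← zpow_natCast, ← zpow_mul, mul_comm, zpow_mul, zpow_natCast, pow_two, hσσ, one_zpow])
    (by rw [zpowers_le]; exact hσalt) (by
      intro p hp σ hσ
      obtain ⟨j, rfl⟩ := mem_zpowers_iff.mp hσ
      have h1 : p * b = b * p := by
        have h2 : closure {a, b, c, x} ≤ centralizer ({b} : Set G) := by
          rw [closure_le]
          intro y hy
          exact mem_centralizer_singleton_iff.mpr (hPcomm y hy b (by simp))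
        exact mem_centralizer_singleton_iff.mp (h2 hp)
      have hpK : p ∈ normalizer (K : Set G) := by
        have h2 : closure {a, b, c, x} ≤ normalizer (K : Set G) := by
          rw [closure_le]
          rintro y (rfl | rfl | rfl | rfl)
          · exact haK
          · exact hbK
          · exact hcK
          · exact hxK
        exact h2 hp
      have h2 : Commute (MK.φ p) (MK.φ b) := MK.comm hpK hbK h1
      exact h2.zpow_right j)
  obtain ⟨k, hkQ, hkφ⟩ := hQl (MK.φ b) (mem_zpowers _)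
  have hkK := hQK hkQ
  have hkk : k * k = 1 := by
    apply hQ1 _ (mul_mem hkQ hkQ)
    rw [MK.mul _ _ (le_normalizer hkK) (le_normalizer hkK), hkφ, hσσ]
  have hka : k * a = a * k := hQP k hkQ a (subset_closure (by simp))
  have hkb : k * b = b * k := hQP k hkQ b (subset_closure (by simp))
  have hkc : k * c = c * k := hQP k hkQ c (subset_closure (by simp))
  have hkx : k * x = x * k := hQP k hkQ x (subset_closure (by simp))
  -- `k` normalizes `L`
  have hkr : k ∈ normalizer (M.cmp (b * c) : Set G) := by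
    rw [hr_eq]
    exact MK.mem_normalizer_cmp haK (le_normalizer hkK) hka
  have hcjr := mem_normalizer_iff_cj.mp hkr
  have hkL : k ∈ normalizer (L : Set G) := by
    rw [mem_normalizer_iff_cj]
    refine h.isComp_cmp_r.unique (isComp_cj_of_mem h.T.comp (mem_c hka)) h.T.comp ?_ (M.cmp_le _)
    rw [← hcjr]
    exact cj_mono (M.cmp_le _)
  -- the label of `k` on `L`
  have hk5 : ∀ i ∈ fixIn S (M.φ (b * c)), M.φ k i = i := by
    intro i hi
    refine M.apply_of_fixes (E := M.cmp (b * c)) ((M.cmp_le _).trans le_normalizer)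
      (by rw [h.fix_facts.2.2.1]; norm_num)
      (fun σ hσ => M.cmp_lift (le_normalizer h.rL) h.rr h.fix_facts.2.2.1.ge hσ) hkL ?_ hi
    intro e he
    have h1 : ⁅k, e⁆ ∈ M.cmp (b * c) := mul_mem ((mem_normalizer_iff.mp hkr e).mp he) (inv_mem he)
    have heK : e ∈ K := (hK.single haK) he
    have h2 : MK.φ ⁅k, e⁆ = 1 := by
      have heN := le_normalizer (H := K) heK
      have hkN := le_normalizer (H := K) hkK
      rw [commutatorElement_def, MK.mul _ _ (mul_mem (mul_mem hkN heN) (inv_mem hkN)) (inv_mem heN),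
        MK.conj hkN heN, MK.inv heN, mul_inv_eq_one, mul_inv_eq_iff_eq_mul, hkφ]
      have h3 : MK.φ e ∈ alt (fixIn Finset.univ (MK.φ a)) := by
        rw [hr_eq] at he
        exact MK.cmp_mem_alt he
      rw [hFeq] at h3
      exact (comm_of_mem_sym_fixIn (alt_le_sym _ h3)).symm
    have h3 : ⁅k, e⁆ ∈ core K := (MK.core_iff _ ((hK.single haK) h1)).mp h2
    have h4 := core_of_le (hK.single haK) h1 h3
    have h5 := M.core_cmp_le (le_normalizer h.rL) h.rr h.fix_facts.2.2.1.ge h4
    exact (M.core_iff _ (core_le _ h5)).mpr h5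
  obtain ⟨p, q0, p', q', p1, p2, p3, p4, p5, p6, p7⟩ := h.lab
  have hcases : M.φ k = 1 ∨ M.φ k = M.φ b ∨ M.φ k = M.φ c ∨ M.φ k = M.φ (b * c) := by
    rw [h.φr, p6, p7]
    refine four_cases p5 ?_ ?_ ?_
    · intro i i1 i2 i3 i4
      by_cases hi : i ∈ S
      · refine hk5 i ?_
        rw [mem_fixIn, h.φr, p6, p7, Perm.mul_apply, swap_apply_of_ne_of_ne i3 i4,
          swap_apply_of_ne_of_ne i1 i2]
        exact ⟨hi, rfl⟩
      · exact M.mem_sym k hkL i hi
    · rw [← p6]
      exact M.comm hkL h.pb.cN hkb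
    · rw [← p7]
      exact M.comm hkL h.pc.cN hkc
  -- `q = b k`
  have hfr : Fixes (b * c) K := by
    have hrK : b * c ∈ normalizer (K : Set G) := norm_of_le_cent hK.T.comp.le
    refine ⟨hrK, fun y hy => ?_⟩
    rw [commutatorElement_def, ← hKr y hy, mul_inv_cancel_right, mul_inv_cancel]
    exact one_mem _
  have hK' : PK x a d (c * b) (M.cmp (c * b)) K := by rw [← h.bc]; exact hK
  have hqφ : MK.φ (b * k) = 1 := by
    rw [MK.mul _ _ hbK (le_normalizer hkK), hkφ, hσσ]
  have hqK : Fixes (b * k) K := (MK.fixes_iff (mul_mem hbK (le_normalizer hkK))).mp hqφ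
  have hqq : b * k * (b * k) = 1 := by
    calc b * k * (b * k) = b * (k * b) * k := by group
      _ = b * (b * k) * k := by rw [hkb]
      _ = (b * b) * (k * k) := by group
      _ = 1 := by rw [h.bb, hkk, one_mul]
  have hqa : b * k * a = a * (b * k) := by rw [mul_assoc, hka, ← mul_assoc, ← h.ab, mul_assoc]
  have hqb : b * k * b = b * (b * k) := by rw [mul_assoc, hkb]
  have hqc : b * k * c = c * (b * k) := by rw [mul_assoc, hkc, ← mul_assoc, h.bc, mul_assoc]
  have hqx : b * k * x = x * (b * k) := by rw [mul_assoc, hkx, ← mul_assoc, ← h.xb, mul_assoc]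
  have hqL : b * k ∈ normalizer (L : Set G) := mul_mem h.pb.cN hkL
  have hlabq : M.φ (b * k) = M.φ b * M.φ k := M.mul _ _ h.pb.cN hkL
  have hbbφ := M.sq h.pb.cN h.bb
  have hccφ := M.sq h.pc.cN h.cc
  rcases hcases with e | e | e | e
  · -- label `b`
    exact (h.q_three W hK hNK hK9 hqa hqb hqc hqx hqq hqK hqL (by rw [hlabq, e, mul_one])).elim
  · -- label `1`
    have h1 := h.q_one W hK hNK hK9 hqa hqb hqc hqx hqq hqK
      ((M.fixes_iff hqL).mp (by rw [hlabq, e, hbbφ]))
    left
    have h2 : b = k⁻¹ := eq_inv_of_mul_eq_one_left h1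
    rw [h2]
    exact inv_mem hkK
  · -- label `b c`
    have hqr : b * k * (b * c) = b * c * (b * k) := h.q_r hqb hqc
    have h1 := h.q_one W hK hNK hK9 (q := b * k * (b * c))
      (by rw [mul_assoc, ← h.ar, ← mul_assoc, hqa, mul_assoc])
      (by rw [mul_assoc, ← h.br, ← mul_assoc, hqb, mul_assoc])
      (by rw [mul_assoc, ← h.cr, ← mul_assoc, hqc, mul_assoc])
      (by
        have hxr : b * c * x = x * (b * c) := by
          rw [mul_assoc, ← h.xc, ← mul_assoc, ← h.xb, mul_assoc]
        rw [mul_assoc, hxr, ← mul_assoc, hqx, mul_assoc])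
      (by
        calc b * k * (b * c) * (b * k * (b * c)) = b * k * ((b * c) * (b * k)) * (b * c) := by group
          _ = b * k * ((b * k) * (b * c)) * (b * c) := by rw [hqr]
          _ = (b * k * (b * k)) * ((b * c) * (b * c)) := by group
          _ = 1 := by rw [hqq, h.rr, one_mul])
      (by
        have h2 : MK.φ (b * k * (b * c)) = 1 := by
          rw [MK.mul _ _ hqK.1 hfr.1, hqφ, (MK.fixes_iff hfr.1).mpr hfr, one_mul]
        exact (MK.fixes_iff (mul_mem hqK.1 hfr.1)).mp h2)
      ((M.fixes_iff (mul_mem hqL (le_normalizer h.rL))).mp (by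
        rw [M.mul _ _ hqL (le_normalizer h.rL), hlabq, e, h.φr]
        calc M.φ b * M.φ c * (M.φ b * M.φ c) = M.φ (b * c) * M.φ (b * c) := by rw [h.φr]
          _ = 1 := M.sq (le_normalizer h.rL) h.rr))
    right
    have h2 : k * c = 1 := by
      calc k * c = (b * b) * k * c := by rw [h.bb, one_mul]
        _ = b * (b * k) * c := by group
        _ = b * (k * b) * c := by rw [hkb]
        _ = b * k * (b * c) := by group
        _ = 1 := h1
    have h3 : c = k⁻¹ := eq_inv_of_mul_eq_one_right h2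
    rw [h3]
    exact inv_mem hkK
  · -- label `c`
    have hNK' := hNK
    exact (h.symm.q_three W hK' hNK hK9 hqa hqc hqb hqx hqq hqK hqL (by
      rw [hlabq, e, h.φr, ← mul_assoc, hbbφ, one_mul])).elim

include haf in
/-- (3.1a), type `A₉` -/
theorem bad_A9 (hK9 : IsAlt 9 (Bar K)) : False := by
  have hvr : v * (b * c) = b * c * v := by
    have h1 : v * (b * c) * v⁻¹ = b * c := by
      calc v * (b * c) * v⁻¹ = (v * b * v⁻¹) * (v * c * v⁻¹) := by group
        _ = c * b := by rw [h.vb, h.vc]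
        _ = b * c := h.bc.symm
    calc v * (b * c) = v * (b * c) * v⁻¹ * v := by group
      _ = b * c * v := by rw [h1]
  have hvN : v ∈ normalizer (M.cmp (b * c) : Set G) :=
    M.mem_normalizer_cmp (le_normalizer h.rL) (le_normalizer h.vL) hvr
  have hvK : v ∈ normalizer (K : Set G) := by
    rw [mem_normalizer_iff_cj]
    refine h.isComp_cmp_r.unique (isComp_cj_of_mem hK.T.comp (mem_c hvr)) hK.T.comp ?_ (hK.single haK)
    rw [← mem_normalizer_iff_cj.mp hvN]
    exact cj_mono (hK.single haK)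
  have hboth : b ∈ K ∧ c ∈ K := by
    rcases h.mem_of_A9 W hF1 hK haK haf hK9 with h1 | h1
    · refine ⟨h1, ?_⟩
      rw [← h.vb]
      exact (mem_normalizer_iff.mp hvK b).mp h1
    · refine ⟨?_, h1⟩
      rw [← h.vc]
      exact (mem_normalizer_iff.mp hvK c).mp h1
  have hrK : b * c ∈ K := mul_mem hboth.1 hboth.2
  obtain ⟨MK⟩ := exists_mod (by norm_num) hK9
  have h1 : MK.φ (b * c) = 1 := by
    refine (MK.fixes_iff (le_normalizer hrK)).mpr ⟨le_normalizer hrK, fun y hy => ?_⟩
    rw [commutatorElement_def, ← mem_centralizer_singleton_iff.mp (hK.T.comp.le hy),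
      mul_inv_cancel_right, mul_inv_cancel]
    exact one_mem _
  have h2 := eq_one_of_mem_core_sq ((MK.core_iff _ hrK).mp h1) h.rr
  exact h.rne (by rw [h2, M.one])

end bad

end Cfg

end Cfsg.Agent.UGT.A9
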