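import Cfsg.Agent.UGT.A9.Iso
import Cfsg.Agent.UAlt.CaseNW

/-!
# NodeA9, the isolated case: the functor `e ↦ O(C(e))` on `V × ⟨w⟩` (text #11040, (4.6), (4.7))

* `BalW V V'`: balance at the products `v w` (the output of (4.5)).
* `Pair.W_spec`: `W V` is odd, `W V = W V'`, `W V ∩ C(u) = O(C(u))` for `u ∈ V# ∪ V'#`.
* `Pair.norm_K_le`: `N(K_v) ≤ N(W V)`; `Pair.L_le`: `L ≤ N(W V)`.
-/

set_option autoImplicit false
set_option linter.unusedSectionVars false

open Cfsg Subgroup Equiv Equiv.Perm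
open Cfsg.Agent.SignalizersComponents Cfsg.Agent.Lib
open Cfsg.Agent.SignalizersComponents.IntrinsicBasic
open Cfsg.Agent.Intrinsic Cfsg.Agent.Intrinsic.Basic Cfsg.Agent.Intrinsic.Cen Cfsg.Agent.Intrinsic.Diag
open Cfsg.Agent.UAlt Cfsg.Agent.UGT.Triple
open scoped commutatorElement

namespace Cfsg.Agent.UGT.A9

variable {G : Type*} [Group G] {α : Type*} [Fintype α] [DecidableEq α]
  {L : Subgroup G} {S : Finset α}

/-- balance at the products `v w`, `v ∈ V#`, `w ∈ V'#`, for the members of `V × ⟨w⟩` -/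
def BalW (V V' : Subgroup G) : Prop := ∀ {v w e : G}, v ∈ V → v ≠ 1 → w ∈ V' → w ≠ 1 →
  e ∈ V ⊔ zpowers w → e ≠ 1 →
    core (centralizer ({e} : Set G)) ⊓ centralizer ({v * w} : Set G) ≤ core (centralizer ({v * w} : Set G))

/-- the output of (4.3)-(4.5): balance at all products -/
def BalAll (M : Mod L S) : Prop := ∀ {V V' : Subgroup G} {T T' : Finset α}, Pair M V V' T T' → BalW V V'

section

variable [Finite G] {M : Mod L S} {V V' : Subgroup G} {T T' : Finset α}

theorem Pair.duo (h : Pair M V V' T T') : Duo M V V' T T' := ⟨h.r1, h.r2, h.d, h.c⟩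

theorem zpowers_le_of {w : G} (hw : w ∈ V') : zpowers w ≤ V' := (zpowers_le).mpr hw

theorem mem_zpowers_sq {w u : G} (h2 : w * w = 1) (hu : u ∈ zpowers w) : u = 1 ∨ u = w := by
  obtain ⟨n, rfl⟩ := mem_zpowers_iff.mp hu
  rcases Int.even_or_odd n with ⟨k, rfl⟩ | ⟨k, rfl⟩
  · left
    rw [← two_mul, zpow_mul, zpow_two, h2, one_zpow]
  · right
    rw [zpow_add, zpow_mul, zpow_two, h2, one_zpow, one_mul, zpow_one]

/-- `V V'` acts on `K_v` as `V'` and fixes the other 2-components of `C(v)`: there is no triple `(e, v, J)` -/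
theorem Iso9.no_triple (hI : Iso9 M) (h : Pair M V V' T T') {v : G} (hv : v ∈ V) (h1 : v ≠ 1) {e : G}
    (he : e ∈ V ⊔ V') {J : Subgroup G} (Tr : IsTriple e v J) : False := by
  obtain ⟨K, Mv, hK⟩ := hI.ex v (h.r1.rt hv h1)
  obtain ⟨u, hu, u', hu', rfl⟩ := exists_mul_of_cm h.c he
  have hoth := fun (J : Subgroup G) (hJ : IsComp (centralizer ({v} : Set G)) J) (hne : J ≠ K) =>
    hI.fixes_other h hv h1 hK hJ hne
  refine no_triple_v Mv (fun J hJ hne => fixes_sup (hoth J hJ hne).1 (hoth J hJ hne).2 he) ?_ Tr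
  have h2 := h.fixes_K hI.card hv h1 hK hu
  have h3 : Mv.φ u = 1 := (Mv.fixes_iff h2.1).mpr h2
  have h4 : u' ∈ K := h.le_K hv h1 hK hu'
  rw [Mv.mul _ _ h2.1 (le_normalizer h4), h3, one_mul]
  by_cases h5 : u' = 1
  · rw [h5, Mv.one]
    have h6 : fixIn (fixIn S (M.φ v)) (1 : Perm α) = fixIn S (M.φ v) := by
      ext y
      rw [mem_fixIn]
      exact ⟨fun h => h.1, fun h => ⟨h, rfl⟩⟩
    rw [h6, card_fix_root hI.card (h.r1.rt hv h1)]
    omega
  · rw [h.symm.card_fix_le hI.card hu' h5 hv h1 hK]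
    omega

/-- balance at the members of `V` -/
theorem Iso9.bal (hI : Iso9 M) (h : Pair M V V' T T') {v : G} (hv : v ∈ V) (h1 : v ≠ 1) {e : G}
    (he : e ∈ V ⊔ V') (he1 : e ≠ 1) : core (centralizer ({e} : Set G)) ⊓ centralizer ({v} : Set G) ≤
      core (centralizer ({v} : Set G)) := by
  rintro d ⟨hd, hdv⟩
  by_contra hn
  have hvE : v ∈ V ⊔ V' := mem_sup_left hv
  obtain ⟨J, hJ⟩ := exists_triple (order_of_sq (h.duo.sq he) he1) (order_of_sq (h.duo.sq hvE) h1)
    (h.duo.comm hvE he) hd hdv hn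
  exact hI.no_triple h hv h1 he hJ

end

section functor

variable {G : Type*} [Group G] [Finite G] {α : Type*} [Fintype α] [DecidableEq α]
  {L : Subgroup G} {S : Finset α} {M : Mod L S} {V V' : Subgroup G} {T T' : Finset α}

variable (FT : Functor.OddSol G) (hI : Iso9 M) (h : Pair M V V' T T') (hB : BalW V V')

include FT hI h hB

theorem Pair.W_main {w : G} (hw : w ∈ V') (hw1 : w ≠ 1) :
    Odd (Nat.card (Functor.W (V ⊔ zpowers w))) ∧ ∀ e ∈ V ⊔ zpowers w, e ≠ 1 →
    Functor.W (V ⊔ zpowers w) ⊓ centralizer ({e} : Set G) = core (centralizer ({e} : Set G)) := by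
  have hle : V ⊔ zpowers w ≤ V ⊔ V' := sup_le_sup_left (zpowers_le_of hw) _
  have hw2 := h.r2.sq w hw
  refine Functor.closure_of_rank FT (fun e he f hf => h.duo.comm (hle he) (hle hf))
    (fun e he => by rw [pow_two]; exact h.duo.sq (hle he)) ?_ ?_
  · have h1 : V ⊓ zpowers w = ⊥ := by
      rw [eq_bot_iff, ← h.duo.inf_eq_bot]
      exact inf_le_inf_left _ (zpowers_le_of hw)
    have h2 := Functor.card_sup_le h1
    rw [h.r1.natCard, Nat.card_zpowers, order_of_sq hw2 hw1] at h2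
    omega
  · intro e he he1 f hf hf1
    have hc : Cm V (zpowers w) := fun a ha b hb => h.c a ha b (zpowers_le_of hw hb)
    obtain ⟨u, hu, u', hu', rfl⟩ := exists_mul_of_cm hc hf
    rcases mem_zpowers_sq hw2 hu' with rfl | rfl
    · rw [mul_one] at hf1 ⊢
      exact hI.bal h hu hf1 (hle he) he1
    · by_cases hu1 : u = 1
      · subst hu1
        rw [one_mul] at hf1 ⊢
        refine hI.bal h.symm hw hw1 ?_ he1
        rw [sup_comm]
        exact hle he
      · exact hB hu hu1 hw hw1 he he1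

theorem Pair.W_eq {w : G} (hw : w ∈ V') (hw1 : w ≠ 1) :
    Functor.W (V ⊔ zpowers w) = Functor.W V := by
  obtain ⟨h1, h2⟩ := h.W_main FT hI hB hw hw1
  apply le_antisymm
  · refine Functor.gen_le (F := V) (fun a ha b hb => h.r1.comm ha hb) (fun a ha => h.r1.sq a ha)
      (by rw [h.r1.natCard]) h1 (le_sup_left.trans (le_normalizer.trans (Functor.normalizer_le _)))
      fun f hf hf1 => ?_
    rw [h2 f (mem_sup_left hf) hf1]
    exact Functor.le_W hf hf1
  · exact Functor.W_le fun a ha ha1 => Functor.le_W (mem_sup_left ha) ha1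

theorem Pair.W_odd : Odd (Nat.card (Functor.W V)) := by
  obtain ⟨w, hw, hw1⟩ := h.r2.exists_ne
  rw [← h.W_eq FT hI hB hw hw1]
  exact (h.W_main FT hI hB hw hw1).1

theorem Pair.W_inf_left {v : G} (hv : v ∈ V) (h1 : v ≠ 1) :
    Functor.W V ⊓ centralizer ({v} : Set G) = core (centralizer ({v} : Set G)) := by
  obtain ⟨w, hw, hw1⟩ := h.r2.exists_ne
  rw [← h.W_eq FT hI hB hw hw1]
  exact (h.W_main FT hI hB hw hw1).2 v (mem_sup_left hv) h1

theorem Pair.W_inf_right {w : G} (hw : w ∈ V') (hw1 : w ≠ 1) :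
    Functor.W V ⊓ centralizer ({w} : Set G) = core (centralizer ({w} : Set G)) := by
  rw [← h.W_eq FT hI hB hw hw1]
  exact (h.W_main FT hI hB hw hw1).2 w (mem_sup_right (mem_zpowers w)) hw1

theorem Pair.W_le : Functor.W V' ≤ Functor.W V :=
  Functor.W_le fun _ hw hw1 => (h.W_inf_right FT hI hB hw hw1).ge.trans inf_le_left

theorem Pair.W_symm (hB' : BalW V' V) : Functor.W V = Functor.W V' :=
  le_antisymm (h.symm.W_le FT hI hB') (h.W_le FT hI hB)

/-- the properties of `W = W V = W V'` -/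
structure WD (V V' W : Subgroup G) : Prop where
  odd : Odd (Nat.card W)
  left : ∀ v ∈ V, v ≠ 1 → W ⊓ centralizer ({v} : Set G) = core (centralizer ({v} : Set G))
  right : ∀ w ∈ V', w ≠ 1 → W ⊓ centralizer ({w} : Set G) = core (centralizer ({w} : Set G))
  nl : normalizer (V : Set G) ≤ normalizer (W : Set G)
  nr : normalizer (V' : Set G) ≤ normalizer (W : Set G)

omit [Finite G] FT hI h hB in
theorem WD.symm {W : Subgroup G} (h : WD V V' W) : WD V' V W := ⟨h.odd, h.right, h.left, h.nr, h.nl⟩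

/-- **(4.6)** -/
theorem Pair.wd (hB' : BalW V' V) : WD V V' (Functor.W V) where
  odd := h.W_odd FT hI hB
  left := fun v hv h1 => h.W_inf_left FT hI hB hv h1
  right := fun w hw h1 => h.W_inf_right FT hI hB hw h1
  nl := Functor.normalizer_le V
  nr := by
    rw [h.W_symm FT hI hB hB']
    exact Functor.normalizer_le V'

end functor

end Cfsg.Agent.UGT.A9
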