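import Cfsg.Agent.UGT.A9.Fun
import Cfsg.Agent.UGT.A9.MarkOne
import Cfsg.Agent.UGT.A9.LTwoFacts
import Cfsg.Agent.UAlt.ModT

/-!
# NodeA9, the isolated case: the 2-component of `C(a f)` over `C_L(f)^∞`, `f` a root (text #11039, (1.3))

* `pump_af`: the pump-up of `C_L(f)^∞` in `C(a f)` (as a triple).
* `Ctx.mark_eq`: the marker components of `C(u) ∩ C(a f)`.
* `Ctx.exists_af`: for `f ∈ V#` there is a 2-component `K ⊇ C_L(f)^∞` of `C(a f)`, normalized by `V`, such that `C_K(v w)`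
  has no 2-component, `v ∈ V#`, `w ∈ V'#`.
-/

set_option autoImplicit false
set_option linter.unusedSectionVars false

open Cfsg Subgroup Equiv Equiv.Perm
open Cfsg.Agent.SignalizersComponents Cfsg.Agent.Lib
open Cfsg.Agent.SignalizersComponents.IntrinsicBasic
open Cfsg.Agent.Intrinsic Cfsg.Agent.Intrinsic.Basic Cfsg.Agent.Intrinsic.Cen Cfsg.Agent.Intrinsic.Diag
open Cfsg.Agent.UAlt Cfsg.Agent.UGT.Triple Cfsg.Agent.McLLyComp.Act Cfsg.Agent.UGT.LemG
open Cfsg.Agent.UGT.Iface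
open scoped commutatorElement

namespace Cfsg.Agent.UGT.A9

open Marker

variable {G : Type*} [Group G] [Finite G] {α : Type*} [Fintype α] [DecidableEq α]
  {L : Subgroup G} {S : Finset α} {x a : G}

omit [Finite G] in
/-- `a` fixes the subgroups of `C(a)` -/
theorem fixes_a {L : Subgroup G} (hL : L ≤ centralizer ({a} : Set G)) : Fixes a L := by
  have h1 : ∀ y ∈ L, a * y * a⁻¹ = y := fun y hy => by
    rw [← comm_c (hL hy), mul_inv_cancel_right]
  refine ⟨?_, fun y hy => ?_⟩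
  · rw [mem_normalizer_iff_cj]
    ext y
    rw [mem_cj]
    constructor
    · intro hy
      have h2 := h1 _ hy
      have h3 : y = a * (a⁻¹ * y * a) * a⁻¹ := by group
      rw [h3, h2]; exact hy
    · intro hy
      have h2 : a⁻¹ * y * a = y := by
        calc a⁻¹ * y * a = a⁻¹ * (a * y * a⁻¹) * a := by rw [h1 y hy]
          _ = y := by group
      rw [h2]; exact hy
  · rw [commutatorElement_def, h1 y hy, mul_inv_cancel]
    exact one_mem _

theorem phi_a (M : Mod L S) (T : IsTriple x a L) : M.φ a = 1 := by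
  have h := fixes_a T.comp.le
  exact (M.fixes_iff h.1).mpr h

/-- a root is not `a` -/
theorem ne_a (M : Mod L S) (T : IsTriple x a L) {f : G} (hf : M.Rt f) : a ≠ f := by
  rintro rfl
  have h1 := hf.isRoot
  rw [phi_a M T] at h1
  have h2 := h1.2
  rw [Perm.support_one] at h2
  simp at h2

omit [Finite G] in
theorem sq_mul {a r : G} (haa : a * a = 1) (hrr : r * r = 1) (hra : r * a = a * r) :
    (a * r) * (a * r) = 1 := by
  calc (a * r) * (a * r) = a * (r * a) * r := by group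
    _ = a * (a * r) * r := by rw [hra]
    _ = (a * a) * (r * r) := by group
    _ = 1 := by rw [haa, hrr, one_mul]

theorem order_af (M : Mod L S) (T : IsTriple x a L) {f : G} (hf : M.Rt f) : orderOf (a * f) = 2 := by
  have haa := sq_of_order T.inva
  refine order_of_sq (sq_mul haa hf.sq (comm_of_triple T hf.mem)) fun e => ne_a M T hf ?_
  have h1 : a * (a * f) = a := by rw [e, mul_one]
  rw [← mul_assoc, haa, one_mul] at h1
  exact h1.symm

/-- `C_L(f)^∞` is a 2-component of `C(a f) ∩ C(a)` -/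
theorem isComp_cmp_af (M : Mod L S) (T : IsTriple x a L) (h9 : 9 ≤ S.card) {f : G} (hf : M.Rt f) :
    IsComp (centralizer ({a * f} : Set G) ⊓ centralizer ({a} : Set G)) (M.cmp f) := by
  have h5 : (fixIn S (M.φ f)).card = S.card - 4 := hf.root.card_fix
  have hE := M.isComp_cmp_of T.comp (le_normalizer hf.mem) hf.sq (by omega)
  rwa [cent_mul_eq] at hE

/-- **(A)** the pump-up of `C_L(f)^∞` in `C(a f)`, `f` a root -/
theorem pump_af (M : Mod L S) (T : IsTriple x a L) (h9 : 9 ≤ S.card) {f : G} (hf : M.Rt f) :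
    ∃ x' N, IsTriple x' (a * f) N ∧ ((a ∈ normalizer (N : Set G) ∧ M.cmp f ≤ N) ∨
      (cj a N ≠ N ∧ M.cmp f = diag (centralizer ({a * f} : Set G)) N a)) := by
  obtain ⟨R, V, hV, hdis, hc⟩ := M.exists_good T (by omega)
  obtain ⟨r, hr, hr1⟩ := hV.exists_ne
  have hR := hV.rt hr hr1
  have hrL := hV.le hr
  have hra : r * a = a * r := comm_of_triple T hrL
  have hrx : r * x = x * r := hc r hr x (mem_zpowers x)
  have haa := sq_of_order T.inva
  have hfx : ∀ y ∈ fixIn S (M.φ x), M.φ r y = y := fun y hy =>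
    (hV.root hr hr1).apply_eq fun h' => Finset.disjoint_left.mp hdis h' hy
  obtain ⟨d, hd, hda, hdr, hdL, hdφ, hd1⟩ := M.exists_bad T hR.sq (le_normalizer hrL) hra hrx hfx
  have h5 : (fixIn S (M.φ r)).card = S.card - 4 := hR.root.card_fix
  have hE := isComp_cmp_af M T h9 hR
  have hnf : ¬ Fixes d (M.cmp r) := by
    intro hf
    apply hd1
    ext y
    by_cases hy : y ∈ fixIn S (M.φ x)
    · exact M.apply_of_fixes_cmp (le_normalizer hrL) hR.sq (by omega) hdL hf
        (mem_fixIn.mpr ⟨(mem_fixIn.mp hy).1, hfx y hy⟩)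
    · exact hdφ.2 y hy
  obtain ⟨N, hN, -, hor⟩ := UGT.PumpGen.pump (x := x) (a := a) (c := a * r) T.invx (order_af M T hR) haa
    (by rw [mul_assoc, hra]) (by rw [mul_assoc, hrx, ← mul_assoc, T.comm, mul_assoc]) hE hd hda
    (mem_c (by rw [← mul_assoc, comm_c hda, mul_assoc, comm_c hdr, mul_assoc])) hnf
  obtain ⟨g, hg, hgf⟩ := M.exists_conj_root hR.mem hf.mem hR.sq hf.sq hR.isRoot hf.isRoot
  have hga : g * a = a * g := comm_of_triple T hg
  have hgag : g * a * g⁻¹ = a := by rw [hga, mul_inv_cancel_right]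
  have hgaf : g * (a * r) * g⁻¹ = a * f := by
    rw [← hgf]
    calc g * (a * r) * g⁻¹ = (g * a * g⁻¹) * (g * r * g⁻¹) := by group
      _ = _ := by rw [hgag]
  have hcmp : M.cmp f = cj g (M.cmp r) := by
    rw [← hgf, M.cmp_conj (le_normalizer hg) (le_normalizer hrL) hR.sq (by omega)]
  refine ⟨g * x * g⁻¹, cj g N, ?_, ?_⟩
  · rw [← hgaf]
    exact hN.cj g
  · have hcc : cj a (cj g N) = cj g (cj a N) := by
      rw [← IntrinsicBasic.cj_mul, ← hga, IntrinsicBasic.cj_mul]
    rcases hor with ⟨h1, h2⟩ | ⟨h1, h2⟩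
    · left
      refine ⟨?_, ?_⟩
      · rw [mem_normalizer_iff_cj, hcc, mem_normalizer_iff_cj.mp h1]
      · rw [hcmp]
        exact cj_mono h2
    · right
      refine ⟨?_, ?_⟩
      · rw [hcc]
        exact fun e => h1 (IntrinsicBasic.cj_injective g e)
      · rw [hcmp, h2, cj_diag, hgag, cj_centralizer, hgaf]

/-! ### the marker -/

/-- the configuration: a triple `(x, a, L)` in the isolated case, two root four-groups -/
structure Ctx (x a : G) (M : Mod L S) (V V' : Subgroup G) (T T' : Finset α) : Prop where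
  tr : IsTriple x a L
  iso : Iso9 M
  pr : Pair M V V' T T'

namespace Ctx

variable {M : Mod L S} {V V' : Subgroup G} {T T' : Finset α} (h : Ctx x a M V V' T T')

include h

theorem swap : Ctx x a M V' V T' T := ⟨h.tr, h.iso, h.pr.symm⟩

theorem aa : a * a = 1 := sq_of_order h.tr.inva

theorem h9 : S.card = 9 := h.iso.card

theorem ca {l : G} (hl : l ∈ L) : l * a = a * l := comm_of_triple h.tr hl

theorem va {u : G} (hu : u ∈ V) : u * a = a * u := h.ca (h.pr.r1.le hu)

theorem afaf {f : G} (hf : f ∈ V) : (a * f) * (a * f) = 1 := sq_mul h.aa (h.pr.r1.sq f hf) (h.va hf)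

theorem aX {f : G} (hf : f ∈ V) : a ∈ centralizer ({a * f} : Set G) := mem_c (by
  rw [mul_assoc, h.va hf])

theorem uX {f u : G} (hf : f ∈ V) (hu : u ∈ V) : u ∈ centralizer ({a * f} : Set G) := mem_c (by
  rw [← mul_assoc, h.va hu, mul_assoc, h.pr.r1.comm hu hf, mul_assoc])

theorem FT_eq : M.FT V = S \ T := by
  ext y
  rw [M.mem_FT (h.pr.r1.le.trans le_normalizer), Finset.mem_sdiff]
  refine and_congr_right fun hy => ⟨fun h1 hyT => ?_, fun hyT v hv => (h.pr.r1.mem v hv).2 y hyT⟩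
  obtain ⟨v, hv, hv1⟩ := h.pr.r1.exists_ne
  have h2 : y ∈ fixIn S (M.φ v) := mem_fixIn.mpr ⟨hy, h1 v hv⟩
  rw [h.pr.r1.fixIn_eq hv hv1] at h2
  exact (Finset.mem_sdiff.mp h2).2 hyT

theorem card_sdiff : (S \ T).card = 5 := by
  rw [Finset.card_sdiff_of_subset h.pr.r1.sub, h.pr.r1.card, h.h9]

theorem mark_comp : IsComp (L ⊓ centralizer (V : Set G)) (M.cmpT V) :=
  M.isComp_cmpT h.pr.r1.isPGroup (h.pr.r1.le.trans le_normalizer) (by rw [h.FT_eq, h.card_sdiff])

theorem mkr : Mkr (M.cmpT V) := Mkr.of_comp h.mark_comp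

theorem mark_le {u : G} (hu : u ∈ V) (hu1 : u ≠ 1) : M.cmpT V ≤ M.cmp u := by
  have h1 : M.preT V ≤ M.pre u := by
    rintro k ⟨h1, h2, h3⟩
    refine ⟨h1, h2 u hu, ?_⟩
    rwa [h.FT_eq, ← h.pr.r1.fixIn_eq hu hu1] at h3
  exact PComponents.pElem_mono h1

theorem mark_cu {u : G} (hu : u ∈ V) : M.cmpT V ≤ centralizer ({u} : Set G) := fun _ hn =>
  mem_c (M.cmpT_comm hn hu).symm

theorem mark_ca : M.cmpT V ≤ centralizer ({a} : Set G) := fun _ hn => mem_c (h.ca (M.cmpT_le V hn))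

theorem mark_caf {f : G} (hf : f ∈ V) : M.cmpT V ≤ centralizer ({a * f} : Set G) := fun n hn => by
  have h1 := comm_c (h.mark_ca hn)
  have h2 := comm_c (h.mark_cu hf hn)
  exact mem_c (by rw [← mul_assoc, h1, mul_assoc, h2, mul_assoc])

/-- `V` fixes `C_L(f)^∞` -/
theorem fixes_cmp {f u : G} (hf : f ∈ V) (hf1 : f ≠ 1) (hu : u ∈ V) : Fixes u (M.cmp f) := by
  have hR := h.pr.r1.rt hf hf1
  refine M.fixes_cmp h.tr.comp (le_normalizer hR.mem) hR.sq (by rw [card_fix_root h.h9 hR])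
    (mem_c (h.va hu)) (le_normalizer (h.pr.r1.le hu)) (mem_c (h.pr.r1.comm hu hf)) fun p hp => ?_
  rw [h.pr.r1.fixIn_eq hf hf1, Finset.mem_sdiff] at hp
  exact (h.pr.r1.mem u hu).2 p hp.2

/-- a 2-component `K` such that `K / O(K)` is `Alt(5)` and `s` fixes `K` : `AltType (cen K s) 5` -/
theorem altType_five {u : G} {K : Subgroup G} {Mu : Mod K (fixIn S (M.φ u))} (hu : M.Rt u) :
    AltType K 5 := Mu.altType_of_card (card_fix_root h.h9 hu)

/-- **(n1)** the marker component of `C(u) ∩ C(a f)` is unique, of type `Alt(5)` -/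
theorem mark_eq {u f : G} (hu : u ∈ V) (hu1 : u ≠ 1) (hf : f ∈ V) : ∃ D : Subgroup G, AltType D 5 ∧
    ∀ I, IsMark (centralizer ({a * f} : Set G) ⊓ centralizer ({u} : Set G)) (M.cmpT V) I → I = D := by
  have hR := h.pr.r1.rt hu hu1
  obtain ⟨K, Mu, hK⟩ := h.iso.ex u hR
  have hau : a * u = u * a := (h.va hu).symm
  have haN : a ∈ normalizer (L : Set G) := (fixes_a h.tr.comp.le).1
  have haK : Fixes a K := by
    have h1 := hK.norm h.h9 hR haN hau
    rw [← Mu.fixes_iff h1]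
    ext y
    rw [Perm.one_apply]
    by_cases hy : y ∈ fixIn S (M.φ u)
    · rw [hK.φ_eq h.h9 hR haN hau hy, phi_a M h.tr, Perm.one_apply]
    · exact Mu.mem_sym a h1 y hy
  have hfK : Fixes f K := h.pr.fixes_K h.h9 hu hu1 hK hf
  have hafK : Fixes (a * f) K := fixes_mul haK hfK
  have hafu : a * f ∈ centralizer ({u} : Set G) := mem_c (by
    rw [mul_assoc, h.pr.r1.comm hf hu, ← mul_assoc, hau, mul_assoc])
  obtain ⟨h1, h2⟩ := isComp_cen hK.comp hafu (h.afaf hf) hafK
  obtain ⟨e, -⟩ := exists_quotEquiv h2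
  refine ⟨cen K (a * f), (Mu.altType_of_card (card_fix_root h.h9 hR)).congr e.symm, fun I hI => ?_⟩
  rw [inf_comm] at hI
  obtain ⟨h3, -⟩ := comp_of_mark hafu (h.afaf hf) (le_inf (h.mark_cu hu) (h.mark_caf hf)) hK.comp
    ((h.mark_le hu hu1).trans hK.le) hI
  exact comp_cen_eq hK.comp hafu (h.afaf hf) hafK h3

/-- a third member of `V` -/
theorem exists_third {f : G} : ∃ u ∈ V, u ≠ 1 ∧ u ≠ f := by
  by_contra hcon
  push Not at hcon
  have h1 : (V : Set G) ⊆ {1, f} := by
    intro u hu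
    by_cases hu1 : u = 1
    · exact Or.inl hu1
    · exact Or.inr (hcon u hu hu1)
  have h2 : Nat.card V ≤ 2 := by
    have h3 := Set.ncard_le_ncard h1 (Set.toFinite _)
    have h4 : ({1, f} : Set G).ncard ≤ 2 := by
      have h5 := Set.ncard_insert_le (1 : G) {f}
      rw [Set.ncard_singleton] at h5
      exact h5
    exact h3.trans h4
  rw [h.pr.r1.natCard] at h2
  omega

/-- the diagonal case does not occur -/
theorem not_diag {f : G} (hf : f ∈ V) (hf1 : f ≠ 1) {K : Subgroup G}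
    (hK : IsComp (centralizer ({a * f} : Set G)) K) (hne : cj a K ≠ K)
    (hd : M.cmp f = diag (centralizer ({a * f} : Set G)) K a) : False := by
  have haX := h.aX hf
  have hNd : M.cmpT V ≤ diag (centralizer ({a * f} : Set G)) K a := hd ▸ h.mark_le hf hf1
  have hKm : IsMark (centralizer ({a * f} : Set G)) (M.cmpT V) K :=
    mark_diag h.mkr hK haX h.aa hne hNd
  obtain ⟨-, -, -, hcd, -⟩ := exists_diag hK haX h.aa hne
  have key : ∀ u ∈ V, u ≠ 1 → cj u K = cj a K := by
    intro u hu hu1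
    have huX := h.uX hf hu
    have hor := eq_or_of_diag hK haX h.aa hne hNd (mark_cj hKm huX (h.mark_cu hu))
    refine hor.resolve_left fun hcj => ?_
    have huK : u ∈ normalizer (K : Set G) := mem_normalizer_iff_cj.mpr hcj
    have huu := h.pr.r1.sq u hu
    have hfK : Fixes u K := by
      refine fixes_of_comm_diag hK haX h.aa hne huX huK ?_ fun m hm => ?_
      · rw [mem_normalizer_iff_cj, ← cj_mul, h.va hu, cj_mul, hcj]
      · have h1 := (h.fixes_cmp hf hf1 hu).2 m (hd ▸ hm)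
        rw [hd, hcd] at h1
        exact h1.2
    obtain ⟨h1, h2⟩ := isComp_cen hK huX huu hfK
    have h3 : IsComp (K ⊓ centralizer ({u} : Set G)) (cen K u) :=
      h1.restrict (inf_le_inf_right _ hK.le) (le_inf (cen_le K u) (cen_le_centralizer K u))
    obtain ⟨h4, h5, h6⟩ := two_marks haX h.aa hne huX huu hK (h.va hu).symm h.mark_ca h3
      (N := M.cmpT V) fun hall => hKm.2 fun n hn =>
        fixes_of_cen hK huX huu hfK (h.mark_caf hf hn) (hall n hn)
    obtain ⟨D, -, hD⟩ := h.mark_eq hu hu1 hf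
    exact h6 ((hD _ h5).trans (hD _ h4).symm)
  obtain ⟨u, hu, hu1, huf⟩ := h.exists_third (f := f)
  have h1 := key u hu hu1
  have h2 := key (f * u) (mul_mem hf hu) (fun e => huf (by
    have := inv_eq_of_mul_eq_one_right e
    rw [← this]
    exact (inv_eq_of_mul_eq_one_right (h.pr.r1.sq f hf))))
  have h3 : cj (a * f) K = K := mem_normalizer_iff_cj.mp (fixes_a hK.le).1
  rw [cj_mul, h1, ← cj_mul, h.va hf, h3] at h2
  exact hne h2.symm

/-- the label of `w ∈ V'#` on `Fix f`, `f ∈ V#` -/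
theorem card_one {f w : G} (hf : f ∈ V) (hf1 : f ≠ 1) (hw : w ∈ V') (hw1 : w ≠ 1) :
    (fixIn (fixIn S (M.φ f)) (M.φ w)).card = 1 := by
  have h2 : fixIn (fixIn S (M.φ f)) (M.φ w) = (S \ T) \ T' := by
    ext y
    rw [mem_fixIn, h.pr.r1.fixIn_eq hf hf1, Finset.mem_sdiff (t := T')]
    exact and_congr_right fun hy => (h.pr.r2.root hw hw1).fix y (Finset.mem_sdiff.mp hy).1
  rw [h2]
  have h3 : T' ⊆ S \ T := fun y hy => Finset.mem_sdiff.mpr ⟨h.pr.r2.sub hy,
    fun hy' => Finset.disjoint_left.mp h.pr.d hy' hy⟩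
  rw [Finset.card_sdiff_of_subset h3, h.card_sdiff, h.pr.r2.card]

/-- the members of `V#` do not fix `K` unless `a` does -/
theorem not_fixes_of {f : G} (hf : f ∈ V) (hf1 : f ≠ 1) {K : Subgroup G}
    (hK : IsComp (centralizer ({a * f} : Set G)) K) (hle : M.cmp f ≤ K) (hna : ¬ Fixes a K) {u : G}
    (hu : u ∈ V) (hu1 : u ≠ 1) : ¬ Fixes u K := by
  intro hfu
  by_cases huf : u = f
  · subst huf
    have h1 := fixes_mul (fixes_a hK.le) hfu
    rw [mul_assoc, h.pr.r1.sq u hu, mul_one] at h1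
    exact hna h1
  have huX := h.uX hf hu
  have huu := h.pr.r1.sq u hu
  have hKm : IsMark (centralizer ({a * f} : Set G)) (M.cmpT V) K :=
    mark_of_le h.mkr hK ((h.mark_le hf hf1).trans hle)
  obtain ⟨h1, h2⟩ := isComp_cen hK huX huu hfu
  obtain ⟨D, hD5, hD⟩ := h.mark_eq hu hu1 hf
  have h3 : cen K u = D := hD _ ⟨h1, fun hall => hKm.2 fun n hn =>
    fixes_of_cen hK huX huu hfu (h.mark_caf hf hn) (hall n hn)⟩
  obtain ⟨e, -⟩ := exists_quotEquiv h2
  have h4 : AltType K 5 := (h3 ▸ hD5 : AltType (cen K u) 5).congr e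
  have hR := h.pr.r1.rt hf hf1
  have h5 : AltType (M.cmp f) 5 := by
    have h6 := M.altType_cmp (le_normalizer hR.mem) hR.sq (by rw [card_fix_root h.h9 hR])
    rwa [card_fix_root h.h9 hR] at h6
  have h6 := cover_of_card hle (h5.card_eq h4)
  refine hna (fixes_of_cover hK (isComp_cmp_root h.h9 hR) h6 (h.aX hf) (fixes_a ?_))
  exact fun y hy => mem_c (h.ca (M.cmp_le f hy))

omit [Finite G] h in
/-- an involution of at most four points has at most two fixed points -/
theorem card_fix_le_two {R : Finset α} (hR : R.card ≤ 4) {σ : Perm α} (hσ : σ * σ = 1)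
    {p : α} (hp : p ∈ R) (hp' : σ p ∈ R) (hne : σ p ≠ p) : (fixIn R σ).card ≤ 2 := by
  have h1 : fixIn R σ ⊆ (R.erase p).erase (σ p) := by
    intro y hy
    obtain ⟨h1, h2⟩ := mem_fixIn.mp hy
    rw [Finset.mem_erase, Finset.mem_erase]
    refine ⟨?_, ?_, h1⟩
    · rintro rfl
      rw [← Perm.mul_apply, hσ, Perm.one_apply] at h2
      exact hne h2.symm
    · rintro rfl
      exact hne h2
  have h2 := Finset.card_le_card h1
  rw [Finset.card_erase_of_mem (Finset.mem_erase.mpr ⟨hne, hp'⟩), Finset.card_erase_of_mem hp] at h2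
  omega

/-- **(1.3)** -/
theorem exists_af (hW : ∀ (x a : G) (L : Subgroup G), IsTriple x a L → IsL2 (Bar L) ∨ IsAlt 7 (Bar L) ∨
    IsAlt 9 (Bar L)) {f : G} (hf : f ∈ V) (hf1 : f ≠ 1) : ∃ K : Subgroup G,
    IsComp (centralizer ({a * f} : Set G)) K ∧ M.cmp f ≤ K ∧ (∀ u ∈ V, u ∈ normalizer (K : Set G)) ∧
    ∀ v ∈ V, v ≠ 1 → ∀ w ∈ V', w ≠ 1 → ∀ E, ¬ IsComp (K ⊓ centralizer ({v * w} : Set G)) E := by
  have hR := h.pr.r1.rt hf hf1
  have hfN := le_normalizer (H := L) hR.mem
  have h5 := card_fix_root h.h9 hR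
  obtain ⟨x', K, T', hor⟩ := pump_af M h.tr (by rw [h.h9]) hR
  rcases hor with ⟨haK, hle⟩ | ⟨hne, hd⟩
  swap
  · exact (h.not_diag hf hf1 T'.comp hne hd).elim
  have hK := T'.comp
  have hC := isComp_cmp_af M h.tr (by rw [h.h9]) hR
  have hE : IsComp (K ⊓ centralizer ({a} : Set G)) (M.cmp f) :=
    hC.restrict (inf_le_inf_right _ hK.le) (le_inf hle (hC.le.trans inf_le_right))
  have hVN : ∀ u ∈ V, u ∈ normalizer (K : Set G) := fun u hu =>
    mem_normalizer_of_le hK hC hle (h.uX hf hu) (h.fixes_cmp hf hf1 hu).1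
  have hV'K : V' ≤ K := (h.pr.le_cmp hf hf1).trans hle
  obtain ⟨ME, hME⟩ := M.exists_cmp_five hfN hR.sq (by omega) (by omega)
  refine ⟨K, hK, hle, hVN, fun v hv hv1 w hw hw1 E hE' => ?_⟩
  have hvK := hVN v hv
  have hwK := le_normalizer (hV'K hw)
  have hzK : v * w ∈ normalizer (K : Set G) := mul_mem hvK hwK
  have hzz : (v * w) * (v * w) = 1 := sq_mul (h.pr.r1.sq v hv) (h.pr.r2.sq w hw) (h.pr.c v hv w hw).symm
  by_cases hfa : Fixes a K
  · -- `C_L(f)^∞` covers `K`
    have hcov : M.cmp f ⊔ core K = K := by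
      have h1 := comp_cen_eq hK (h.aX hf) h.aa hfa hE
      rw [h1]
      exact (isComp_cen hK (h.aX hf) h.aa hfa).2
    obtain ⟨MK, hMK⟩ := ME.exists_extend_five (by omega) (by omega) hcov
    have hvf : Fixes v K := fixes_of_cover hK hC hcov (h.uX hf hv) (h.fixes_cmp hf hf1 hv)
    have h1 := ((MK.isComp_iff_cmp hzK hzz).mp hE').2
    have hwc := h.pr.le_cmp hf hf1 hw
    rw [MK.mul _ _ hvK hwK, (MK.fixes_iff hvK).mpr hvf, one_mul, hMK w hwc, hME w hwc,
      h.card_one hf hf1 hw hw1] at h1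
    omega
  · have hnf := fun u (hu : u ∈ V) (hu1 : u ≠ 1) => h.not_fixes_of hf hf1 hK hle hfa hu hu1
    -- alternating types
    have halt : ∀ m, 7 ≤ m → m ≤ 9 → AltType K m → False := by
      intro m hm7 hm9 hAT
      obtain ⟨S', hS1, hS2, hS'⟩ := Finset.exists_subsuperset_card_eq (n := m) (fixIn_subset S (M.φ f))
        (by omega) (by rw [h.h9]; omega)
      obtain ⟨M₀⟩ := hAT.mod_of_card hS' hm7
      obtain ⟨e1, e2⟩ := (M₀.isComp_iff_cmp haK h.aa).mp hE
      obtain ⟨M1, hM1⟩ : ∃ M1 : Mod (M₀.cmp a) (fixIn S (M.φ f)), ∀ y ∈ M₀.cmp a, M1.φ y = M.φ y := by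
        rw [← e1]; exact ⟨ME, hME⟩
      have e3 := CaseD.card_fixIn M₀ haK h.aa e2 M1
      obtain ⟨MK, hMK⟩ := M₀.exists_relabel_cmp_five haK h.aa (by omega) (by omega) M1
        (S' := S') hS1 rfl
      have hMK' : ∀ y ∈ M.cmp f, MK.φ y = M.φ y := by
        intro y hy
        rw [e1] at hy
        rw [hMK y hy, hM1 y hy]
      obtain ⟨f1, f2⟩ := (MK.isComp_iff_cmp haK h.aa).mp hE
      have hfix : fixIn S' (MK.φ a) = fixIn S (M.φ f) := by
        apply Finset.Subset.antisymm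
        · refine subset_of_alt_le (by omega) fun σ hσ => ?_
          obtain ⟨k, hk, rfl⟩ := MK.cmp_lift haK h.aa f2 hσ
          rw [← f1] at hk
          rw [hMK' k hk]
          exact M.cmp_mem_alt hk
        · refine subset_of_alt_le (by omega) fun σ hσ => ?_
          obtain ⟨k, hk, rfl⟩ := M.cmp_lift hfN hR.sq (by omega) hσ
          rw [← hMK' k hk]
          rw [f1] at hk
          exact MK.cmp_mem_alt hk
      have hvF : ∀ p ∈ fixIn S (M.φ f), MK.φ v p = p := fun p hp =>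
        MK.apply_of_fixes_cmp haK h.aa f2 hvK (by rw [← f1]; exact h.fixes_cmp hf hf1 hv) (by rwa [hfix])
      have hφz : MK.φ (v * w) = MK.φ v * M.φ w := by
        rw [MK.mul _ _ hvK hwK, hMK' w (h.pr.le_cmp hf hf1 hw)]
      have hwa : M.φ w ∈ alt (fixIn S (M.φ f)) := M.cmp_mem_alt (h.pr.le_cmp hf hf1 hw)
      have h1 := ((MK.isComp_iff_cmp hzK hzz).mp hE').2
      have h2 : fixIn S' (MK.φ (v * w)) ⊆ fixIn (fixIn S (M.φ f)) (M.φ w) ∪
          fixIn (S' \ fixIn S (M.φ f)) (MK.φ v) := by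
        intro p hp
        obtain ⟨hp1, hp2⟩ := mem_fixIn.mp hp
        rw [hφz, Perm.mul_apply] at hp2
        rw [Finset.mem_union]
        by_cases hpF : p ∈ fixIn S (M.φ f)
        · left
          rw [hvF _ (mem_of_mem_sym (alt_le_sym _ hwa) hpF)] at hp2
          exact mem_fixIn.mpr ⟨hpF, hp2⟩
        · right
          rw [hwa.2 p hpF] at hp2
          exact mem_fixIn.mpr ⟨Finset.mem_sdiff.mpr ⟨hp1, hpF⟩, hp2⟩
      have h3 : (fixIn (S' \ fixIn S (M.φ f)) (MK.φ v)).card ≤ 2 := by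
        have h4 : MK.φ v ≠ 1 := fun e => hnf v hv hv1 ((MK.fixes_iff hvK).mp e)
        obtain ⟨p, hp⟩ : ∃ p, MK.φ v p ≠ p := by
          by_contra hcon
          push Not at hcon
          exact h4 (Equiv.ext hcon)
        have hvv : MK.φ v * MK.φ v = 1 := MK.sq hvK (h.pr.r1.sq v hv)
        have hmem : ∀ q, MK.φ v q ≠ q → q ∈ S' \ fixIn S (M.φ f) := by
          intro q hq
          rw [Finset.mem_sdiff]
          refine ⟨?_, fun hqF => hq (hvF q hqF)⟩
          by_contra hqS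
          exact hq (MK.mem_sym v hvK q hqS)
        refine card_fix_le_two ?_ hvv (hmem p hp) (hmem _ ?_) hp
        · rw [Finset.card_sdiff_of_subset hS1, hS', h5]
          omega
        · intro e
          exact hp ((MK.φ v).injective e)
      have h4 := Finset.card_le_card h2
      have h6 := Finset.card_union_le (fixIn (fixIn S (M.φ f)) (M.φ w))
        (fixIn (S' \ fixIn S (M.φ f)) (MK.φ v))
      rw [h.card_one hf hf1 hw hw1] at h6
      omega
    rcases hW x' (a * f) K T' with hL | h7 | h9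
    · -- type `L2`
      obtain ⟨u, hu, hu1, huf⟩ := h.exists_third (f := f)
      have hfu : f * u ∈ V := mul_mem hf hu
      have hfu1 : f * u ≠ 1 := fun e => huf (by
        have := inv_eq_of_mul_eq_one_right e
        rw [← this]
        exact (inv_eq_of_mul_eq_one_right (h.pr.r1.sq f hf)))
      have key : ∀ u ∈ V, u ≠ 1 → Fixes (u * a) K := fun u hu hu1 =>
        (LTwo.l2_fixes_or hK hL h.aa (h.pr.r1.sq u hu) (h.va hu).symm (h.aX hf) (h.uX hf hu) haK
          (hVN u hu) hE (h.fixes_cmp hf hf1 hu)).resolve_left (hnf u hu hu1)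
      have h1 := fixes_mul (key _ hfu hfu1) (key u hu hu1)
      have h2 : f * u * a * (u * a) = f := by
        calc f * u * a * (u * a) = f * (u * (a * u)) * a := by group
          _ = f * (u * (u * a)) * a := by rw [h.va hu]
          _ = f * (u * u) * (a * a) := by group
          _ = f := by rw [h.pr.r1.sq u hu, h.aa, mul_one, mul_one]
      rw [h2] at h1
      exact hnf f hf hf1 h1
    · exact halt 7 le_rfl (by norm_num) h7
    · exact halt 9 (by norm_num) le_rfl h9

end Ctx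

end Cfsg.Agent.UGT.A9
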