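import Cfsg.Agent.UGT.A9.Seven1

/-!
# NodeA9, section 2: (2.1), (2.2), continued
-/

set_option autoImplicit false
set_option linter.unusedSectionVars false

open Cfsg Subgroup Equiv Equiv.Perm
open Cfsg.Agent.SignalizersComponents Cfsg.Agent.Lib
open Cfsg.Agent.SignalizersComponents.IntrinsicBasic
open Cfsg.Agent.Intrinsic Cfsg.Agent.Intrinsic.Basic Cfsg.Agent.Intrinsic.Cen Cfsg.Agent.Intrinsic.Diag
open Cfsg.Agent.UAlt
open Cfsg.Agent.UGT.Triple Cfsg.Agent.UGT.Iface Cfsg.Agent.UGT.TriBase Cfsg.Agent.UGT.Nodes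
open scoped commutatorElement

namespace Cfsg.Agent.UGT.A9.Seven

universe u

/-- the types of triples in N4 -/
def W9 (G : Type u) [Group G] : Prop :=
  Types G (fun _ L => IsL2 (Bar L) ∨ IsAlt 7 (Bar L) ∨ IsAlt 9 (Bar L))

variable {G : Type u} [Group G] [Finite G] {α : Type*} [Fintype α] [DecidableEq α]
  {L : Subgroup G} {S : Finset α} {x a r : G} {M : Mod L S} {K : Subgroup G}

/-- a 2-component `F` of `C(r) ∩ C(j)` of type `A₇` does not lie in the 2-component `N ∋ r` of a triple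
`(x, j, N)` -/
theorem no_seven' (hW : W9 G) (h3 : F3 G) {x j t : G} {N F : Subgroup G} (T : IsTriple x j N)
    (htN : t ∈ N) (htt : t * t = 1) (ht1 : t ≠ 1)
    (hF : IsComp (N ⊓ centralizer ({t} : Set G)) F) (hF7 : AltType F 7) : False := by
  have htj : t ∈ centralizer ({j} : Set G) := T.comp.le htN
  rcases hW x j N T with h | h | h
  · obtain ⟨h4, h5⟩ := h3 j N T.inva T.comp h
    by_cases hf : Fixes t N
    · obtain ⟨h6, h7⟩ := isComp_cen T.comp htj htt hf
      have h8 := Marker.comp_cen_eq T.comp htj htt hf hF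
      rw [← h8] at h7
      exact h4 7 le_rfl (altType_of_cover h7 hF7)
    · exact h5 t F htt htj (le_normalizer htN) hf hF 7 le_rfl hF7
  · exact no_seven T.comp (Or.inl rfl) h htN htt ht1 hF hF7
  · exact no_seven T.comp (Or.inr rfl) h htN htt ht1 hF hF7

/-- an element fixing `L` fixes `C_L(r)^∞` -/
theorem Dat.fixes_cmp (D : Dat x a M r K) {q : G} (hqa : q * a = a * q) (hqr : q * r = r * q)
    (hq : Fixes q L) : Fixes q (M.cmp r) := by
  refine M.fixes_cmp D.tri.comp (le_normalizer D.rt.mem) D.rt.sq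
    (by rw [card_fix_root D.card D.rt]) (mem_c hqa) hq.1 (mem_c hqr) fun p _ => ?_
  rw [(M.fixes_iff hq.1).mpr hq, one_apply]

/-- **(2.1)**, the involution `j` -/
theorem Dat.no_j (D : Dat x a M r K) (hW : W9 G) (h3 : F3 G) {j : G} (hj : orderOf j = 2)
    (hja : j * a = a * j) (hjx : j * x = x * j) (hjr : j * r = r * j) (hjL : Fixes j L)
    (hjK : Fixes j K) : False := by
  obtain ⟨N, TN, hor⟩ := D.tri.pump hj hja hjx hjL
  have hjj := sq_of_order hj
  have hrr := D.rt.sq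
  have hr1 : r ≠ 1 := D.rt.root.ne_one
  have haa := D.aa
  obtain ⟨hF, hFs⟩ := isComp_cen D.comp (mem_c hjr) hjj hjK
  have hF7 : AltType (cen K j) 7 := altType_cover hFs D.seven
  have hf : Fixes j (M.cmp r) := D.fixes_cmp hja hjr hjL
  obtain ⟨hN', -⟩ := isComp_cen D.isComp_cmp ⟨mem_c hja, mem_c hjr⟩ hjj hf
  have hmk : Marker.Mkr (cen (M.cmp r) j) := Marker.Mkr.of_comp hN'
  have hle1 : cen (M.cmp r) j ≤ cen K j := PComponents.pElem_mono (inf_le_inf_right _ D.le)
  have hle2 : cen (M.cmp r) j ≤ cen L j := PComponents.pElem_mono (inf_le_inf_right _ (M.cmp_le r))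
  have hrL : r ∈ cen L j := mem_cen_of_sq D.rt.mem hjr.symm hrr
  have hF' : IsComp (centralizer ({j} : Set G) ⊓ centralizer ({r} : Set G)) (cen K j) := by
    rw [inf_comm]; exact hF
  have hrj : r ∈ centralizer ({j} : Set G) := mem_c hjr.symm
  rcases hor with ⟨haN, hLN⟩ | ⟨hne, hLN⟩
  · have hrN : r ∈ N := hLN hrL
    obtain ⟨J, hJ, hFJ⟩ := exists_comp_ge hrj hrr
      (fun J hJ => mem_normalizer_of_comp hJ TN.comp hrN) hF'
    have hJN : J = N := Marker.eq_of_le TN.comp (hle2.trans hLN)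
      (Marker.mark_of_le hmk hJ (hle1.trans hFJ))
    subst hJN
    refine no_seven' hW h3 TN hrN hrr hr1 ?_ hF7
    exact hF'.restrict (inf_le_inf_right _ hJ.le) (le_inf hFJ (hF.le.trans inf_le_left))
  · have haj : a ∈ centralizer ({j} : Set G) := mem_c hja.symm
    have hn : ∀ J, IsComp (centralizer ({j} : Set G)) J → r ∈ normalizer (J : Set G) := by
      intro J hJ
      obtain ⟨-, h5, -⟩ := exists_diag TN.comp haj haa hne
      rw [hLN] at hrL
      obtain ⟨k, hk, hkr⟩ := h5 r hrL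
      have e : r = k * (a * k * a⁻¹) * (r⁻¹ * (k * (a * k * a⁻¹)))⁻¹ := by group
      rw [e]
      refine mul_mem (mul_mem ?_ ?_) (inv_mem ?_)
      · exact mem_normalizer_of_comp hJ TN.comp hk
      · exact mem_normalizer_of_comp hJ (isComp_cj_of_mem TN.comp haj) (conj_mem_cj hk)
      · exact hJ.core_le_normalizer hkr
    obtain ⟨J, hJ, hFJ⟩ := exists_comp_ge hrj hrr hn hF'
    have haF : cj a (cen K j) = cen K j :=
      mem_normalizer_iff_cj.mp (mem_normalizer_cen D.aK hja.symm)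
    have hJa : cj a J = J := by
      refine hF'.unique (isComp_cj_of_mem hJ haj) hJ ?_ hFJ
      rw [← haF]
      exact cj_mono hFJ
    rcases Marker.eq_or_of_diag TN.comp haj haa hne (hle2.trans hLN.le)
      (Marker.mark_of_le hmk hJ (hle1.trans hFJ)) with h | h
    · rw [h] at hJa
      exact hne hJa
    · rw [h] at hJa
      exact hne (cj_injective a hJa)

/-- **(2.1)** the 2-elements of `C(a)` fixing `L` are `1` and `a` -/
theorem fix_two (hW : W9 G) (h3 : F3 G) (T : IsTriple x a L) (h : Seven9 M) {q : G}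
    (hqa : q * a = a * q) {n : ℕ} (hqn : q ^ 2 ^ n = 1) (hq : Fixes q L) : q = 1 ∨ q = a := by
  by_contra hcon
  push Not at hcon
  obtain ⟨hq1, hqne⟩ := hcon
  have haa := sq_of_order T.inva
  have hxx := sq_of_order T.invx
  obtain ⟨T', V, hV, -, hc⟩ := M.exists_good T (by rw [h.card]; norm_num)
  obtain ⟨r, hr, hr1⟩ := hV.exists_ne
  have hR := hV.rt hr hr1
  have hrx : r * x = x * r := hc r hr x (mem_zpowers x)
  obtain ⟨K, hK, hle, h7⟩ := h.ex r hR
  have D : Dat x a M r K := ⟨T, h.card, hR, hK, hle, h7⟩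
  obtain ⟨MK⟩ := h7.mod_of_card (S := (Finset.univ : Finset (Fin 7))) (by simp) le_rfl
  have hc7 : (Finset.univ : Finset (Fin 7)).card = 7 := by simp
  -- the group `C_{C(a)}(L/O(L))`
  obtain ⟨F, hF⟩ : ∃ F : Subgroup G, F = fix (centralizer ({a} : Set G)) L := ⟨_, rfl⟩
  have hFn : ∀ g, g ∈ centralizer ({a} : Set G) → g ∈ normalizer (L : Set G) →
      g ∈ normalizer (F : Set G) := by
    intro g hg hgL
    rw [mem_normalizer_iff_cj, hF, cj_fix, mem_normalizer_iff_cj.mp hgL,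
      mem_normalizer_iff_cj.mp (le_normalizer hg)]
  have hra := D.ra
  have hxa : x * a = a * x := T.comm.symm
  have hFY : IsPGroup 2 ↥(zpowers x ⊔ zpowers r) := by
    refine Tri.isPGroup_sup_zpowers (n := 1) ?_ ?_ (by rw [pow_one, pow_two]; exact hR.sq)
    · refine IsPGroup.of_card (n := 1) ?_
      rw [Nat.card_zpowers, T.invx, pow_one]
    · rw [mem_normalizer_iff]
      intro y
      constructor
      · intro hy
        obtain ⟨k, rfl⟩ := mem_zpowers_iff.mp hy
        have : r * x ^ k * r⁻¹ = x ^ k := by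
          have h5 : Commute r (x ^ k) := (show Commute r x from hrx).zpow_right k
          rw [h5.eq, mul_inv_cancel_right]
        rw [this]
        exact hy
      · intro hy
        obtain ⟨k, hk⟩ := mem_zpowers_iff.mp hy
        have h5 : Commute r (x ^ k) := (show Commute r x from hrx).zpow_right k
        have : y = x ^ k := by
          calc y = r⁻¹ * (r * y * r⁻¹) * r := by group
            _ = r⁻¹ * (x ^ k * r) := by rw [← hk]; group
            _ = x ^ k := by rw [← h5.eq]; group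
        rw [this]
        exact zpow_mem (mem_zpowers x) k
  obtain ⟨Y, hY⟩ : ∃ Y : Subgroup G, Y = centralizer ({a} : Set G) ⊓ normalizer (L : Set G) := ⟨_, rfl⟩
  have hxY : x ∈ Y := hY ▸ ⟨mem_c hxa, T.x_mem⟩
  have hrY : r ∈ Y := hY ▸ ⟨mem_c hra, le_normalizer hR.mem⟩
  have hFYle : F ≤ Y := by
    rw [hF, hY]
    exact fun y hy => ⟨hy.1, hy.2.1⟩
  obtain ⟨R, hR1, hR2⟩ := exists_isSyl hFY (show zpowers x ⊔ zpowers r ≤ Y from
    sup_le (by rw [zpowers_le]; exact hxY) (by rw [zpowers_le]; exact hrY))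
  have hxR : x ∈ R := hR2 (mem_sup_left (mem_zpowers x))
  have hrR : r ∈ R := hR2 (mem_sup_right (mem_zpowers r))
  have hYF : Y ≤ normalizer (F : Set G) := by
    intro g hg
    rw [hY] at hg
    exact hFn g hg.1 hg.2
  have hQ : IsSyl F (R ⊓ F) := hR1.inf hFYle hYF
  have hRY := hR1.le
  -- members of `R ∩ F`
  have hmem : ∀ y, y ∈ R ⊓ F ↔ y ∈ R ∧ y * a = a * y ∧ Fixes y L := by
    intro y
    rw [mem_inf, hF, mem_fix]
    constructor
    · rintro ⟨h5, h6, h7⟩
      exact ⟨h5, comm_c h6, h7⟩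
    · rintro ⟨h5, h6, h7⟩
      exact ⟨h5, mem_c h6, h7⟩
  -- they commute with `r`
  have hcr : ∀ y ∈ R ⊓ F, y * r = r * y := by
    intro y hy
    obtain ⟨h5, h6, h7⟩ := (hmem y).mp hy
    have h8 : ⁅y, r⁆ ∈ core L := h7.2 r hR.mem
    have h9 : ⁅y, r⁆ ∈ R := by
      rw [commutatorElement_def]
      exact mul_mem (mul_mem (mul_mem h5 hrR) (inv_mem h5)) (inv_mem hrR)
    obtain ⟨k, hk⟩ := hR1.two ⟨_, h9⟩
    have h10 : ⁅y, r⁆ ^ 2 ^ k = 1 := congrArg Subtype.val hk
    exact commutatorElement_eq_one_iff_mul_comm.mp (eq_one_of_mem_core h8 h10)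
  -- `Q₀`
  obtain ⟨Q₀, hQ₀⟩ : ∃ Q₀ : Subgroup G, Q₀ = fix (R ⊓ F) K := ⟨_, rfl⟩
  have hdich : ∀ y ∈ R ⊓ F, Fixes y K ∨ Fixes (a * y) K := by
    intro y hy
    obtain ⟨h5, h6, h7⟩ := (hmem y).mp hy
    have hyK := D.norm h7.1 (hcr y hy)
    rcases D.eq_or MK hc7 h6 (hcr y hy) h7 with h8 | h8
    · exact Or.inl ((MK.fixes_iff hyK).mp h8)
    · right
      rw [← MK.fixes_iff (mul_mem D.aK hyK), MK.mul _ _ D.aK hyK, h8, MK.sq D.aK haa]
  have haQ : a ∈ R ⊓ F := by
    rw [hmem]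
    refine ⟨?_, rfl, D.aL⟩
    -- `a` is central in `Y`
    have h5 : IsPGroup 2 ↥(R ⊔ zpowers a) := by
      refine Tri.isPGroup_sup_zpowers (n := 1) hR1.two ?_ (by rw [pow_one, pow_two]; exact haa)
      have h6 : ∀ y ∈ R, a * y * a⁻¹ = y := by
        intro y hy
        have := hRY hy
        rw [hY] at this
        rw [← comm_c this.1, mul_inv_cancel_right]
      rw [mem_normalizer_iff_cj]
      ext y
      rw [mem_cj]
      constructor
      · intro hy
        have h7 := h6 _ hy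
        have h8 : a * (a⁻¹ * y * a) * a⁻¹ = y := by group
        rw [h8] at h7
        rw [h7]; exact hy
      · intro hy
        have h7 := h6 _ hy
        have h8 : a⁻¹ * y * a = y := by
          calc a⁻¹ * y * a = a⁻¹ * (a * y * a⁻¹) * a := by rw [h7]
            _ = y := by group
        rw [h8]; exact hy
    have h6 := hR1.max _ h5 (sup_le hRY (by
      rw [zpowers_le, hY]; exact ⟨mem_c rfl, D.aL.1⟩)) le_sup_left
    rw [← h6]
    exact mem_sup_right (mem_zpowers a)
  have hanK : ¬ Fixes a K := by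
    intro h5
    have h6 := (MK.fixes_iff D.aK).mpr h5
    have h8 := D.card_fix MK
    rw [h6] at h8
    have h9 : fixIn (Finset.univ : Finset (Fin 7)) (1 : Perm (Fin 7)) = Finset.univ := by
      ext p; simp [mem_fixIn]
    rw [h9] at h8
    simp at h8
  have hQne : Q₀ ≠ ⊥ := by
    intro hbot
    -- then `R ∩ F = {1, a}`
    have h5 : ∀ y ∈ R ⊓ F, y = 1 ∨ y = a := by
      intro y hy
      rcases hdich y hy with h6 | h6
      · left
        have h8 : y ∈ Q₀ := by rw [hQ₀]; exact ⟨hy, h6⟩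
        rwa [hbot, mem_bot] at h8
      · right
        have h8 : a * y ∈ Q₀ := by rw [hQ₀]; exact ⟨mul_mem haQ hy, h6⟩
        rw [hbot, mem_bot] at h8
        have h9 := eq_inv_of_mul_eq_one_right h8
        rw [h9, inv_eq_of_mul_eq_one_left haa]
    have hqp : IsPGroup 2 ↥(zpowers q) := by
      rintro ⟨y, hy⟩
      obtain ⟨k, rfl⟩ := mem_zpowers_iff.mp hy
      refine ⟨n, Subtype.ext ?_⟩
      change (q ^ k) ^ 2 ^ n = 1
      rw [← zpow_natCast, ← zpow_mul, mul_comm, zpow_mul, zpow_natCast, hqn, one_zpow]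
    have hqF : q ∈ F := by rw [hF]; exact ⟨mem_c hqa, hq⟩
    obtain ⟨g, hg, hle'⟩ := hQ.conj hqp (by rw [zpowers_le]; exact hqF)
    have h8 : g⁻¹ * q * g ∈ R ⊓ F := mem_cj.mp (hle' (mem_zpowers q))
    rw [hF] at hg
    have hga : g * a = a * g := comm_c hg.1
    rcases h5 _ h8 with h9 | h9
    · apply hq1
      calc q = g * (g⁻¹ * q * g) * g⁻¹ := by group
        _ = 1 := by rw [h9]; group
    · apply hqne
      calc q = g * (g⁻¹ * q * g) * g⁻¹ := by group
        _ = a := by rw [h9, hga, mul_inv_cancel_right]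
  have hxK : x ∈ normalizer (K : Set G) := D.norm T.x_mem hrx.symm
  have hxQ : x ∈ normalizer (Q₀ : Set G) := by
    rw [mem_normalizer_iff_cj, hQ₀, cj_fix, mem_normalizer_iff_cj.mp hxK, cj_inf,
      mem_normalizer_iff_cj.mp (hFn x (mem_c hxa) T.x_mem), mem_normalizer_iff_cj.mp (le_normalizer hxR)]
  have hQ2 : IsPGroup 2 ↥Q₀ := hR1.two.to_le (by rw [hQ₀]; exact (fix_le _ _).trans inf_le_left)
  have h5 := Tri.isPGroup_sup_zpowers (n := 1) hQ2 hxQ (by rw [pow_one, pow_two]; exact hxx)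
  obtain ⟨j, hjQ, hj2, hjc⟩ := exists_central h5 (le_sup_left : Q₀ ≤ Q₀ ⊔ zpowers x)
    (sup_le le_normalizer (by rw [zpowers_le]; exact hxQ)) hQne
  have hjx := hjc x (mem_sup_right (mem_zpowers x))
  rw [hQ₀, mem_fix] at hjQ
  obtain ⟨h6, h7', h8⟩ := (hmem j).mp hjQ.1
  exact D.no_j hW h3 hj2 h7' hjx.symm (hcr j hjQ.1) h8 hjQ.2

/-- `a ∉ L` -/
theorem a_notMem (T : IsTriple x a L) (M : Mod L S) : a ∉ L := by
  intro h
  have haL : Fixes a L := fixes_self' T.comp.le
  have h1 := (M.core_iff a h).mp ((M.fixes_iff haL.1).mpr haL)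
  exact ne_one_of_order T.inva (eq_one_of_mem_core_sq h1 (sq_of_order T.inva))

/-- **(2.2)** `L` is normal in `C(a)` -/
theorem cj_L (hW : W9 G) (h3 : F3 G) (T : IsTriple x a L) (h : Seven9 M) {g : G}
    (hga : g * a = a * g) : cj g L = L := by
  by_contra hne
  have hL' : IsComp (centralizer ({a} : Set G)) (cj g L) := isComp_cj_of_mem T.comp (mem_c hga)
  obtain ⟨t, ht, hto⟩ : ∃ t ∈ cj g L, orderOf t = 2 := by
    have h2 : Fact (Nat.Prime 2) := ⟨Nat.prime_two⟩
    obtain ⟨t, ht⟩ := exists_prime_orderOf_dvd_card' 2 hL'.even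
    exact ⟨t, t.2, by rwa [Subgroup.orderOf_coe]⟩
  have htf : Fixes t L := T.comp.fixes_of_mem hL' (Ne.symm hne) ht
  have htt := sq_of_order hto
  rcases fix_two hW h3 T h (comm_c (hL'.le ht)) (n := 1) (by rw [pow_one, pow_two, htt]) htf with h1 | h1
  · exact ne_one_of_order hto h1
  · rw [h1, mem_cj] at ht
    apply a_notMem T M
    have : g⁻¹ * a * g = a := by rw [mul_assoc, ← hga, inv_mul_cancel_left]
    rwa [this] at ht

end Cfsg.Agent.UGT.A9.Seven
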