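import Cfsg.Agent.UAlt.CoreAct
import Cfsg.Agent.UAlt.Root
import Cfsg.Agent.UAlt.ModFive

/-!
# (TF) for `A7` and `A9`

* `exists_five` : `B ≤ Sym(S)` elementary abelian of order 8, `|S| = 7, 9`, some `e ∈ B` has exactly three fixed
  points : some `b ∈ B`, `b ≠ 1`, has at least five fixed points;
* `alt_exists_comp` : the group form;
* `alt_false` : (TF).
-/

set_option autoImplicit false

open Cfsg Equiv Equiv.Perm Subgroup
open Cfsg.Agent.Intrinsic.Basic Cfsg.Agent.Intrinsic.Cen
open Cfsg.Agent.SignalizersComponents Cfsg.Agent.Lib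
open Cfsg.Agent.SignalizersComponents.IntrinsicBasic
open Cfsg.Agent.UGT.Triple
open Cfsg.Agent.UAlt
open scoped commutatorElement

namespace Cfsg.Agent.UGT.A9.TFAlt

section perm

variable {α : Type*} [Fintype α] [DecidableEq α] {S : Finset α}

/-- the number of fixed points of an involution has the parity of `|S|` -/
theorem card_fixIn_mod {σ : Perm α} (hσ : σ ∈ sym S) (h : σ * σ = 1) :
    (fixIn S σ).card % 2 = S.card % 2 := by
  have h1 : 2 ∣ σ.support.card := Equiv.Perm.two_dvd_card_support (by rw [pow_two, h])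
  have h2 : S \ fixIn S σ = σ.support := by
    ext x
    rw [Finset.mem_sdiff, mem_fixIn, Perm.mem_support]
    constructor
    · rintro ⟨hx, hn⟩ he
      exact hn ⟨hx, he⟩
    · intro he
      refine ⟨?_, fun hx => he hx.2⟩
      by_contra hx
      exact he (hσ x hx)
  have h3 := Finset.card_sdiff_of_subset (fixIn_subset S σ)
  have h4 := Finset.card_le_card (fixIn_subset S σ)
  rw [h2] at h3
  omega

variable {B : Subgroup (Perm α)}

/-- the action of `B ≤ Sym(S)` on `S` -/
@[reducible] def actS (hB : B ≤ sym S) : MulAction B S where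
  smul b x := ⟨b.1 x.1, mem_of_mem_sym (hB b.2) x.2⟩
  one_smul _ := rfl
  mul_smul _ _ _ := rfl

/-- **(TF)**, permutations -/
theorem exists_five (hS : S.card = 7 ∨ S.card = 9) (hB : B ≤ sym S) (h2 : ∀ b ∈ B, b * b = 1)
    (h8 : Nat.card B = 8) {e : Perm α} (he : e ∈ B) (h3 : (fixIn S e).card = 3) :
    ∃ b ∈ B, b ≠ 1 ∧ 5 ≤ (fixIn S b).card := by
  classical
  by_contra hcon
  push Not at hcon
  have hodd : S.card % 2 = 1 := by omega
  have hle : ∀ b ∈ B, b ≠ 1 → (fixIn S b).card ≤ 3 := by
    intro b hb hb1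
    have h4 := hcon b hb hb1
    have h5 := card_fixIn_mod (hB hb) (h2 b hb)
    omega
  have hcomm : ∀ a ∈ B, ∀ b ∈ B, a * b = b * a := fun a ha b hb => comm_of_sq h2 ha hb
  let _ := actS hB
  have hsm : ∀ (b : B) (x : S), ((b • x : S) : α) = b.1 x.1 := fun b x => rfl
  let _ : Fintype B := Fintype.ofFinite B
  have hcard : Fintype.card B = 8 := by rw [← Nat.card_eq_fintype_card, h8]
  -- the stabilizers
  have hst : ∀ x : S, 4 ≤ Nat.card (MulAction.stabilizer B x) := by
    intro x
    have ho : Nat.card (MulAction.orbit B x) * Nat.card (MulAction.stabilizer B x) = 8 := by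
      rw [Nat.card_congr (MulAction.orbitEquivQuotientStabilizer B x), ← h8]
      exact (Subgroup.card_eq_card_quotient_mul_card_subgroup _).symm
    by_contra hlt
    push Not at hlt
    have hdvd : Nat.card (MulAction.stabilizer B x) ∣ 8 := Dvd.intro_left _ ho
    have hcases : Nat.card (MulAction.stabilizer B x) = 1 ∨ Nat.card (MulAction.stabilizer B x) = 2 := by
      obtain ⟨k, hk⟩ : ∃ k, k = Nat.card (MulAction.stabilizer B x) := ⟨_, rfl⟩
      rw [← hk] at hdvd hlt ⊢
      have hpos : 0 < k := Nat.pos_of_dvd_of_pos hdvd (by norm_num)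
      interval_cases k
      · exact Or.inl rfl
      · exact Or.inr rfl
      · norm_num at hdvd
    -- the orbit as a subset of `S`
    obtain ⟨O, hO⟩ : ∃ O : Finset α, O = (Finset.univ.filter fun y : S => y ∈ MulAction.orbit B x).map
      (Function.Embedding.subtype _) := ⟨_, rfl⟩
    have hOc : O.card = Nat.card (MulAction.orbit B x) := by
      rw [hO, Finset.card_map, Nat.card_eq_fintype_card, ← Set.toFinset_card]
      congr 1
      ext y
      simp
    have hOS : O ⊆ S := by
      intro y hy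
      rw [hO, Finset.mem_map] at hy
      obtain ⟨z, -, rfl⟩ := hy
      exact z.2
    have hOm : ∀ y ∈ O, ∃ b : B, y = b.1 x.1 := by
      intro y hy
      rw [hO, Finset.mem_map] at hy
      obtain ⟨z, hz, rfl⟩ := hy
      rw [Finset.mem_filter] at hz
      obtain ⟨b, hb⟩ := hz.2
      exact ⟨b, by rw [← hb]; rfl⟩
    rcases hcases with h1 | h1
    · -- regular orbit
      rw [h1, mul_one] at ho
      have hOe : O ⊆ S \ fixIn S e := by
        intro y hy
        rw [Finset.mem_sdiff, mem_fixIn]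
        refine ⟨hOS hy, fun hfix => ?_⟩
        obtain ⟨b, rfl⟩ := hOm y hy
        have h5 : e (b.1 x.1) = b.1 (e x.1) := by
          rw [← Perm.mul_apply, ← Perm.mul_apply, hcomm e he b.1 b.2]
        rw [h5] at hfix
        have h6 : e x.1 = x.1 := b.1.injective hfix.2
        have h7 : (⟨e, he⟩ : B) ∈ MulAction.stabilizer B x := by
          rw [MulAction.mem_stabilizer_iff]
          exact Subtype.ext h6
        have h8' : MulAction.stabilizer B x = ⊥ := (Subgroup.card_eq_one).mp h1
        rw [h8', Subgroup.mem_bot] at h7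
        have h9 : e = 1 := congrArg Subtype.val h7
        rw [h9] at h3
        have h10 : fixIn S (1 : Perm α) = S := by
          ext z
          rw [mem_fixIn]
          exact ⟨fun h => h.1, fun h => ⟨h, rfl⟩⟩
        rw [h10] at h3
        omega
      have h5 := Finset.card_le_card hOe
      rw [Finset.card_sdiff_of_subset (fixIn_subset S e), h3, hOc, ho] at h5
      omega
    · -- orbit of length 4
      have ho4 : Nat.card (MulAction.orbit B x) = 4 := by
        rw [h1] at ho
        omega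
      have hnt : Nontrivial (MulAction.stabilizer B x) := by
        have : 1 < Nat.card (MulAction.stabilizer B x) := by omega
        exact Finite.one_lt_card_iff_nontrivial.mp this
      obtain ⟨⟨g, hg⟩, hg1⟩ := exists_ne (1 : MulAction.stabilizer B x)
      have hg1' : (g : Perm α) ≠ 1 := fun h => hg1 (Subtype.ext (Subtype.ext h))
      rw [MulAction.mem_stabilizer_iff] at hg
      have hgx : g.1 x.1 = x.1 := congrArg Subtype.val hg
      have hOg : O ⊆ fixIn S g.1 := by
        intro y hy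
        rw [mem_fixIn]
        refine ⟨hOS hy, ?_⟩
        obtain ⟨b, rfl⟩ := hOm y hy
        rw [← Perm.mul_apply, hcomm g.1 g.2 b.1 b.2, Perm.mul_apply, hgx]
      have h5 := Finset.card_le_card hOg
      rw [hOc, ho4] at h5
      have h6 := hle g.1 g.2 hg1'
      omega
  -- a fixed point
  obtain ⟨x₀, hx₀⟩ : ∃ x : S, ∀ b : B, b • x = x := by
    have hp : IsPGroup 2 B := by
      rintro ⟨b, hb⟩
      exact ⟨1, Subtype.ext (by show b ^ 2 ^ 1 = 1; rw [pow_one, pow_two]; exact h2 b hb)⟩
    have : Fact (Nat.Prime 2) := ⟨Nat.prime_two⟩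
    have h4 : ¬ 2 ∣ Nat.card S := by
      rw [Nat.card_eq_fintype_card, Fintype.card_coe]
      omega
    obtain ⟨x, hx⟩ := hp.nonempty_fixed_point_of_prime_not_dvd_card (α := S) h4
    exact ⟨x, hx⟩
  -- double counting
  have hdc : ∑ b : B, (fixIn S b.1).card = ∑ x ∈ S, (Finset.univ.filter fun b : B => b.1 x = x).card := by
    have h4 : ∀ b : B, (fixIn S b.1).card = ∑ x ∈ S, if b.1 x = x then 1 else 0 := by
      intro b
      rw [fixIn, Finset.card_filter]
    simp_rw [h4, Finset.card_filter]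
    exact Finset.sum_comm
  have hup : ∑ b : B, (fixIn S b.1).card ≤ S.card + 21 := by
    have h4 : ∀ b : B, (fixIn S b.1).card ≤ if b = 1 then S.card else 3 := by
      intro b
      by_cases hb : b = 1
      · rw [if_pos hb]
        exact Finset.card_le_card (fixIn_subset S _)
      · rw [if_neg hb]
        exact hle b.1 b.2 fun h => hb (Subtype.ext h)
    have h5 := Finset.sum_le_sum (s := Finset.univ) fun b _ => h4 b
    refine h5.trans ?_
    rw [Finset.sum_ite, Finset.sum_const, Finset.sum_const, Finset.filter_eq' Finset.univ (1 : B),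
      if_pos (Finset.mem_univ _), Finset.card_singleton, Finset.filter_ne' Finset.univ (1 : B),
      Finset.card_erase_of_mem (Finset.mem_univ _), Finset.card_univ, hcard]
    simp
  have hlow : ∀ x (hx : x ∈ S), 4 ≤ (Finset.univ.filter fun b : B => b.1 x = x).card := by
    intro x hx
    have h4 := hst ⟨x, hx⟩
    rw [Nat.card_eq_fintype_card, Fintype.card_subtype] at h4
    refine h4.trans (Finset.card_le_card ?_)
    intro b hb
    rw [Finset.mem_filter] at hb ⊢
    refine ⟨Finset.mem_univ _, ?_⟩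
    have h5 := hb.2
    rw [MulAction.mem_stabilizer_iff] at h5
    exact congrArg Subtype.val h5
  have h8x : (Finset.univ.filter fun b : B => b.1 x₀.1 = x₀.1).card = 8 := by
    rw [Finset.filter_true_of_mem, Finset.card_univ, hcard]
    intro b _
    exact congrArg Subtype.val (hx₀ b)
  have hsum : 4 * (S.card - 1) + 8 ≤ ∑ x ∈ S, (Finset.univ.filter fun b : B => b.1 x = x).card := by
    rw [← Finset.sum_erase_add S _ x₀.2, h8x]
    have h4 : ∑ _x ∈ S.erase x₀.1, 4 ≤
        ∑ x ∈ S.erase x₀.1, (Finset.univ.filter fun b : B => b.1 x = x).card :=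
      Finset.sum_le_sum fun x hx => hlow x (Finset.mem_of_mem_erase hx)
    rw [Finset.sum_const, Finset.card_erase_of_mem x₀.2, smul_eq_mul] at h4
    omega
  rw [hdc] at hup
  omega

end perm

section group

variable {G : Type*} [Group G] [Finite G] {α : Type*} [Fintype α] [DecidableEq α]

/-- some `g ∈ A#` has at least five fixed points -/
theorem exists_five' {e f : G} {J A : Subgroup G} {S : Finset α} (T : IsTriple e f J) (M : Mod J S)
    (hS : S.card = 7 ∨ S.card = 9) (hA : A ≤ normalizer (J : Set G)) (h2 : ∀ g ∈ A, g * g = 1)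
    (h8 : Nat.card A = 8) (he : e ∈ A) (hf : ∀ g ∈ A, Fixes g J → g = 1) :
    ∃ g ∈ A, g ≠ 1 ∧ 5 ≤ (fixIn S (M.φ g)).card := by
  -- the image of `A`
  obtain ⟨φ, hφ⟩ : ∃ φ : ↥A →* Perm α, ∀ a : A, φ a = M.φ a :=
    ⟨{ toFun := fun a => M.φ a, map_one' := M.one, map_mul' := fun a b => M.mul _ _ (hA a.2) (hA b.2) },
      fun _ => rfl⟩
  have hinj : Function.Injective φ := by
    rw [injective_iff_map_eq_one]
    intro a ha
    rw [hφ, M.fixes_iff (hA a.2)] at ha
    exact Subtype.ext (hf a a.2 ha)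
  have hsym : φ.range ≤ sym S := by
    rintro _ ⟨a, rfl⟩
    rw [hφ]
    exact M.mem_sym a (hA a.2)
  have hsq : ∀ b ∈ φ.range, b * b = 1 := by
    rintro _ ⟨a, rfl⟩
    rw [← map_mul]
    have : a * a = 1 := Subtype.ext (h2 a a.2)
    rw [this, map_one]
  have hc : Nat.card φ.range = 8 := by
    rw [← Nat.card_congr (MonoidHom.ofInjective hinj).toEquiv, h8]
  obtain ⟨_, ⟨a, rfl⟩, h1, h5⟩ := exists_five hS hsym hsq hc (e := M.φ e)
    ⟨⟨e, he⟩, hφ _⟩ (M.card_of_triple T)
  refine ⟨a, a.2, ?_, by rw [← hφ]; exact h5⟩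
  intro ha
  apply h1
  have : a = 1 := Subtype.ext ha
  rw [this, map_one]

/-- **(TF)** for `A7`, `A9`: some `g ∈ A#` has a 2-component on `J` -/
theorem alt_exists_comp {e f : G} {J A : Subgroup G} {S : Finset α} (T : IsTriple e f J) (M : Mod J S)
    (hS : S.card = 7 ∨ S.card = 9)
    (hA : A ≤ centralizer ({f} : Set G) ⊓ normalizer (J : Set G)) (h2 : ∀ g ∈ A, g * g = 1)
    (h8 : Nat.card A = 8) (he : e ∈ A) (hf : ∀ g ∈ A, Fixes g J → g = 1) :
    ∃ g ∈ A, g ≠ 1 ∧ ∃ E, IsComp (J ⊓ centralizer ({g} : Set G)) E := by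
  obtain ⟨g, hg, hg1, h5⟩ := exists_five' T M hS (hA.trans inf_le_right) h2 h8 he hf
  exact ⟨g, hg, hg1, M.cmp g, M.isComp_cmp (hA hg).2 (h2 g hg) h5⟩

/-- **(TF)** for `A7`, `A9`: the contradiction -/
theorem alt_false {e f : G} {J A : Subgroup G} {S : Finset α} (T : IsTriple e f J) (M : Mod J S)
    (hS : S.card = 7 ∨ S.card = 9)
    (hA : A ≤ normalizer (J : Set G)) (h2 : ∀ g ∈ A, g * g = 1)
    (h8 : Nat.card A = 8) (he : e ∈ A) (hf : ∀ g ∈ A, Fixes g J → g = 1)
    (hV : ∀ g ∈ A, g ≠ 1 → ∀ E, IsComp (J ⊓ centralizer ({g} : Set G)) E → Fixes e E) : False := by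
  obtain ⟨g, hg, hg1, h5⟩ := exists_five' T M hS hA h2 h8 he hf
  have h6 := M.isComp_cmp (hA hg) (h2 g hg) h5
  have h7 := hV g hg hg1 _ h6
  have heJ := hA he
  have hcore : core (M.cmp g) ≤ core J := by
    have h6' : (fixIn S (M.φ g)).card ≠ 6 := by
      have := card_fixIn_mod (M.mem_sym g (hA hg)) (M.sq (hA hg) (h2 g hg))
      omega
    obtain ⟨M', hM'⟩ := M.exists_cmp_five (hA hg) (h2 g hg) h5 h6'
    intro y hy
    have hyE := core_le _ hy
    rw [← M.core_iff y (M.cmp_le g hyE), ← hM' y hyE]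
    exact (M'.core_iff y hyE).mpr hy
  -- `e` is trivial on `Fix(g)`
  have h8' : ∀ i ∈ fixIn S (M.φ g), M.φ e i = i := by
    intro i hi
    refine apply_of_comm_alt (S := fixIn S (M.φ g)) (by omega) (fun σ hσ => ?_) hi
    obtain ⟨k, hk, rfl⟩ := M.cmp_lift (hA hg) (h2 g hg) h5 hσ
    have hkJ := M.cmp_le g hk
    have hkN := le_normalizer (H := J) hkJ
    have h9 : ⁅e, k⁆ ∈ core J := hcore (h7.2 k hk)
    have h10 := (M.core_iff _ (core_le _ h9)).mpr h9
    rw [commutatorElement_def, M.mul _ _ (mul_mem (mul_mem heJ hkN) (inv_mem heJ)) (inv_mem hkN),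
      M.conj heJ hkN, M.inv hkN, mul_inv_eq_one, mul_inv_eq_iff_eq_mul] at h10
    exact h10
  have h9 : fixIn S (M.φ g) ⊆ fixIn S (M.φ e) := fun i hi =>
    mem_fixIn.mpr ⟨(mem_fixIn.mp hi).1, h8' i hi⟩
  have h10 := Finset.card_le_card h9
  rw [M.card_of_triple T] at h10
  omega

end group

end Cfsg.Agent.UGT.A9.TFAlt
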