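import Cfsg.Agent.UGT.A9.LTwoFive
import Cfsg.Agent.UGT.A9.TFAlt

/-!
# (TF) for `L2(q)`, `A7`, `A9`
-/

set_option autoImplicit false

open Cfsg Subgroup
open Cfsg.Agent.Intrinsic.Basic
open Cfsg.Agent.SignalizersComponents Cfsg.Agent.Lib
open Cfsg.Agent.SignalizersComponents.IntrinsicBasic
open Cfsg.Agent.UGT.Triple
open Cfsg.Agent.UAlt
open Cfsg.Agent.UGT.Iface (Bar IsL2 IsAlt)

namespace Cfsg.Agent.UGT.A9.TFAll

universe u

variable {G : Type u} [Group G] [Finite G] {J : Subgroup G}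

/-- **(TF)** for `L2(q)` -/
theorem l2_false {e f : G} {A V : Subgroup G} (T : IsTriple e f J) (hL : IsL2 (Bar J))
    (hA : A ≤ centralizer ({f} : Set G) ⊓ normalizer (J : Set G)) (h2 : ∀ g ∈ A, g * g = 1)
    (h8 : Nat.card A = 8) (he : e ∈ A) (hf : ∀ g ∈ A, Fixes g J → g = 1) (hVA : V ≤ A)
    (hV4 : Nat.card V = 4)
    (hV : ∀ g ∈ A, g ≠ 1 → ∀ E, IsComp (J ⊓ centralizer ({g} : Set G)) E → ∀ v ∈ V, Fixes v E) :
    False := by
  obtain ⟨g, hg, hg1, E, hE⟩ := LTwo.l2_exists_comp T hL hA h2 h8 he hf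
  have hgJ : ¬ Fixes g J := fun h => hg1 (hf g hg h)
  have key : ∀ v ∈ V, v = 1 ∨ v = g := by
    intro v hv
    have hvA := hVA hv
    rcases LTwo.l2_fixes_or' hL (hA hg).2 (h2 g hg) hgJ hE (hA hvA).2 (h2 v hvA)
      (comm_of_sq h2 hvA hg) (hV g hg hg1 E hE v hv) with h | h
    · exact Or.inl (hf v hvA h)
    · right
      have h3 := hf _ (mul_mem hg hvA) h
      have h4 : g⁻¹ = v := inv_eq_of_mul_eq_one_right h3
      rw [← h4, inv_eq_of_mul_eq_one_left (h2 g hg)]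
  have h5 : Nat.card V ≤ 2 := by
    have h6 : (V : Set G) ⊆ {1, g} := fun v hv => key v hv
    have h7 := Set.ncard_le_ncard h6 (Set.toFinite _)
    have h8 := Set.ncard_insert_le (1 : G) {g}
    rw [Set.ncard_singleton] at h8
    have h9 : Nat.card V = (V : Set G).ncard := rfl
    omega
  omega

/-- `A7`, `A9` in the form of `IsAlt` -/
theorem alt_false' {e f : G} {A : Subgroup G} (T : IsTriple e f J)
    (hty : IsAlt 7 (Bar J) ∨ IsAlt 9 (Bar J)) (hA : A ≤ normalizer (J : Set G)) (h2 : ∀ g ∈ A, g * g = 1)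
    (h8 : Nat.card A = 8) (he : e ∈ A) (hf : ∀ g ∈ A, Fixes g J → g = 1)
    (hV : ∀ g ∈ A, g ≠ 1 → ∀ E, IsComp (J ⊓ centralizer ({g} : Set G)) E → Fixes e E) : False := by
  rcases hty with h | h
  · have h1 : AltType J 7 := h
    obtain ⟨M⟩ := h1.mod_of_card (S := (Finset.univ : Finset (Fin 7))) (by simp) le_rfl
    exact TFAlt.alt_false T M (Or.inl (by simp)) hA h2 h8 he hf hV
  · have h1 : AltType J 9 := h
    obtain ⟨M⟩ := h1.mod_of_card (S := (Finset.univ : Finset (Fin 9))) (by simp) (by norm_num)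
    exact TFAlt.alt_false T M (Or.inr (by simp)) hA h2 h8 he hf hV

/-- **(TF)** for `L2(q)`, `A7`, `A9` -/
theorem tf_false {e f : G} {A V : Subgroup G} (T : IsTriple e f J)
    (hty : IsL2 (Bar J) ∨ IsAlt 7 (Bar J) ∨ IsAlt 9 (Bar J))
    (hA : A ≤ centralizer ({f} : Set G) ⊓ normalizer (J : Set G)) (h2 : ∀ g ∈ A, g * g = 1)
    (h8 : Nat.card A = 8) (hf : ∀ g ∈ A, Fixes g J → g = 1) (hVA : V ≤ A)
    (hV4 : Nat.card V = 4) (heV : e ∈ V)
    (hV : ∀ g ∈ A, g ≠ 1 → ∀ E, IsComp (J ⊓ centralizer ({g} : Set G)) E → ∀ v ∈ V, Fixes v E) :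
    False := by
  rcases hty with hL | hL
  · exact l2_false T hL hA h2 h8 (hVA heV) hf hVA hV4 hV
  · exact alt_false' T hL (hA.trans inf_le_right) h2 h8 (hVA heV) hf
      fun g hg hg1 E hE => hV g hg hg1 E hE e heV

end Cfsg.Agent.UGT.A9.TFAll
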