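import Cfsg.Agent.UGT.A9.TZero
import Cfsg.Agent.UGT.A9.Fun
import Cfsg.Agent.UGT.A9.TFAll
import Cfsg.Agent.UGT.A9.Seven1B
import Cfsg.Agent.UGT.A9.Kav
import Cfsg.Agent.UGT.PumpGen

/-!
# NodeA9, the isolated case: balance at the products `v w` (text #11040, (4.3)-(4.5))

* `KC M v c K Mc`: `K` is a 2-component of `C(c)` containing `C_L(v)^∞`, labelled by `Fix(v)`; `c = v` or `a v`.
* `fixes_inf`: a member fixing the other 2-components fixes those of `C(c) ∩ C(f)`.
* `fixes_other_av` (4.3), `good` (4.4), `bal_all` (4.5).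
-/

set_option autoImplicit false
set_option linter.unusedSectionVars false

open Cfsg Subgroup Equiv Equiv.Perm
open Cfsg.Agent.SignalizersComponents Cfsg.Agent.Lib
open Cfsg.Agent.SignalizersComponents.IntrinsicBasic
open Cfsg.Agent.Intrinsic Cfsg.Agent.Intrinsic.Basic Cfsg.Agent.Intrinsic.Cen Cfsg.Agent.Intrinsic.Diag
open Cfsg.Agent.UAlt Cfsg.Agent.UGT.Triple
open Cfsg.Agent.UGT.Iface (Bar IsL2 IsAlt)
open scoped commutatorElement

namespace Cfsg.Agent.UGT.A9

variable {G : Type*} [Group G] {α : Type*} [Fintype α] [DecidableEq α]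
  {L : Subgroup G} {S : Finset α}

/-- `K` is a 2-component of `C(c)` containing `C_L(v)^∞`, labelled by `Fix(v)` -/
structure KC (M : Mod L S) (v c : G) (K : Subgroup G) (Mc : Mod K (fixIn S (M.φ v))) : Prop where
  comp : IsComp (centralizer ({c} : Set G)) K
  le : M.cmp v ≤ K
  agree : ∀ y ∈ M.cmp v, Mc.φ y = M.φ y

theorem KI.kc {M : Mod L S} {v : G} {K : Subgroup G} {Mv : Mod K (fixIn S (M.φ v))} (h : KI M v K Mv) :
    KC M v v K Mv := ⟨h.comp, h.le, h.agree⟩

section kc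

variable [Finite G] {M : Mod L S} {v c : G} {K : Subgroup G} {Mc : Mod K (fixIn S (M.φ v))}

theorem exists_KC (h9 : S.card = 9) (hv : M.Rt v) (hK : IsComp (centralizer ({c} : Set G)) K)
    (hle : M.cmp v ≤ K) (hA : AltType K 5) : ∃ Mc : Mod K (fixIn S (M.φ v)), KC M v c K Mc := by
  have h5 := card_fix_root h9 hv
  obtain ⟨ME, hME⟩ := M.exists_cmp_five (le_normalizer hv.mem) hv.sq (by omega) (by omega)
  have hs := cover_of_card hle ((altType_cmp_root h9 hv).card_eq hA)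
  obtain ⟨Mv, hMv⟩ := ME.exists_extend_five (by omega) (by omega) hs
  exact ⟨Mv, hK, hle, fun y hy => by rw [hMv y hy, hME y hy]⟩

theorem KC.norm (h9 : S.card = 9) (hv : M.Rt v) (hK : KC M v c K Mc) {g : G}
    (hgL : g ∈ normalizer (L : Set G)) (hgv : g * v = v * g) (hgc : g * c = c * g) :
    g ∈ normalizer (K : Set G) := by
  have h1 := mem_normalizer_iff_cj.mp (norm_cmp h9 hv hgL hgv)
  rw [mem_normalizer_iff_cj]
  refine (isComp_cmp_root h9 hv).unique (isComp_cj_of_mem hK.comp (memC_iff.mpr hgc)) hK.comp ?_ hK.le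
  rw [← h1]
  exact cj_mono hK.le

/-- on `Fix v` the labels of `K_c` are those of `L` -/
theorem KC.φ_eq (h9 : S.card = 9) (hv : M.Rt v) (hK : KC M v c K Mc) {g : G}
    (hgL : g ∈ normalizer (L : Set G)) (hgv : g * v = v * g) (hgc : g * c = c * g) {x : α}
    (hx : x ∈ fixIn S (M.φ v)) : Mc.φ g x = M.φ g x := by
  have hgK := hK.norm h9 hv hgL hgv hgc
  have h1 : ∀ σ ∈ alt (fixIn S (M.φ v)), ((M.φ g)⁻¹ * Mc.φ g) * σ = σ * ((M.φ g)⁻¹ * Mc.φ g) := by
    intro σ hσ
    obtain ⟨y, hy, rfl⟩ := M.cmp_lift (le_normalizer hv.mem) hv.sq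
      (by rw [card_fix_root h9 hv]) hσ
    have hy' : g * y * g⁻¹ ∈ M.cmp v := (mem_normalizer_iff.mp (norm_cmp h9 hv hgL hgv) y).mp hy
    have h2 := hK.agree _ hy'
    rw [M.conj hgL (le_normalizer (M.cmp_le v hy)), Mc.conj hgK (le_normalizer (hK.le hy)),
      hK.agree y hy] at h2
    calc (M.φ g)⁻¹ * Mc.φ g * M.φ y = (M.φ g)⁻¹ * (Mc.φ g * M.φ y * (Mc.φ g)⁻¹) * Mc.φ g := by group
      _ = (M.φ g)⁻¹ * (M.φ g * M.φ y * (M.φ g)⁻¹) * Mc.φ g := by rw [h2]
      _ = M.φ y * ((M.φ g)⁻¹ * Mc.φ g) := by group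
  have h3 := apply_of_comm_alt (S := fixIn S (M.φ v)) (by rw [card_fix_root h9 hv]; omega) h1 hx
  rw [Perm.mul_apply, Perm.inv_eq_iff_eq] at h3
  exact h3

/-- `C_{K_c}(g)` has no 2-component if `g` has less than five fixed points on `Fix v` -/
theorem KC.no_comp (h9 : S.card = 9) (hv : M.Rt v) (hK : KC M v c K Mc) {g : G}
    (hgL : g ∈ normalizer (L : Set G)) (hgv : g * v = v * g) (hgc : g * c = c * g) (hg2 : g * g = 1)
    (h5 : (fixIn (fixIn S (M.φ v)) (M.φ g)).card < 5) {E : Subgroup G}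
    (hE : IsComp (K ⊓ centralizer ({g} : Set G)) E) : False := by
  have h1 := ((Mc.isComp_iff_cmp (hK.norm h9 hv hgL hgv hgc) hg2).mp hE).2
  have h2 : fixIn (fixIn S (M.φ v)) (Mc.φ g) = fixIn (fixIn S (M.φ v)) (M.φ g) := by
    ext x
    refine mem_fixIn.trans (Iff.trans (and_congr_right fun hx => ?_) mem_fixIn.symm)
    rw [hK.φ_eq h9 hv hgL hgv hgc hx]
  rw [h2] at h1
  omega

end kc

section lg

variable [Finite G]

/-- if `f` normalises `K`, `C_K(f)` has no 2-component and `e` fixes the 2-components `≠ K` of `C(c)`, then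
`e` fixes the 2-components of `C(c) ∩ C(f)` -/
theorem fixes_inf {c f e : G} {K : Subgroup G} (hf2 : f * f = 1) (hfc : f * c = c * f)
    (hfK : f ∈ normalizer (K : Set G))
    (hno : ∀ E, ¬ IsComp (K ⊓ centralizer ({f} : Set G)) E) (hec : e * c = c * e) (hef : e * f = f * e)
    (hoth : ∀ N, IsComp (centralizer ({c} : Set G)) N → N ≠ K → Fixes e N) {J : Subgroup G}
    (hJ : IsComp (centralizer ({c} : Set G) ⊓ centralizer ({f} : Set G)) J) : Fixes e J := by
  obtain ⟨N, hN, -, hor⟩ := McLLyComp.PumpT.exists_pump (mem_c hfc) hf2 hJ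
  have hne : N ≠ K := by
    rintro rfl
    rcases hor with ⟨-, h⟩ | ⟨h, -⟩
    · exact hno J (isComp_inf hJ hN h)
    · exact h (mem_normalizer_iff_cj.mp hfK)
  refine PumpGen.fixes_of_pump hf2 hfc.symm hJ hN (mem_c hec) (mem_c hef) (hoth N hN hne) ?_
  rcases hor with ⟨-, h⟩ | h
  · exact Or.inl h
  · exact Or.inr h

/-- **the jump** with `s` normalising `K'` -/
theorem jump_norm {s t : G} (hs : s * s = 1) (ht : t * t = 1) (hst : s * t = t * s)
    {J K' : Subgroup G} (hJ : IsComp (centralizer ({s} : Set G)) J) (htJ : Fixes t J)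
    (hK' : IsComp (centralizer ({t} : Set G)) K') (hsK : s ∈ normalizer (K' : Set G))
    (hno : ∀ E, ¬ IsComp (K' ⊓ centralizer ({s} : Set G)) E) {e : G}
    (he : e ∈ K') (hes : e * s = s * e) : Fixes e J := by
  have h1 := (isComp_cen hJ (memC_iff.mpr hst.symm) ht htJ).1
  rw [inf_comm] at h1
  have het : e * t = t * e := comm_c (hK'.le he)
  have h2 := fixes_inf hs hst hsK hno het hes (fun N hN hne => hN.fixes_of_mem hK' hne he) h1
  exact fixes_of_cen hJ (mem_c hst.symm) ht htJ (mem_c hes) h2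

/-- the order of a product of two commuting subgroups with trivial intersection -/
theorem card_sup_cm {A B : Subgroup G} (c : Cm A B) (h : A ⊓ B = ⊥) :
    Nat.card ↥(A ⊔ B) = Nat.card A * Nat.card B := by
  refine le_antisymm ?_ (Functor.card_sup_le h)
  rw [← Nat.card_prod]
  refine Nat.card_le_card_of_surjective
    (fun p : ↥A × ↥B => (⟨p.1 * p.2, mul_mem (mem_sup_left p.1.2) (mem_sup_right p.2.2)⟩ : ↥(A ⊔ B))) ?_
  rintro ⟨e, he⟩
  obtain ⟨u, hu, u', hu', rfl⟩ := exists_mul_of_cm c he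
  exact ⟨⟨⟨u, hu⟩, ⟨u', hu'⟩⟩, rfl⟩

end lg

section av

variable [Finite G] {M : Mod L S} {V V' : Subgroup G} {T T' : Finset α} {x a : G}

theorem φ_a (Tr : IsTriple x a L) (M : Mod L S) : a ∈ normalizer (L : Set G) ∧ M.φ a = 1 := by
  have h1 : Fixes a L := by
    refine ⟨?_, fun y hy => ?_⟩
    · rw [mem_normalizer_iff]
      intro y
      constructor
      · intro h
        rwa [← comm_of_triple Tr h, mul_inv_cancel_right]
      · intro h
        have h2 := comm_of_triple Tr h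
        rw [inv_mul_cancel_right] at h2
        have h3 : y = a * y * a⁻¹ := mul_left_cancel h2
        rwa [h3]
    · rw [commutatorElement_eq_one_iff_mul_comm.mpr (comm_of_triple Tr hy).symm]
      exact one_mem _
  exact ⟨h1.1, (M.fixes_iff h1.1).mpr h1⟩

/-- the labels of `a v` -/
theorem φ_av (Tr : IsTriple x a L) (M : Mod L S) {u : G} (hu : u ∈ L) : M.φ (a * u) = M.φ u := by
  rw [M.mul _ _ (φ_a Tr M).1 (le_normalizer hu), (φ_a Tr M).2, one_mul]

/-- the fixed points of `v w`, `v ∈ V#`, `w ∈ V'#`, on `Fix u`, `u ∈ V#` -/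
theorem Pair.fix_prod (h9 : S.card = 9) (h : Pair M V V' T T') {v w u : G} (hv : v ∈ V) (h1 : v ≠ 1)
    (hw : w ∈ V') (hw1 : w ≠ 1) (hu : u ∈ V) (hu1 : u ≠ 1) :
    (fixIn (fixIn S (M.φ u)) (M.φ (v * w))).card < 5 := by
  have h2 : fixIn (fixIn S (M.φ u)) (M.φ (v * w)) ⊆ (S \ T) \ T' := by
    intro y hy
    rw [mem_fixIn, h.fixIn_eq hu hu1] at hy
    refine Finset.mem_sdiff.mpr ⟨hy.1, fun hyT' => ?_⟩
    have h3 := hy.2
    rw [M.mul _ _ (le_normalizer (h.r1.le hv)) (le_normalizer (h.r2.le hw)), Perm.mul_apply] at h3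
    have h4 := (h.r2.root hw hw1).apply_mem hyT'
    have h5 : M.φ w y ∉ T := fun h' => Finset.disjoint_left.mp h.d h' h4
    rw [(h.r1.root hv h1).apply_eq h5] at h3
    exact (h.r2.root hw hw1).apply_ne hyT' h3
  have h3 : T' ⊆ S \ T := fun x hx => Finset.mem_sdiff.mpr ⟨h.r2.sub hx,
    fun hx' => Finset.disjoint_left.mp h.d hx' hx⟩
  have h4 := Finset.card_le_card h2
  rw [Finset.card_sdiff_of_subset h3, Finset.card_sdiff_of_subset h.r1.sub, h.r1.card, h.r2.card, h9] at h4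
  omega

/-- the fixed points of `v w` -/
theorem Pair.fix_prod' (h9 : S.card = 9) (h : Pair M V V' T T') {v w : G} (hv : v ∈ V) (h1 : v ≠ 1)
    (hw : w ∈ V') (hw1 : w ≠ 1) : (fixIn S (M.φ (v * w))).card < 5 := by
  have h2 : fixIn S (M.φ (v * w)) ⊆ fixIn (fixIn S (M.φ v)) (M.φ (v * w)) := by
    intro y hy
    rw [mem_fixIn] at hy
    rw [mem_fixIn, h.fixIn_eq hv h1]
    refine ⟨Finset.mem_sdiff.mpr ⟨hy.1, fun hyT => ?_⟩, hy.2⟩
    have h3 := hy.2
    rw [M.mul _ _ (le_normalizer (h.r1.le hv)) (le_normalizer (h.r2.le hw)), Perm.mul_apply] at h3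
    have h5 : y ∉ T' := fun h' => Finset.disjoint_left.mp h.d hyT h'
    rw [(h.r2.root hw hw1).apply_eq h5] at h3
    exact (h.r1.root hv h1).apply_ne hyT h3
  exact (Finset.card_le_card h2).trans_lt (h.fix_prod h9 hv h1 hw hw1 hv h1)

/-- **(4.3)** -/
theorem fixes_other_av (Tr : IsTriple x a L) (hI : Iso9 M) (h : Pair M V V' T T') {v : G} (hv : v ∈ V)
    (h1 : v ≠ 1) {K : Subgroup G} (hK : IsComp (centralizer ({a * v} : Set G)) K) (hle : M.cmp v ≤ K)
    {J : Subgroup G} (hJ : IsComp (centralizer ({a * v} : Set G)) J) (hne : J ≠ K) {e : G}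
    (he : e ∈ V ⊔ V') : Fixes e J := by
  have h2 : ∀ u ∈ V', Fixes u J := fun u hu => hJ.fixes_of_mem hK hne (hle (h.le_cmp hv h1 hu))
  refine fixes_sup (fun u hu => ?_) h2 he
  obtain ⟨w, hw, hw1⟩ := h.r2.exists_ne
  obtain ⟨K', Mw, hK'⟩ := hI.ex w (h.r2.rt hw hw1)
  have hvw := h.c v hv w hw
  have hva := comm_of_triple Tr (h.r1.le hv)
  have hua := comm_of_triple Tr (h.r1.le hu)
  have hwa := comm_of_triple Tr (h.r2.le hw)
  have huv := h.r1.comm hu hv
  have ha2 : a * a = 1 := sq_of_order Tr.inva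
  have hs : a * v * (a * v) = 1 := by
    rw [mul_assoc, ← mul_assoc v, hva, mul_assoc a, ← mul_assoc a a, ha2, one_mul, h.r1.sq v hv]
  have hst : a * v * w = w * (a * v) := by rw [mul_assoc, hvw, ← mul_assoc, ← hwa, mul_assoc]
  have hus : u * (a * v) = a * v * u := by rw [← mul_assoc, hua, mul_assoc, huv, mul_assoc]
  have havL : a * v ∈ normalizer (L : Set G) := mul_mem (φ_a Tr M).1 (le_normalizer (h.r1.le hv))
  refine jump_norm hs (h.r2.sq w hw) hst hJ (h2 w hw) hK'.comp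
    (hK'.kc.norm hI.card (h.r2.rt hw hw1) havL hst hst)
    (fun E hE => hK'.kc.no_comp hI.card (h.r2.rt hw hw1) havL hst hst hs ?_ hE)
    (h.symm.le_K hw hw1 hK' hu) hus
  rw [φ_av Tr M (h.r1.le hv)]
  have h3 := h.card_fix_le hI.card hv h1 hw hw1 hK'
  have h4 : fixIn (fixIn S (M.φ w)) (Mw.φ v) = fixIn (fixIn S (M.φ w)) (M.φ v) := by
    rw [h.symm.φ_eq hw hw1 hK' hv]
  rw [h4] at h3
  omega

/-- `g` is good for `f`: the 2-components of `C(f) ∩ C(g)` are fixed by `E` -/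
def Good (E : Subgroup G) (f g : G) : Prop := ∀ Z, IsComp (centralizer ({f} : Set G) ⊓ centralizer ({g} : Set G)) Z →
  ∀ e ∈ E, Fixes e Z

theorem Good.of_inf {E : Subgroup G} {f g g' : G} (h : Good E f g)
    (he : centralizer ({f} : Set G) ⊓ centralizer ({g'} : Set G) =
      centralizer ({f} : Set G) ⊓ centralizer ({g} : Set G)) : Good E f g' := fun Z hZ => h Z (he ▸ hZ)

theorem inf_mul (f g : G) : centralizer ({f} : Set G) ⊓ centralizer ({g * f} : Set G) =
    centralizer ({f} : Set G) ⊓ centralizer ({g} : Set G) := by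
  ext y
  simp only [mem_inf, memC_iff]
  refine and_congr_right fun hf => ?_
  constructor
  · intro h
    have h2 : y * g * f = g * y * f := by rw [mul_assoc, h, mul_assoc, mul_assoc, hf]
    exact mul_right_cancel h2
  · intro h
    rw [← mul_assoc, h, mul_assoc, hf, mul_assoc]

/-- **(4.4)** -/
theorem good (W : ∀ (x a : G) (L : Subgroup G), IsTriple x a L →
      IsL2 (Bar L) ∨ IsAlt 7 (Bar L) ∨ IsAlt 9 (Bar L))
    (Tr : IsTriple x a L) (hI : Iso9 M) (h : Pair M V V' T T') {v w : G}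
    (hv : v ∈ V) (h1 : v ≠ 1) (hw : w ∈ V') (hw1 : w ≠ 1) {u g : G} (hu : u ∈ V)
    (hg : g = u ∨ g = a * u) (hg1 : g ≠ 1) : Good (V ⊔ V') (v * w) g := by
  intro Z hZ e he
  have hfE : v * w ∈ V ⊔ V' := mul_mem (mem_sup_left hv) (mem_sup_right hw)
  have hf2 := h.duo.sq hfE
  have hEL : V ⊔ V' ≤ L := sup_le h.r1.le h.r2.le
  have hfL := hEL hfE
  have hef := h.duo.comm he hfE
  have huE : u ∈ V ⊔ V' := mem_sup_left hu
  have hfu := h.duo.comm hfE huE
  have heu := h.duo.comm he huE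
  have hfa := comm_of_triple Tr hfL
  have hea := comm_of_triple Tr (hEL he)
  have hLN : ∀ {y : G}, y ∈ L → y ∈ normalizer (L : Set G) := fun hy => le_normalizer hy
  rw [inf_comm] at hZ
  by_cases hu1 : u = 1
  · -- `g = a`
    subst hu1
    have hga : g = a := by
      rcases hg with rfl | rfl
      · exact absurd rfl hg1
      · exact mul_one a
    subst hga
    exact fixes_inf hf2 hfa (le_normalizer hfL) (fun E hE => by
        have h2 := ((M.isComp_iff_cmp (le_normalizer hfL) hf2).mp hE).2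
        have h3 := h.fix_prod' hI.card hv h1 hw hw1
        omega) hea hef
      (fun N hN hne => hN.fixes_of_mem Tr.comp hne (hEL he)) hZ
  rcases hg with rfl | rfl
  · obtain ⟨K, Mv, hK⟩ := hI.ex g (h.r1.rt hu hu1)
    exact fixes_inf hf2 hfu (hK.kc.norm hI.card (h.r1.rt hu hu1) (le_normalizer hfL) hfu hfu)
      (fun E hE => hK.kc.no_comp hI.card (h.r1.rt hu hu1) (le_normalizer hfL) hfu hfu hf2
        (h.fix_prod hI.card hv h1 hw hw1 hu hu1) hE) heu hef
      (fun N hN hne => fixes_sup (hI.fixes_other h hu hu1 hK hN hne).1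
        (hI.fixes_other h hu hu1 hK hN hne).2 he) hZ
  · obtain ⟨K, hK, hle, hVN, hno⟩ := Ctx.exists_af ⟨Tr, hI, h⟩ W hu hu1
    have hfK : v * w ∈ normalizer (K : Set G) :=
      mul_mem (hVN v hv) (le_normalizer (hle (h.le_cmp hu hu1 hw)))
    have hfau : v * w * (a * u) = a * u * (v * w) := by
      rw [← mul_assoc, hfa, mul_assoc, hfu, mul_assoc]
    have heau : e * (a * u) = a * u * e := by
      rw [← mul_assoc, hea, mul_assoc, heu, mul_assoc]
    exact fixes_inf hf2 hfau hfK (hno v hv h1 w hw hw1) heau hef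
      (fun N hN hne => fixes_other_av Tr hI h hu hu1 hK hle hN hne he) hZ

end av

/-! ### (4.5) -/

section bal

variable [Finite G]

theorem mem_two {e u g : G} (he : e * e = 1) (hu : u * u = 1) (heu : e * u = u * e)
    (hg : g ∈ zpowers e ⊔ zpowers u) : g = 1 ∨ g = e ∨ g = u ∨ g = e * u := by
  have hc : Cm (zpowers e) (zpowers u) := by
    intro y hy z hz
    rcases mem_zpowers_sq he hy with rfl | rfl <;> rcases mem_zpowers_sq hu hz with rfl | rfl
    · rfl
    · rw [one_mul, mul_one]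
    · rw [one_mul, mul_one]
    · exact heu
  obtain ⟨y, hy, z, hz, rfl⟩ := exists_mul_of_cm hc hg
  rcases mem_zpowers_sq he hy with rfl | rfl <;> rcases mem_zpowers_sq hu hz with rfl | rfl
  · left; exact mul_one 1
  · right; right; left; exact one_mul _
  · right; left; exact mul_one _
  · right; right; right; rfl

theorem cm_zpowers {e u : G} (heu : e * u = u * e) : Cm (zpowers e) (zpowers u) := by
  intro y hy z hz
  obtain ⟨i, rfl⟩ := mem_zpowers_iff.mp hy
  obtain ⟨j, rfl⟩ := mem_zpowers_iff.mp hz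
  exact ((show Commute e u from heu).zpow_zpow i j).eq

theorem exists_ne_two {V : Subgroup G} (h4 : Nat.card V = 4) (y : G) : ∃ u ∈ V, u ≠ 1 ∧ u ≠ y := by
  by_contra hc
  push Not at hc
  have h1 : (V : Set G) ⊆ {1, y} := by
    intro u hu
    by_cases h1 : u = 1
    · exact Or.inl h1
    · exact Or.inr (hc u hu h1)
  have h2 := Set.ncard_le_ncard h1 (Set.toFinite _)
  have h3 : (V : Set G).ncard = 4 := by rw [← h4]; rfl
  have h5 := Set.ncard_insert_le (1 : G) {y}
  rw [Set.ncard_singleton] at h5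
  omega

variable {M : Mod L S} {x a : G}

/-- **(4.5)** balance at the products -/
theorem bal_all (W : ∀ (x a : G) (L : Subgroup G), IsTriple x a L →
      IsL2 (Bar L) ∨ IsAlt 7 (Bar L) ∨ IsAlt 9 (Bar L))
    (Tr : IsTriple x a L) (hI : Iso9 M) : BalAll M := by
  intro V V' T T' h v w e hv h1 hw hw1 he he1
  have hw2 := h.r2.sq w hw
  have hv2 := h.r1.sq v hv
  have hvw := h.c v hv w hw
  have hE0 : V ⊔ zpowers w ≤ V ⊔ V' := sup_le_sup_left (zpowers_le_of hw) _
  have hfE : v * w ∈ V ⊔ V' := mul_mem (mem_sup_left hv) (mem_sup_right hw)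
  have hEL : V ⊔ V' ≤ L := sup_le h.r1.le h.r2.le
  have heE : e ∈ V ⊔ V' := hE0 he
  have hf2 := h.duo.sq hfE
  have he2 := h.duo.sq heE
  have hef := h.duo.comm heE hfE
  have ha2 : a * a = 1 := sq_of_order Tr.inva
  have haL : a ∉ L := Seven.a_notMem Tr M
  have hfV : v * w ∉ V := fun hh => by
    have h3 : w ∈ V := by
      have h4 := mul_mem (inv_mem hv) hh
      rwa [inv_mul_cancel_left] at h4
    have h5 : w ∈ V ⊓ V' := ⟨h3, hw⟩
    rw [h.duo.inf_eq_bot] at h5
    exact hw1 (mem_bot.mp h5)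
  have hf1 : v * w ≠ 1 := fun hh => hfV (by rw [hh]; exact one_mem _)
  by_cases hef' : e = v * w
  · rw [hef']; exact inf_le_left
  rintro d ⟨hd, hdf⟩
  by_contra hn
  obtain ⟨J, TJ⟩ := exists_triple (order_of_sq he2 he1) (order_of_sq hf2 hf1) hef.symm hd hdf hn
  have hdec : ∀ g ∈ V ⊔ zpowers w, ∃ u ∈ V, g = u ∨ g = u * (v * w) := by
    intro g hg
    obtain ⟨u, hu, u', hu', rfl⟩ := exists_mul_of_cm (fun a ha b hb => h.c a ha b (zpowers_le_of hw hb)) hg
    rcases mem_zpowers_sq hw2 hu' with rfl | rfl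
    · exact ⟨u, hu, Or.inl (mul_one u)⟩
    · refine ⟨u * v, mul_mem hu hv, Or.inr ?_⟩
      rw [mul_assoc, ← mul_assoc v v, hv2, one_mul]
  obtain ⟨y, hy⟩ : ∃ y, ∀ u2 ∈ V, u2 ≠ y → u2 ≠ e ∧ u2 ≠ e * (v * w) := by
    by_cases heV : e ∈ V
    · refine ⟨e, fun u2 hu2 hne => ⟨hne, fun hh => hfV ?_⟩⟩
      rw [hh] at hu2
      have h4 := mul_mem (inv_mem heV) hu2
      rwa [inv_mul_cancel_left] at h4
    · exact ⟨e * (v * w), fun u2 hu2 hne => ⟨fun hh => heV (hh ▸ hu2), hne⟩⟩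
  obtain ⟨u2, hu2, hu21, hu2y⟩ := exists_ne_two h.r1.natCard y
  obtain ⟨hne1, hne2⟩ := hy u2 hu2 hu2y
  have hu22 := h.r1.sq u2 hu2
  have hu2E : u2 ∈ V ⊔ V' := mem_sup_left hu2
  have heu2 := h.duo.comm heE hu2E
  obtain ⟨V2, hV2⟩ : ∃ V2, V2 = zpowers e ⊔ zpowers u2 := ⟨_, rfl⟩
  have hV2le : V2 ≤ V ⊔ zpowers w := by
    rw [hV2]
    exact sup_le (zpowers_le.mpr he) (zpowers_le.mpr (mem_sup_left hu2))
  have hfV2 : v * w ∉ V2 := by
    intro hh
    rw [hV2] at hh
    rcases mem_two he2 hu22 heu2 hh with h3 | h3 | h3 | h3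
    · exact hf1 h3
    · exact hef' h3.symm
    · exact hfV (h3 ▸ hu2)
    · apply hne2
      rw [h3, ← mul_assoc, he2, one_mul]
  have hV24 : Nat.card V2 = 4 := by
    rw [hV2, card_sup_cm (cm_zpowers heu2), Nat.card_zpowers, Nat.card_zpowers, order_of_sq he2 he1,
      order_of_sq hu22 hu21]
    rw [eq_bot_iff]
    rintro z ⟨h3, h4⟩
    rcases mem_zpowers_sq he2 h3 with h5 | h5
    · exact mem_bot.mpr h5
    · rcases mem_zpowers_sq hu22 h4 with h6 | h6
      · exact mem_bot.mpr h6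
      · exact absurd (h6.symm.trans h5) hne1
  have hV2L : V2 ≤ L := (hV2le.trans hE0).trans hEL
  have hcA : Cm V2 (zpowers a) := by
    intro p hp b hb
    rcases mem_zpowers_sq ha2 hb with rfl | rfl
    · rw [mul_one, one_mul]
    · exact comm_of_triple Tr (hV2L hp)
  obtain ⟨A, hA⟩ : ∃ A, A = V2 ⊔ zpowers a := ⟨_, rfl⟩
  have hA8 : Nat.card A = 8 := by
    rw [hA, card_sup_cm hcA, hV24, Nat.card_zpowers, Tr.inva]
    rw [eq_bot_iff]
    rintro z ⟨h3, h4⟩
    rcases mem_zpowers_sq ha2 h4 with h5 | h5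
    · exact mem_bot.mpr h5
    · exact absurd (h5 ▸ hV2L h3) haL
  have hAdec : ∀ g ∈ A, ∃ u ∈ V, ∃ b, (b = 1 ∨ b = a) ∧ (g = b * u ∨ g = b * u * (v * w)) ∧
      (g ≠ 1 → b * u ≠ 1) := by
    intro g hg
    rw [hA] at hg
    obtain ⟨p, hp, b, hb, rfl⟩ := exists_mul_of_cm hcA hg
    obtain ⟨u, hu, hor⟩ := hdec p (hV2le hp)
    have hpb := hcA p hp b hb
    refine ⟨u, hu, b, mem_zpowers_sq ha2 hb, ?_, ?_⟩
    · rcases hor with h3 | h3
      · left; rw [hpb, h3]
      · right; rw [hpb, h3, mul_assoc]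
    · intro hg1 hbu
      rcases mem_zpowers_sq ha2 hb with h4 | h4
      · rw [h4, one_mul] at hbu
        rw [h4, mul_one] at hg1
        rcases hor with h3 | h3
        · exact hg1 (by rw [h3, hbu])
        · rw [hbu, one_mul] at h3
          exact hfV2 (h3 ▸ hp)
      · apply haL
        rw [h4] at hbu
        have h5 : a = u⁻¹ := eq_inv_of_mul_eq_one_left hbu
        rw [h5]
        exact inv_mem (h.r1.le hu)
  have hgood : ∀ g ∈ A, g ≠ 1 → Good (V ⊔ V') (v * w) g := by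
    intro g hg hg1
    obtain ⟨u, hu, b, hb, hor, hne⟩ := hAdec g hg
    have h3 : Good (V ⊔ V') (v * w) (b * u) := by
      refine good W Tr hI h hv h1 hw hw1 hu ?_ (hne hg1)
      rcases hb with rfl | rfl
      · left; exact one_mul u
      · right; rfl
    rcases hor with h4 | h4
    · rw [h4]; exact h3
    · rw [h4]; exact h3.of_inf (inf_mul _ _)
  have hAf : ∀ g ∈ A, g * g = 1 ∧ g * (v * w) = v * w * g ∧ g * e = e * g := by
    intro g hg
    rw [hA] at hg
    obtain ⟨p, hp, b, hb, rfl⟩ := exists_mul_of_cm hcA hg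
    have hpE := hE0 (hV2le hp)
    have hpb := hcA p hp b hb
    have hb2 : b * b = 1 := by
      rcases mem_zpowers_sq ha2 hb with rfl | rfl
      · exact one_mul 1
      · exact ha2
    have hbc : ∀ z ∈ L, z * b = b * z := by
      intro z hz
      rcases mem_zpowers_sq ha2 hb with rfl | rfl
      · rw [mul_one, one_mul]
      · exact comm_of_triple Tr hz
    refine ⟨?_, ?_, ?_⟩
    · rw [mul_assoc, ← mul_assoc b p, ← hpb, mul_assoc p b b, hb2, mul_one, h.duo.sq hpE]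
    · rw [mul_assoc, ← hbc _ (hEL hfE), ← mul_assoc, h.duo.comm hpE hfE, mul_assoc]
    · rw [mul_assoc, ← hbc _ (hEL heE), ← mul_assoc, h.duo.comm hpE heE, mul_assoc]
  have hAN : ∀ g ∈ A, g ∈ normalizer (J : Set G) := by
    intro g hg
    obtain ⟨hg2, hgf, hge⟩ := hAf g hg
    by_cases hg1 : g = 1
    · rw [hg1]; exact one_mem _
    by_contra hgN
    have hne : cj g J ≠ J := fun hh => hgN (mem_normalizer_iff_cj.mpr hh)
    obtain ⟨h3, -, -, h4, -⟩ := exists_diag TJ.comp (mem_c hgf) hg2 hne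
    have h5 := hgood g hg hg1 _ h3 e heE
    have heN := TJ.x_mem
    have heN' : e ∈ normalizer (cj g J : Set G) := by
      rw [mem_normalizer_iff_cj, ← cj_mul, ← hge, cj_mul, mem_normalizer_iff_cj.mp heN]
    refine TJ.not_fixes (fixes_of_comm_diag TJ.comp (mem_c hgf) hg2 hne (mem_c hef) heN heN'
      fun m hm => ?_)
    have h6 := h5.2 m hm
    rw [h4] at h6
    exact h6.2
  refine TFAll.tf_false TJ (W _ _ _ TJ) (A := A) (V := V2)
    (fun g hg => ⟨mem_c (hAf g hg).2.1, hAN g hg⟩) (fun g hg => (hAf g hg).1) hA8 ?_ ?_ hV24 ?_ ?_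
  · intro g hg hfix
    by_contra hg1
    obtain ⟨hg2, hgf, -⟩ := hAf g hg
    have h3 := (isComp_cen TJ.comp (mem_c hgf) hg2 hfix).1
    exact TJ.not_fixes (fixes_of_cen TJ.comp (mem_c hgf) hg2 hfix (mem_c hef)
      (hgood g hg hg1 _ h3 e heE))
  · rw [hA]; exact le_sup_left
  · rw [hV2]; exact mem_sup_left (mem_zpowers e)
  · intro g hg hg1 E hE z hz
    exact hgood g hg hg1 E (PumpGen.isComp_of_inf TJ.comp hE) z (hE0 (hV2le hz))

end bal

end Cfsg.Agent.UGT.A9
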