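import Mathlib

/-!
# An elementary abelian group of order eight acting on seven or nine points
-/

set_option autoImplicit false

open Equiv Equiv.Perm

namespace Cfsg.Agent.UGT.A9.Orbit

variable {A : Type*} [Group A] [Finite A] {X : Type*} [Fintype X] [DecidableEq X]

theorem comm_of_sq {A : Type*} [Group A] (h2 : ∀ g : A, g * g = 1) (a b : A) : a * b = b * a := by
  have e1 : ∀ g : A, g⁻¹ = g := fun g => inv_eq_of_mul_eq_one_left (h2 g)
  calc a * b = (a * b)⁻¹ := (e1 _).symm
    _ = b⁻¹ * a⁻¹ := mul_inv_rev a b
    _ = b * a := by rw [e1, e1]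

/-- an elementary abelian group of order 8 acting on 7 or 9 points such that the members `≠ 1` have at most 4 fixed
points has no member with exactly 3 fixed points -/
theorem false_of_eight (h2 : ∀ g : A, g * g = 1) (h8 : Nat.card A = 8) (ρ : A →* Perm X)
    (hX : Fintype.card X = 7 ∨ Fintype.card X = 9)
    (h4 : ∀ g : A, g ≠ 1 → (Finset.univ.filter fun x => ρ g x = x).card ≤ 4) {e : A}
    (he : (Finset.univ.filter fun x => ρ e x = x).card = 3) : False := by
  classical
  have hcomm := comm_of_sq h2
  -- at most three fixed points
  have h3 : ∀ g : A, g ≠ 1 → (Finset.univ.filter fun x => ρ g x = x).card ≤ 3 := by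
    intro g hg
    have h5 := h4 g hg
    have h6 : 2 ∣ (ρ g).support.card := two_dvd_card_support (by
      rw [pow_two, ← map_mul, h2, map_one])
    have h7 : (Finset.univ.filter fun x => ρ g x = x).card + (ρ g).support.card = Fintype.card X := by
      have h8 : (ρ g).support = Finset.univ.filter fun x => ¬ ρ g x = x := by
        ext x
        simp
      rw [h8, Finset.card_filter_add_card_filter_not, Finset.card_univ]
    omega
  have he1 : e ≠ 1 := by
    rintro rfl
    rw [map_one] at he
    simp only [Perm.one_apply, Finset.filter_true, Finset.card_univ] at he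
    omega
  let _ : MulAction A X := MulAction.compHom X ρ
  have hsm : ∀ (g : A) (x : X), g • x = ρ g x := fun _ _ => rfl
  have hfix : ∀ (g : A) (s : Finset X), g ≠ 1 → (∀ x ∈ s, g • x = x) → s.card ≤ 3 := by
    intro g s hg hs
    refine le_trans (Finset.card_le_card fun x hx => ?_) (h3 g hg)
    rw [Finset.mem_filter]
    exact ⟨Finset.mem_univ _, hs x hx⟩
  have horb : ∀ x : X, (MulAction.orbit A x).ncard * Nat.card (MulAction.stabilizer A x) = 8 := by
    intro x
    rw [← MulAction.index_stabilizer, mul_comm, Subgroup.card_mul_index, h8]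
  -- members of the stabilizer fix the orbit
  have hst : ∀ (x : X) (g : A), g • x = x → ∀ y ∈ MulAction.orbit A x, g • y = y := by
    rintro x g hg _ ⟨a, rfl⟩
    show g • (a • x) = a • x
    rw [smul_smul, hcomm g a, ← smul_smul, hg]
  have hpos : ∀ x : X, 2 ≤ Nat.card (MulAction.stabilizer A x) → ∃ g : A, g ≠ 1 ∧ g • x = x := by
    intro x hx
    have : Nontrivial (MulAction.stabilizer A x) := Finite.one_lt_card_iff_nontrivial.mp (by omega)
    obtain ⟨⟨g, hg⟩, hg1⟩ := exists_ne (1 : MulAction.stabilizer A x)
    exact ⟨g, fun e => hg1 (Subtype.ext e), MulAction.mem_stabilizer_iff.mp hg⟩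
  -- Step 1
  have step1 : ∀ x : X, (MulAction.orbit A x).ncard ≤ 2 := by
    intro x
    have h5 := horb x
    have h6 : Nat.card (MulAction.stabilizer A x) ≠ 0 := Nat.card_pos.ne'
    by_contra hcon
    push Not at hcon
    have h7 : Nat.card (MulAction.stabilizer A x) = 1 ∨ Nat.card (MulAction.stabilizer A x) = 2 := by
      have h8 : Nat.card (MulAction.stabilizer A x) ∣ 8 := ⟨_, by rw [mul_comm, h5]⟩
      have h9 : Nat.card (MulAction.stabilizer A x) ≤ 2 := by
        by_contra hc
        push Not at hc
        nlinarith
      omega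
    have hfin : (MulAction.orbit A x).Finite := Set.toFinite _
    rcases h7 with h7 | h7
    · -- a regular orbit
      rw [h7, mul_one] at h5
      have h9 : Disjoint (MulAction.orbit A x).toFinset (Finset.univ.filter fun x => ρ e x = x) := by
        rw [Finset.disjoint_left]
        intro y hy hy'
        rw [Set.mem_toFinset] at hy
        have h10 : e • y = y := (Finset.mem_filter.mp hy').2
        have h11 := hst y e h10 x (by rwa [MulAction.mem_orbit_symm])
        have h12 : e ∈ MulAction.stabilizer A x := h11
        rw [Subgroup.card_eq_one.mp h7, Subgroup.mem_bot] at h12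
        exact he1 h12
      have h10 := Finset.card_le_univ
        ((MulAction.orbit A x).toFinset ∪ (Finset.univ.filter fun x => ρ e x = x))
      rw [Finset.card_union_of_disjoint h9, he, ← Set.ncard_eq_toFinset_card', h5] at h10
      omega
    · obtain ⟨g, hg, hgx⟩ := hpos x (by omega)
      have h9 := hfix g (MulAction.orbit A x).toFinset hg fun y hy => hst x g hgx y (Set.mem_toFinset.mp hy)
      rw [← Set.ncard_eq_toFinset_card'] at h9
      rw [h7] at h5
      omega
  -- Step 2
  obtain ⟨x, hx⟩ : ∃ x, e • x ≠ x := by
    by_contra hcon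
    push Not at hcon
    have h5 : (Finset.univ.filter fun x => ρ e x = x) = Finset.univ :=
      Finset.filter_true_of_mem fun x _ => hcon x
    rw [h5, Finset.card_univ] at he
    omega
  -- Step 3
  have step3 : ∀ y, y ∉ MulAction.orbit A x → e • y = y := by
    intro y hy
    by_contra hne
    have h5 : (MulAction.stabilizer A x ⊓ MulAction.stabilizer A y).index ≤ 4 := by
      refine (Subgroup.index_inf_le).trans ?_
      rw [MulAction.index_stabilizer, MulAction.index_stabilizer]
      exact Nat.mul_le_mul (step1 x) (step1 y)
    have h6 : 2 ≤ Nat.card ↥(MulAction.stabilizer A x ⊓ MulAction.stabilizer A y) := by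
      have h7 := Subgroup.card_mul_index (MulAction.stabilizer A x ⊓ MulAction.stabilizer A y)
      rw [h8] at h7
      by_contra hc
      push Not at hc
      nlinarith
    have : Nontrivial ↥(MulAction.stabilizer A x ⊓ MulAction.stabilizer A y) :=
      Finite.one_lt_card_iff_nontrivial.mp (by omega)
    obtain ⟨⟨g, hg⟩, hg1⟩ := exists_ne (1 : ↥(MulAction.stabilizer A x ⊓ MulAction.stabilizer A y))
    have hg1' : g ≠ 1 := fun e => hg1 (Subtype.ext e)
    have hgx : g • x = x := hg.1
    have hgy : g • y = y := hg.2
    have h7 := hfix g {x, e • x, y, e • y} hg1' (by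
      intro z hz
      simp only [Finset.mem_insert, Finset.mem_singleton] at hz
      rcases hz with rfl | rfl | rfl | rfl
      · exact hgx
      · exact hst x g hgx _ (MulAction.mem_orbit x e)
      · exact hgy
      · exact hst y g hgy _ (MulAction.mem_orbit y e))
    have hxy : ∀ a b : A, a • x ≠ b • y := by
      intro a b hab
      apply hy
      refine ⟨b⁻¹ * a, ?_⟩
      show (b⁻¹ * a) • x = y
      rw [mul_smul, hab, inv_smul_smul]
    have h8 : ({x, e • x, y, e • y} : Finset X).card = 4 := by
      have e1 : x ≠ y := by have := hxy 1 1; rwa [one_smul, one_smul] at this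
      have e2 : x ≠ e • y := by have := hxy 1 e; rwa [one_smul] at this
      have e3 : e • x ≠ y := by have := hxy e 1; rwa [one_smul] at this
      have e4 : e • x ≠ e • y := hxy e e
      rw [Finset.card_insert_of_notMem, Finset.card_insert_of_notMem, Finset.card_insert_of_notMem,
        Finset.card_singleton]
      · simpa using (Ne.symm hne)
      · simp only [Finset.mem_insert, Finset.mem_singleton, not_or]
        exact ⟨e3, e4⟩
      · simp only [Finset.mem_insert, Finset.mem_singleton, not_or]
        exact ⟨Ne.symm hx, e1, e2⟩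
    omega
  have h5 : (Finset.univ \ (MulAction.orbit A x).toFinset) ⊆ Finset.univ.filter fun x => ρ e x = x := by
    intro y hy
    rw [Finset.mem_sdiff, Set.mem_toFinset] at hy
    rw [Finset.mem_filter]
    exact ⟨Finset.mem_univ _, step3 y hy.2⟩
  have h6 := Finset.card_le_card h5
  rw [he, Finset.card_sdiff_of_subset (Finset.subset_univ _), Finset.card_univ,
    ← Set.ncard_eq_toFinset_card'] at h6
  have h7 := step1 x
  omega

end Cfsg.Agent.UGT.A9.Orbit
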