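import Cfsg.Agent.UGT.A9.Kav
import Cfsg.Agent.UGT.A9.Orbit

/-!
# NodeA9, the isolated case: no triples at the products `v w` (text #11040, (4.3)-(4.5))

* `fixes_prod_left`, `Ctx.fixes_prod_a`, `Ctx.fixes_prod_af`: the 2-components of `C(g) ∩ C(v w)`, `g ∈ V# ∪ V'#`, `g = a`,
  `g = a f`.
* `Ctx.no_triple_prod`: there is no triple `(e, v w, J)`, `e ∈ V × ⟨w⟩`.
* `balAll`: (4.5).
-/

set_option autoImplicit false
set_option linter.unusedSectionVars false

open Cfsg Subgroup Equiv Equiv.Perm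
open Cfsg.Agent.SignalizersComponents Cfsg.Agent.Lib
open Cfsg.Agent.SignalizersComponents.IntrinsicBasic
open Cfsg.Agent.Intrinsic Cfsg.Agent.Intrinsic.Basic Cfsg.Agent.Intrinsic.Cen Cfsg.Agent.Intrinsic.Diag
open Cfsg.Agent.UAlt Cfsg.Agent.UGT.Triple Cfsg.Agent.McLLyComp.Act Cfsg.Agent.UGT.LemG
open Cfsg.Agent.UGT.Iface
open scoped commutatorElement

namespace Cfsg.Agent.UGT.A9

open Marker

section general

variable {G : Type*} [Group G] [Finite G]

theorem card_sup_of_cm {A B : Subgroup G} (hc : Cm A B) (hd : ∀ y ∈ A, y ∈ B → y = 1) :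
    Nat.card ↥(A ⊔ B) = Nat.card A * Nat.card B := by
  have hcomm : ∀ (m : A) (n : B), Commute (A.subtype m) (B.subtype n) := fun m n => hc m m.2 n n.2
  obtain ⟨f, hf⟩ : ∃ f, f = MonoidHom.noncommCoprod A.subtype B.subtype hcomm := ⟨_, rfl⟩
  have hinj : Function.Injective f := by
    rw [hf, MonoidHom.noncommCoprod_injective]
    refine ⟨A.subtype_injective, B.subtype_injective, ?_⟩
    rw [range_subtype, range_subtype, disjoint_iff_inf_le]
    rintro y ⟨hy, hy'⟩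
    rw [Subgroup.mem_bot]
    exact hd y hy hy'
  have hrange : f.range = A ⊔ B := by
    rw [hf, MonoidHom.noncommCoprod_range, range_subtype, range_subtype]
  rw [← hrange, ← Nat.card_congr (MonoidHom.ofInjective hinj).toEquiv, Nat.card_prod]

/-- `e` fixes the 2-components of `C(g) ∩ C(z)`, `(e, z, J)` a triple: `g` normalizes `J` and does not fix `J` -/
theorem norm_of_triple {e z g : G} {J : Subgroup G} (Tr : IsTriple e z J) (hgg : g * g = 1)
    (hgz : g * z = z * g) (hge : g * e = e * g)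
    (hfix : ∀ I, IsComp (centralizer ({g} : Set G) ⊓ centralizer ({z} : Set G)) I → Fixes e I) :
    g ∈ normalizer (J : Set G) ∧ ¬ Fixes g J := by
  have hgX : g ∈ centralizer ({z} : Set G) := mem_c hgz
  have heX : e ∈ centralizer ({z} : Set G) := mem_c Tr.comm.symm
  constructor
  · rw [mem_normalizer_iff_cj]
    by_contra hne
    obtain ⟨h1, -, -, h4, -⟩ := exists_diag Tr.comp hgX hgg hne
    have h2 := hfix (diag (centralizer ({z} : Set G)) J g) (by rw [inf_comm]; exact h1)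
    refine Tr.not_fixes (fixes_of_comm_diag Tr.comp hgX hgg hne heX Tr.x_mem ?_ fun m hm => ?_)
    · rw [mem_normalizer_iff_cj, ← cj_mul, ← hge, cj_mul, mem_normalizer_iff_cj.mp Tr.x_mem]
    · have h3 := h2.2 m hm
      rw [h4] at h3
      exact h3.2
  · intro hf
    obtain ⟨h1, -⟩ := isComp_cen Tr.comp hgX hgg hf
    rw [inf_comm] at h1
    exact Tr.not_fixes (fixes_of_cen Tr.comp hgX hgg hf heX (hfix _ h1))

end general

variable {G : Type*} [Group G] [Finite G] {α : Type*} [Fintype α] [DecidableEq α]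
  {L : Subgroup G} {S : Finset α} {x a : G} {M : Mod L S} {V V' : Subgroup G} {T T' : Finset α}

/-- **(4.3)** the 2-components of `C(u) ∩ C(v w)`, `u ∈ V#` -/
theorem fixes_prod_left (hI : Iso9 M) (h : Pair M V V' T T') {v w u : G} (hv : v ∈ V) (hw : w ∈ V')
    (hw1 : w ≠ 1) (hu : u ∈ V) (hu1 : u ≠ 1) {I : Subgroup G}
    (hIc : IsComp (centralizer ({u} : Set G) ⊓ centralizer ({v * w} : Set G)) I) :
    (∀ s ∈ V, Fixes s I) ∧ ∀ s ∈ V', Fixes s I := by
  have hvw := h.c v hv w hw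
  have hzz : (v * w) * (v * w) = 1 := sq_mul (h.r1.sq v hv) (h.r2.sq w hw) hvw.symm
  have hzu : v * w ∈ centralizer ({u} : Set G) := mem_c (by
    rw [mul_assoc, ← h.c u hu w hw, ← mul_assoc, h.r1.comm hv hu, mul_assoc])
  have hsz : ∀ s ∈ V, s * (v * w) = (v * w) * s := fun s hs => by
    rw [← mul_assoc, h.r1.comm hs hv, mul_assoc, h.c s hs w hw, mul_assoc]
  have hsz' : ∀ s ∈ V', s * (v * w) = (v * w) * s := fun s hs => by
    rw [← mul_assoc, ← h.c v hv s hs, mul_assoc, h.r2.comm hs hw, mul_assoc]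
  obtain ⟨K, Mu, hK⟩ := hI.ex u (h.r1.rt hu hu1)
  obtain ⟨J, hJ, -, hor⟩ := McLLyComp.PumpT.exists_pump hzu hzz hIc
  have hor' : I ≤ J ∨ (cj (v * w) J ≠ J ∧ I = diag (centralizer ({u} : Set G)) J (v * w)) :=
    hor.imp And.right id
  by_cases hJK : J = K
  · exfalso
    subst hJK
    have hvK := h.fixes_K hI.card hu hu1 hK hv
    have hwK := h.le_K hu hu1 hK hw
    have hzK : v * w ∈ normalizer (J : Set G) := mul_mem hvK.1 (le_normalizer hwK)
    rcases hor with ⟨-, hle⟩ | ⟨hne, -⟩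
    · have h1 : IsComp (J ⊓ centralizer ({v * w} : Set G)) I :=
        hIc.restrict (inf_le_inf_right _ hJ.le) (le_inf hle (hIc.le.trans inf_le_right))
      have h2 := ((Mu.isComp_iff_cmp hzK hzz).mp h1).2
      rw [Mu.mul _ _ hvK.1 (le_normalizer hwK), (Mu.fixes_iff hvK.1).mpr hvK, one_mul,
        h.symm.card_fix_le hI.card hw hw1 hu hu1 hK] at h2
      omega
    · exact hne (mem_normalizer_iff_cj.mp hzK)
  · obtain ⟨h1, h2⟩ := hI.fixes_other h hu hu1 hK hJ hJK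
    exact ⟨fun s hs => fixes_of_pump hzu hzz hIc hJ (mem_c (h.r1.comm hs hu)) (hsz s hs) (h1 s hs) hor',
      fun s hs => fixes_of_pump hzu hzz hIc hJ (mem_c (h.c u hu s hs).symm) (hsz' s hs) (h2 s hs) hor'⟩

theorem fixes_prod_right (hI : Iso9 M) (h : Pair M V V' T T') {v w u : G} (hv : v ∈ V) (hv1 : v ≠ 1)
    (hw : w ∈ V') (hu : u ∈ V') (hu1 : u ≠ 1) {I : Subgroup G}
    (hIc : IsComp (centralizer ({u} : Set G) ⊓ centralizer ({v * w} : Set G)) I) :
    (∀ s ∈ V, Fixes s I) ∧ ∀ s ∈ V', Fixes s I := by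
  rw [h.c v hv w hw] at hIc
  obtain ⟨h1, h2⟩ := fixes_prod_left hI h.symm hw hv hv1 hu hu1 hIc
  exact ⟨h2, h1⟩

namespace Ctx

variable (h : Ctx x a M V V' T T')

include h

theorem cz {v w s : G} (hv : v ∈ V) (hw : w ∈ V') (hs : s ∈ V) : s * (v * w) = (v * w) * s := by
  rw [← mul_assoc, h.pr.r1.comm hs hv, mul_assoc, h.pr.c s hs w hw, mul_assoc]

theorem cz' {v w s : G} (hv : v ∈ V) (hw : w ∈ V') (hs : s ∈ V') : s * (v * w) = (v * w) * s := by
  rw [← mul_assoc, ← h.pr.c v hv s hs, mul_assoc, h.pr.r2.comm hs hw, mul_assoc]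

theorem zL {v w : G} (hv : v ∈ V) (hw : w ∈ V') : v * w ∈ L := mul_mem (h.pr.r1.le hv) (h.pr.r2.le hw)

theorem zz {v w : G} (hv : v ∈ V) (hw : w ∈ V') : (v * w) * (v * w) = 1 :=
  sq_mul (h.pr.r1.sq v hv) (h.pr.r2.sq w hw) (h.pr.c v hv w hw).symm

/-- the 2-components of `C(a) ∩ C(v w)` -/
theorem fixes_prod_a {v w : G} (hv : v ∈ V) (hv1 : v ≠ 1) (hw : w ∈ V') (hw1 : w ≠ 1) {I : Subgroup G}
    (hIc : IsComp (centralizer ({a} : Set G) ⊓ centralizer ({v * w} : Set G)) I) {s : G} (hs : s ∈ L)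
    (hsz : s * (v * w) = (v * w) * s) : Fixes s I := by
  have hza : v * w ∈ centralizer ({a} : Set G) := mem_c (h.ca (h.zL hv hw))
  have hzz := h.zz hv hw
  obtain ⟨J, hJ, -, hor⟩ := McLLyComp.PumpT.exists_pump hza hzz hIc
  by_cases hJL : J = L
  · exfalso
    subst hJL
    have hzK : v * w ∈ normalizer (J : Set G) := le_normalizer (h.zL hv hw)
    rcases hor with ⟨-, hle⟩ | ⟨hne, -⟩
    · have h1 : IsComp (J ⊓ centralizer ({v * w} : Set G)) I :=
        hIc.restrict (inf_le_inf_right _ hJ.le) (le_inf hle (hIc.le.trans inf_le_right))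
      have h2 := ((M.isComp_iff_cmp hzK hzz).mp h1).2
      have hvN := h.pr.r1.memN hv
      have hwN := h.pr.r2.memN hw
      have h3 : fixIn S (M.φ (v * w)) ⊆ fixIn (fixIn S (M.φ v)) (M.φ w) := by
        intro p hp
        obtain ⟨hp1, hp2⟩ := mem_fixIn.mp hp
        rw [M.mul _ _ hvN hwN, Perm.mul_apply] at hp2
        have hor : M.φ v p = p ∨ M.φ w p = p := by
          by_cases hpT : p ∈ T
          · exact Or.inr ((h.pr.r2.mem w hw).2 p fun hp' => Finset.disjoint_left.mp h.pr.d hpT hp')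
          · exact Or.inl ((h.pr.r1.mem v hv).2 p hpT)
        have hvv : M.φ v (M.φ v (M.φ w p)) = M.φ w p := by
          rw [← Perm.mul_apply, M.sq hvN (h.pr.r1.sq v hv), Perm.one_apply]
        rw [hp2] at hvv
        rcases hor with h4 | h4
        · exact mem_fixIn.mpr ⟨mem_fixIn.mpr ⟨hp1, h4⟩, by rw [← hvv, h4]⟩
        · exact mem_fixIn.mpr ⟨mem_fixIn.mpr ⟨hp1, by rw [hvv, h4]⟩, h4⟩
      have h4 := Finset.card_le_card h3
      rw [h.card_one hv hv1 hw hw1] at h4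
      omega
    · exact hne (mem_normalizer_iff_cj.mp hzK)
  · exact fixes_of_pump hza hzz hIc hJ (mem_c (h.ca hs)) hsz
      (hJ.fixes_of_mem h.tr.comp hJL hs) (hor.imp And.right id)

variable (hW : ∀ (x a : G) (L : Subgroup G), IsTriple x a L → IsL2 (Bar L) ∨ IsAlt 7 (Bar L) ∨
    IsAlt 9 (Bar L))

include hW

/-- **(4.4)** the 2-components of `C(a f) ∩ C(v w)` -/
theorem fixes_prod_af {v w f : G} (hv : v ∈ V) (hv1 : v ≠ 1) (hw : w ∈ V') (hw1 : w ≠ 1) (hf : f ∈ V)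
    (hf1 : f ≠ 1) {I : Subgroup G}
    (hIc : IsComp (centralizer ({a * f} : Set G) ⊓ centralizer ({v * w} : Set G)) I) {s : G}
    (hs : s ∈ V') : Fixes s I := by
  obtain ⟨K, hK, hle, hVN, hno⟩ := h.exists_af hW hf hf1
  have hzz := h.zz hv hw
  have hV'K : V' ≤ K := (h.pr.le_cmp hf hf1).trans hle
  have hzX : v * w ∈ centralizer ({a * f} : Set G) := mul_mem (h.uX hf hv) (hK.le (hV'K hw))
  obtain ⟨J, hJ, -, hor⟩ := McLLyComp.PumpT.exists_pump hzX hzz hIc
  by_cases hJK : J = K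
  · exfalso
    subst hJK
    have hzK : v * w ∈ normalizer (J : Set G) := mul_mem (hVN v hv) (le_normalizer (hV'K hw))
    rcases hor with ⟨-, hle⟩ | ⟨hne, -⟩
    · exact hno v hv hv1 w hw hw1 I
        (hIc.restrict (inf_le_inf_right _ hJ.le) (le_inf hle (hIc.le.trans inf_le_right)))
    · exact hne (mem_normalizer_iff_cj.mp hzK)
  · exact fixes_of_pump hzX hzz hIc hJ (hK.le (hV'K hs)) (h.cz' hv hw hs)
      (hJ.fixes_of_mem hK hJK (hV'K hs)) (hor.imp And.right id)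

end Ctx

/-- the data of a triple `(e, v w, J)` -/
structure JData (a : G) (V V' : Subgroup G) (v w e : G) (J : Subgroup G) : Prop where
  /-- `V`, `a` normalize `J` -/
  norm : ∀ s ∈ V ⊔ zpowers a, s ∈ normalizer (J : Set G)
  /-- `V × ⟨a⟩` acts faithfully -/
  faithful : ∀ s ∈ V ⊔ zpowers a, Fixes s J → s = 1
  wN : w ∈ normalizer (J : Set G)
  nfw : ¬ Fixes w J
  vw : Fixes (v * w) J
  compV : ∀ g ∈ V, g ≠ 1 → ∀ E, IsComp (J ⊓ centralizer ({g} : Set G)) E → ∀ s ∈ V, Fixes s E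
  comp : ∀ g ∈ V ⊔ zpowers a, g ≠ 1 → ∀ E, IsComp (J ⊓ centralizer ({g} : Set G)) E → Fixes w E
  ex : ∃ e' ∈ V, e' ≠ 1 ∧ (e = e' ∨ e = e' * (v * w))


namespace Ctx

variable (h : Ctx x a M V V' T T')

include h

theorem cmVa : Cm V (zpowers a) := fun u hu r hr => by
  rcases mem_zpowers_sq h.aa hr with rfl | rfl
  · rw [one_mul, mul_one]
  · exact h.va hu

/-- members of `V × ⟨a⟩` -/
theorem exists_eq {g : G} (hg : g ∈ V ⊔ zpowers a) : ∃ u ∈ V, g = u ∨ g = a * u := by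
  obtain ⟨u, hu, r, hr, rfl⟩ := exists_mul_of_cm h.cmVa hg
  rcases mem_zpowers_sq h.aa hr with rfl | rfl
  · exact ⟨u, hu, Or.inl (mul_one u)⟩
  · exact ⟨u, hu, Or.inr (h.va hu)⟩

theorem ca' {e : G} (he : e ∈ V ⊔ V') : e * a = a * e :=
  h.ca ((sup_le h.pr.r1.le h.pr.r2.le) he)

variable (hW : ∀ (x a : G) (L : Subgroup G), IsTriple x a L → IsL2 (Bar L) ∨ IsAlt 7 (Bar L) ∨
    IsAlt 9 (Bar L))

include hW

theorem jdata {v w e : G} (hv : v ∈ V) (hv1 : v ≠ 1) (hw : w ∈ V') (hw1 : w ≠ 1)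
    (he : e ∈ V ⊔ zpowers w) {J : Subgroup G} (Tr : IsTriple e (v * w) J) : JData a V V' v w e J := by
  have heV : e ∈ V ⊔ V' := (sup_le_sup_left (zpowers_le_of hw) V) he
  have hI := h.iso
  have hzz := h.zz hv hw
  have hvw : v * w ∈ V ⊔ V' := mul_mem (mem_sup_left hv) (mem_sup_right hw)
  have keyV : ∀ s ∈ V, s ≠ 1 → s ∈ normalizer (J : Set G) ∧ ¬ Fixes s J := fun s hs hs1 =>
    norm_of_triple Tr (h.pr.r1.sq s hs) (h.cz hv hw hs) (h.pr.duo.comm (mem_sup_left hs) heV) fun I hI' => by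
      obtain ⟨h1, h2⟩ := fixes_prod_left hI h.pr hv hw hw1 hs hs1 hI'
      exact fixes_sup h1 h2 heV
  have keyV' : ∀ s ∈ V', s ≠ 1 → s ∈ normalizer (J : Set G) ∧ ¬ Fixes s J := fun s hs hs1 =>
    norm_of_triple Tr (h.pr.r2.sq s hs) (h.cz' hv hw hs) (h.pr.duo.comm (mem_sup_right hs) heV) fun I hI' => by
      obtain ⟨h1, h2⟩ := fixes_prod_right hI h.pr hv hv1 hw hs hs1 hI'
      exact fixes_sup h1 h2 heV
  have keya : a ∈ normalizer (J : Set G) ∧ ¬ Fixes a J :=
    norm_of_triple Tr h.aa (h.ca (h.zL hv hw)).symm (h.ca' heV).symm fun I hI' =>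
      h.fixes_prod_a hv hv1 hw hw1 hI' ((sup_le h.pr.r1.le h.pr.r2.le) heV) (h.pr.duo.comm heV hvw)
  have hVN : ∀ s ∈ V, s ∈ normalizer (J : Set G) := fun s hs => by
    by_cases hs1 : s = 1
    · rw [hs1]; exact one_mem _
    · exact (keyV s hs hs1).1
  have hwX : w ∈ centralizer ({v * w} : Set G) := mem_c (h.cz' hv hw hw)
  have hfz : Fixes (v * w) J := fixes_a Tr.comp.le
  refine ⟨?_, ?_, (keyV' w hw hw1).1, (keyV' w hw hw1).2, hfz, ?_, ?_, ?_⟩
  · intro s hs
    obtain ⟨u, hu, rfl | rfl⟩ := h.exists_eq hs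
    · exact hVN _ hu
    · exact mul_mem keya.1 (hVN u hu)
  · intro s hs hf
    by_contra hs1
    obtain ⟨u, hu, rfl | rfl⟩ := h.exists_eq hs
    · exact (keyV _ hu hs1).2 hf
    · by_cases hu1 : u = 1
      · rw [hu1, mul_one] at hf
        exact keya.2 hf
      · have hafz : a * u ∈ centralizer ({v * w} : Set G) :=
          mul_mem (mem_c (h.ca (h.zL hv hw)).symm) (mem_c (h.cz hv hw hu))
        obtain ⟨h1, -⟩ := isComp_cen Tr.comp hafz (h.afaf hu) hf
        rw [inf_comm] at h1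
        exact (keyV' w hw hw1).2 (fixes_of_cen Tr.comp hafz (h.afaf hu) hf hwX
          (h.fixes_prod_af hW hv hv1 hw hw1 hu hu1 h1 hw))
  · intro g hg hg1 E hE
    have h1 := PumpGen.isComp_of_inf Tr.comp hE
    rw [inf_comm] at h1
    exact (fixes_prod_left hI h.pr hv hw hw1 hg hg1 h1).1
  · intro g hg hg1 E hE
    have h1 := PumpGen.isComp_of_inf Tr.comp hE
    rw [inf_comm] at h1
    obtain ⟨u, hu, rfl | rfl⟩ := h.exists_eq hg
    · exact (fixes_prod_left hI h.pr hv hw hw1 hu hg1 h1).2 w hw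
    · by_cases hu1 : u = 1
      · rw [hu1, mul_one] at h1
        exact h.fixes_prod_a hv hv1 hw hw1 h1 (h.pr.r2.le hw) (h.cz' hv hw hw)
      · exact h.fixes_prod_af hW hv hv1 hw hw1 hu hu1 h1 hw
  · have hc : Cm V (zpowers w) := fun s hs t ht => h.pr.c s hs t (zpowers_le_of hw ht)
    obtain ⟨u, hu, u', hu', rfl⟩ := exists_mul_of_cm hc he
    rcases mem_zpowers_sq (h.pr.r2.sq w hw) hu' with rfl | rfl
    · refine ⟨u, hu, ?_, Or.inl (mul_one u)⟩
      rintro rfl
      apply Tr.not_fixes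
      rw [one_mul]
      exact fixes_one J
    · refine ⟨u * v, mul_mem hu hv, fun e1 => ?_, Or.inr ?_⟩
      · have h2 : u = v := by
          have h3 := eq_inv_of_mul_eq_one_left e1
          rwa [inv_eq_of_mul_eq_one_left (h.pr.r1.sq v hv)] at h3
        apply Tr.not_fixes
        rw [h2]
        exact hfz
      · rw [mul_assoc, ← mul_assoc v v, h.pr.r1.sq v hv, one_mul]

end Ctx

namespace Ctx

variable (h : Ctx x a M V V' T T')

include h

theorem a_notMem : a ∉ V := fun ha =>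
  ne_a M h.tr (h.pr.r1.rt ha (ne_one_of_order h.tr.inva)) rfl

theorem card_a : Nat.card (zpowers a) = 2 := by rw [Nat.card_zpowers, h.tr.inva]

theorem inf_a {y : G} (hy : y ∈ V) (hya : y ∈ zpowers a) : y = 1 :=
  (mem_zpowers_sq h.aa hya).resolve_right fun e => h.a_notMem (e ▸ hy)

theorem card_Va : Nat.card ↥(V ⊔ zpowers a) = 8 := by
  rw [card_sup_of_cm h.cmVa fun y hy hya => h.inf_a hy hya, h.pr.r1.natCard, h.card_a]

theorem sq_Va {g : G} (hg : g ∈ V ⊔ zpowers a) : g * g = 1 := by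
  obtain ⟨u, hu, rfl | rfl⟩ := h.exists_eq hg
  · exact h.pr.r1.sq _ hu
  · exact h.afaf hu

variable {v w e : G} {J : Subgroup G} (D : JData a V V' v w e J)

include D

/-- an element of `V × ⟨a⟩` agreeing with `w` on `J` is `v` -/
theorem eq_v (hv : v ∈ V) (hw : w ∈ V') {g : G} (hg : g ∈ V ⊔ zpowers a) (hf : Fixes (w * g) J) :
    v * g = 1 := by
  refine D.faithful _ (mul_mem (mem_sup_left hv) hg) ?_
  have h1 := fixes_mul D.vw hf
  have h2 : v * w * (w * g) = v * g := by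
    rw [mul_assoc, ← mul_assoc w w, h.pr.r2.sq w hw, one_mul]
  rwa [h2] at h1

/-- alternating types -/
theorem alt_false (hv : v ∈ V) (hv1 : v ≠ 1) (hw : w ∈ V') (Tr : IsTriple e (v * w) J) {m : ℕ}
    (hm : m = 7 ∨ m = 9) (hAT : AltType J m) : False := by
  obtain ⟨e0⟩ := hAT
  have hm7 : 7 ≤ m := by omega
  obtain ⟨MJ⟩ := Mod.nonempty_of_equiv (K := J) (S := (Finset.univ : Finset (Fin m)))
    (by rw [Finset.card_univ, Fintype.card_fin]; exact hm7) (Ω := Fin m)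
    (by rw [Finset.card_univ]) e0
  have hN : V ⊔ zpowers a ≤ normalizer (J : Set G) := fun s hs => D.norm s hs
  have hvN := D.norm v (mem_sup_left hv)
  have hvw : MJ.φ v * MJ.φ w = 1 := by
    rw [← MJ.mul _ _ hvN D.wN]
    exact (MJ.fixes_iff D.vw.1).mpr D.vw
  obtain ⟨e', he', he1, hor⟩ := D.ex
  have heN := D.norm e' (mem_sup_left he')
  have hee : MJ.φ e = MJ.φ e' := by
    rcases hor with h1 | h1
    · rw [h1]
    · rw [h1, MJ.mul _ _ heN D.vw.1, (MJ.fixes_iff D.vw.1).mpr D.vw, mul_one]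
  have h3 : (fixIn Finset.univ (MJ.φ e')).card = 3 := by
    rw [← hee]; exact MJ.card_of_triple Tr
  let ρ : ↥(V ⊔ zpowers a) →* Perm (Fin m) := MJ.hom.comp (Subgroup.inclusion hN)
  refine Orbit.false_of_eight (A := ↥(V ⊔ zpowers a)) (fun g => Subtype.ext (h.sq_Va g.2)) h.card_Va ρ
    (by rw [Fintype.card_fin]; exact hm) ?_ (e := ⟨e', mem_sup_left he'⟩) h3
  rintro ⟨g, hg⟩ hg1
  have hg1' : g ≠ 1 := fun e => hg1 (Subtype.ext e)
  show (fixIn Finset.univ (MJ.φ g)).card ≤ 4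
  by_contra h5
  push Not at h5
  have hgN := D.norm g hg
  have hgg := h.sq_Va hg
  have hE := MJ.isComp_cmp hgN hgg (by omega)
  have hwE := D.comp g hg hg1' _ hE
  have hsub : fixIn Finset.univ (MJ.φ g) ⊆ fixIn Finset.univ (MJ.φ v) := by
    intro p hp
    have h6 := MJ.apply_of_fixes_cmp hgN hgg (by omega) D.wN hwE hp
    have h7 := Equiv.congr_fun hvw p
    rw [Perm.mul_apply, h6, Perm.one_apply] at h7
    exact mem_fixIn.mpr ⟨Finset.mem_univ _, h7⟩
  have h6 := Finset.card_le_card hsub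
  have hE' := MJ.isComp_cmp hvN (h.pr.r1.sq v hv) (by omega)
  have hsub' : fixIn Finset.univ (MJ.φ v) ⊆ fixIn Finset.univ (MJ.φ e') := fun p hp =>
    mem_fixIn.mpr ⟨Finset.mem_univ _, MJ.apply_of_fixes_cmp hvN (h.pr.r1.sq v hv) (by omega) heN
      (D.compV v hv hv1 _ hE' e' he') hp⟩
  have h7 := Finset.card_le_card hsub'
  omega

/-- type `L2` -/
theorem l2_false (hv : v ∈ V) (hv1 : v ≠ 1) (hw : w ∈ V') (Tr : IsTriple e (v * w) J)
    (hL : IsL2 (Bar J)) : False := by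
  obtain ⟨e', he', he1, hor⟩ := D.ex
  obtain ⟨u, hu, hu1, hue⟩ := h.exists_third (f := e')
  have hee := sq_of_order Tr.invx
  have huu := h.pr.r1.sq u hu
  have hzz := h.zz hv hw
  have hza : (v * w) * a = a * (v * w) := h.ca (h.zL hv hw)
  have hzu : (v * w) * u = u * (v * w) := (h.cz hv hw hu).symm
  have hze' : (v * w) * e' = e' * (v * w) := (h.cz hv hw he').symm
  have heV : e ∈ V ⊔ V' := by
    rcases hor with h1 | h1
    · rw [h1]; exact mem_sup_left he'
    · rw [h1]; exact mul_mem (mem_sup_left he') (mul_mem (mem_sup_left hv) (mem_sup_right hw))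
  have heu : e * u = u * e := h.pr.duo.comm heV (mem_sup_left hu)
  have hea : e * a = a * e := h.ca' heV
  have hua : u * a = a * u := h.va hu
  -- members of `⟨e⟩`
  have hpe : ∀ p ∈ zpowers e, ∃ p', (p' = 1 ∨ p' = e') ∧ (p = p' ∨ p = p' * (v * w)) ∧ (p' = 1 → p = 1) := by
    intro p hp
    rcases mem_zpowers_sq hee hp with rfl | rfl
    · exact ⟨1, Or.inl rfl, Or.inl rfl, fun _ => rfl⟩
    · exact ⟨e', Or.inr rfl, hor, fun e => absurd e he1⟩
  have c1 : Cm (zpowers e) (zpowers u) := fun p hp q hq => by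
    rcases mem_zpowers_sq hee hp with rfl | rfl <;> rcases mem_zpowers_sq huu hq with rfl | rfl <;>
      simp [heu]
  have c2 : Cm (zpowers e ⊔ zpowers u) (zpowers a) := fun y hy r hr => by
    obtain ⟨p, hp, q, hq, rfl⟩ := exists_mul_of_cm c1 hy
    rcases mem_zpowers_sq h.aa hr with rfl | rfl
    · rw [one_mul, mul_one]
    · have h1 : p * r = r * p := by
        rcases mem_zpowers_sq hee hp with rfl | rfl
        · rw [one_mul, mul_one]
        · exact hea
      have h2 : q * r = r * q := by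
        rcases mem_zpowers_sq huu hq with rfl | rfl
        · rw [one_mul, mul_one]
        · exact hua
      rw [mul_assoc, h2, ← mul_assoc, h1, mul_assoc]
  obtain ⟨z, hz⟩ : ∃ z, z = v * w := ⟨_, rfl⟩
  rw [← hz] at hzz hza hzu hze' hpe hor
  have hzJ : Fixes z J := hz ▸ D.vw
  have hzc : ∀ g ∈ V ⊔ zpowers a, g * z = z * g := by
    intro g hg
    obtain ⟨s, hs, rfl | rfl⟩ := h.exists_eq hg
    · rw [hz]; exact h.cz hv hw ‹_›
    · rw [mul_assoc, hz, h.cz hv hw hs, ← mul_assoc, ← hz, ← hza, mul_assoc]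
  have hE : ∀ y g' : G, y ∈ V ⊔ zpowers a → g' ∈ V ⊔ zpowers a → (y = g' ∨ y = g' * z) → y = g' := by
    rintro y g' hy hg' (h1 | h1)
    · exact h1
    · have h2 : g'⁻¹ * y = z := by rw [h1]; group
      have h3 : z ∈ V ⊔ zpowers a := h2 ▸ mul_mem (inv_mem hg') hy
      have h4 := D.faithful z h3 hzJ
      rw [h4, mul_one] at h1
      exact h1
  have hp'V : ∀ p', (p' = 1 ∨ p' = e') → p' ∈ V := by
    rintro p' (rfl | rfl)
    · exact one_mem _
    · exact he'
  have hqV : ∀ q ∈ zpowers u, q ∈ V := fun q hq => (zpowers_le.mpr hu) hq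
  have hqz : ∀ q ∈ zpowers u, z * q = q * z := fun q hq => (hzc q (mem_sup_left (hqV q hq))).symm
  have hbad : ∀ p' q, (p' = 1 ∨ p' = e') → q ∈ zpowers u → p' = q → q = 1 := by
    rintro p' q (rfl | rfl) hq h1
    · exact h1.symm
    · rcases mem_zpowers_sq huu hq with h2 | h2
      · exact h2
      · exact absurd (h2.symm.trans h1.symm) hue
  have d1 : ∀ y ∈ zpowers e, y ∈ zpowers u → y = 1 := by
    intro y hy hyu
    obtain ⟨p', hp', h1, -⟩ := hpe y hy
    have h2 := hE y p' (mem_sup_left (hqV y hyu)) (mem_sup_left (hp'V p' hp')) h1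
    exact hbad p' y hp' hyu h2.symm
  have d2 : ∀ y ∈ zpowers e ⊔ zpowers u, y ∈ zpowers a → y = 1 := by
    intro y hy hya
    obtain ⟨p, hp, q, hq, rfl⟩ := exists_mul_of_cm c1 hy
    obtain ⟨p', hp', h1, -⟩ := hpe p hp
    have h3 : p' * q ∈ V := mul_mem (hp'V p' hp') (hqV q hq)
    have h2 := hE (p * q) (p' * q) (mem_sup_right hya) (mem_sup_left h3) (by
      rcases h1 with h1 | h1
      · left; rw [h1]
      · right; rw [h1, mul_assoc, hqz q hq, mul_assoc])
    rw [h2] at hya ⊢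
    exact h.inf_a h3 hya
  have hcard : Nat.card ↥((zpowers e ⊔ zpowers u) ⊔ zpowers a) = 8 := by
    rw [card_sup_of_cm c2 d2, card_sup_of_cm c1 d1, h.card_a, Nat.card_zpowers, Nat.card_zpowers, Tr.invx,
      order_of_sq huu hu1]
  have hM : ∀ g ∈ (zpowers e ⊔ zpowers u) ⊔ zpowers a, ∃ g' ∈ V ⊔ zpowers a, (g = g' ∨ g = g' * z) ∧
      (g' = 1 → g = 1) := by
    intro g hg
    obtain ⟨y, hy, r, hr, rfl⟩ := exists_mul_of_cm c2 hg
    obtain ⟨p, hp, q, hq, rfl⟩ := exists_mul_of_cm c1 hy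
    obtain ⟨p', hp', h1, h2⟩ := hpe p hp
    have h3 : p' * q ∈ V := mul_mem (hp'V p' hp') (hqV q hq)
    have h4 : p' * q * r ∈ V ⊔ zpowers a := mul_mem (mem_sup_left h3) (mem_sup_right hr)
    refine ⟨p' * q * r, h4, ?_, fun h5 => ?_⟩
    · rcases h1 with h1 | h1
      · left; rw [h1]
      · right
        rw [h1, mul_assoc p', hqz q hq, mul_assoc (p' * q), hzc r (mem_sup_right hr)]
        simp only [mul_assoc]
    · have h6 : r = 1 := by
        have h7 : (p' * q)⁻¹ = r := inv_eq_of_mul_eq_one_right h5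
        exact h.inf_a (h7 ▸ inv_mem h3) hr
      rw [h6, mul_one] at h5
      have hqq : q * q = 1 := h.pr.r1.sq q (hqV q hq)
      have h7 : p' = q := by
        have h8 := eq_inv_of_mul_eq_one_left h5
        rwa [inv_eq_of_mul_eq_one_left hqq] at h8
      have h8 := hbad p' q hp' hq h7
      rw [h6, h8, h2 (h7.trans h8), mul_one, mul_one]
  have hgz : ∀ g g' : G, g' ∈ V ⊔ zpowers a → (g = g' ∨ g = g' * z) → g * g = 1 ∧ g * z = z * g ∧
      g ∈ normalizer (J : Set G) ∧ (Fixes g J ↔ Fixes g' J) := by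
    rintro g g' hg' (rfl | rfl)
    · exact ⟨h.sq_Va hg', hzc _ hg', D.norm _ hg', Iff.rfl⟩
    · refine ⟨sq_mul (h.sq_Va hg') hzz (hzc _ hg').symm, ?_, mul_mem (D.norm _ hg') hzJ.1,
        fixes_mul_iff_left hzJ⟩
      rw [hzc _ hg', mul_assoc z, hzc _ hg']
  have hwz : w * z = z * w := hz ▸ h.cz' hv hw hw
  rw [← hz] at Tr
  obtain ⟨g, hg, hg1, E, hgE⟩ := LTwo.l2_exists_comp Tr hL (A := (zpowers e ⊔ zpowers u) ⊔ zpowers a)
    (fun g hg => by
      obtain ⟨g', hg', h1, -⟩ := hM g hg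
      obtain ⟨-, h2, h3, -⟩ := hgz g g' hg' h1
      exact ⟨mem_c h2, h3⟩)
    (fun g hg => by
      obtain ⟨g', hg', h1, -⟩ := hM g hg
      exact (hgz g g' hg' h1).1)
    hcard (mem_sup_left (mem_sup_left (mem_zpowers e)))
    (fun g hg hf => by
      obtain ⟨g', hg', h1, h2⟩ := hM g hg
      exact h2 (D.faithful g' hg' ((hgz g g' hg' h1).2.2.2.mp hf)))
  obtain ⟨g', hg', h1, h2⟩ := hM g hg
  have hg1' : g' ≠ 1 := fun e => hg1 (h2 e)
  have hCg : J ⊓ centralizer ({g} : Set G) = J ⊓ centralizer ({g'} : Set G) := by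
    rcases h1 with h1 | h1
    · rw [h1]
    · ext y
      simp only [mem_inf, mem_centralizer_singleton_iff]
      refine and_congr_right fun hy => ?_
      have hyz : y * z = z * y := comm_c (Tr.comp.le hy)
      rw [h1]
      constructor
      · intro h3
        have h4 : y * g' * z = g' * y * z := by
          rw [mul_assoc, h3, mul_assoc, ← hyz, ← mul_assoc]
        exact mul_right_cancel h4
      · intro h3
        rw [← mul_assoc, h3, mul_assoc, hyz, ← mul_assoc]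
  rw [hCg] at hgE
  have hg'w : g' * w = w * g' := by
    obtain ⟨s, hs, rfl | rfl⟩ := h.exists_eq hg'
    · exact h.pr.c _ hs w hw
    · rw [mul_assoc, h.pr.c s hs w hw, ← mul_assoc, ← h.ca (h.pr.r2.le hw), mul_assoc]
  rcases LTwo.l2_fixes_or Tr.comp hL (h.sq_Va hg') (h.pr.r2.sq w hw) hg'w (mem_c (hzc g' hg'))
    (mem_c hwz) (D.norm g' hg') D.wN hgE (D.comp g' hg' hg1' E hgE) with h3 | h3
  · exact D.nfw h3
  · have h4 := h.eq_v D hv hw hg' h3
    have h5 : g' = v := by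
      have h6 := inv_eq_of_mul_eq_one_right h4
      rw [← h6]
      exact inv_eq_of_mul_eq_one_left (h.pr.r1.sq v hv)
    subst h5
    obtain ⟨s, hs, hs1, hsg⟩ := h.exists_third (f := g')
    have hss := h.pr.r1.sq s hs
    have hsV : s ∈ V ⊔ zpowers a := mem_sup_left hs
    rcases LTwo.l2_fixes_or Tr.comp hL (h.sq_Va hg') hss (h.pr.r1.comm hv hs)
      (mem_c (hzc g' hg')) (mem_c (hzc s hsV)) (D.norm g' hg') (D.norm s hsV) hgE
      (D.compV g' hv hv1 E hgE s hs) with h6 | h6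
    · exact hs1 (D.faithful s hsV h6)
    · have h7 := D.faithful (s * g') (mul_mem hsV hg') h6
      apply hsg
      have h8 := eq_inv_of_mul_eq_one_left h7
      rwa [inv_eq_of_mul_eq_one_left (h.sq_Va hg')] at h8

omit D in
/-- **(4.5)** there is no triple `(e, v w, J)` -/
theorem no_triple_prod (hW : ∀ (x a : G) (L : Subgroup G), IsTriple x a L → IsL2 (Bar L) ∨
    IsAlt 7 (Bar L) ∨ IsAlt 9 (Bar L)) {v w e : G} (hv : v ∈ V) (hv1 : v ≠ 1) (hw : w ∈ V')
    (hw1 : w ≠ 1) (he : e ∈ V ⊔ zpowers w) {J : Subgroup G} (Tr : IsTriple e (v * w) J) : False := by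
  have D := h.jdata hW hv hv1 hw hw1 he Tr
  rcases hW e (v * w) J Tr with hL | h7 | h9
  · exact h.l2_false D hv hv1 hw Tr hL
  · exact h.alt_false D hv hv1 hw Tr (Or.inl rfl) h7
  · exact h.alt_false D hv hv1 hw Tr (Or.inr rfl) h9

end Ctx

/-- **(4.3)-(4.5)** balance at all products -/
theorem balAll (hW : ∀ (x a : G) (L : Subgroup G), IsTriple x a L → IsL2 (Bar L) ∨
    IsAlt 7 (Bar L) ∨ IsAlt 9 (Bar L)) (Tr : IsTriple x a L) (M : Mod L S) (hI : Iso9 M) : BalAll M := by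
  intro V V' T T' hp v w e hv hv1 hw hw1 he he1
  have h : Ctx x a M V V' T T' := ⟨Tr, hI, hp⟩
  rintro d ⟨hd, hdz⟩
  by_contra hn
  have heV : e ∈ V ⊔ V' := (sup_le_sup_left (zpowers_le_of hw) V) he
  have hzV : v * w ∈ V ⊔ V' := mul_mem (mem_sup_left hv) (mem_sup_right hw)
  have hz1 : v * w ≠ 1 := by
    intro h1
    have h2 : v ∈ V ⊓ V' := Subgroup.mem_inf.mpr ⟨hv, by
      rw [eq_inv_of_mul_eq_one_left h1]; exact inv_mem hw⟩
    rw [hp.duo.inf_eq_bot, mem_bot] at h2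
    exact hv1 h2
  obtain ⟨J, hJ⟩ := exists_triple (order_of_sq (hp.duo.sq heV) he1) (order_of_sq (hp.duo.sq hzV) hz1)
    (hp.duo.comm hzV heV) hd hdz hn
  exact h.no_triple_prod hW hv hv1 hw hw1 he hJ

end Cfsg.Agent.UGT.A9
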