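import Cfsg.Agent.UGT.A9.Set

/-!
# NodeA9: the configuration `Cfg`

`(x, a, L)` a triple of type `A₉`, `x` acts as `(i₄ i₅)(i₆ i₇)(i₈ i₉)`, `r₂`, `r₃ ∈ L` commuting involutions of `C(x)` acting
as `(i₄ i₅)(i₆ i₇)` and `(i₄ i₅)(i₈ i₉)`, `b₄ = x r₂`, `b₃ = x r₃`, `r = r₂ r₃ = b₃ b₄`: `b₃` acts as `(i₆ i₇)`, `b₄` as `(i₈ i₉)`.

* `P = ⟨x, a, r₂, r₃⟩` is elementary abelian; `U = ⟨a, b₃, b₄⟩`.
* `N`: the 2-component of `C_L(U)` (type `A₅`, on the points outside `{i₆, i₇, i₈, i₉}`).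
-/

set_option autoImplicit false
set_option linter.unusedSectionVars false

open Cfsg Subgroup Equiv Equiv.Perm
open Cfsg.Agent.SignalizersComponents Cfsg.Agent.Lib
open Cfsg.Agent.SignalizersComponents.IntrinsicBasic
open Cfsg.Agent.Intrinsic.Basic Cfsg.Agent.Intrinsic.Cen Cfsg.Agent.Intrinsic.Diag
open Cfsg.Agent.McLLyComp.Act
open Cfsg.Agent.UGT.Triple Cfsg.Agent.UGT.LemG Cfsg.Agent.UGT.PumpGen Cfsg.Agent.UGT.RedAlt
open Cfsg.Agent.UAlt Cfsg.Agent.UGT.Iface Cfsg.Agent.UGT.A9.Marker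
open scoped commutatorElement

namespace Cfsg.Agent.UGT.A9.Dg

/-! ### permutations -/

section perm

variable {α : Type*} [Fintype α] [DecidableEq α]

theorem swap_eq_iff {p q i : α} (h : p ≠ q) : swap p q i = i ↔ i ≠ p ∧ i ≠ q := by
  constructor
  · intro hi
    constructor
    · rintro rfl
      rw [swap_apply_left] at hi
      exact h hi.symm
    · rintro rfl
      rw [swap_apply_right] at hi
      exact h hi
  · rintro ⟨h1, h2⟩
    exact swap_apply_of_ne_of_ne h1 h2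

theorem swap2_eq_iff {p q u v i : α} (h : [p, q, u, v].Nodup) :
    (swap p q * swap u v) i = i ↔ i ≠ p ∧ i ≠ q ∧ i ≠ u ∧ i ≠ v := by
  simp only [List.nodup_cons, List.mem_cons, List.not_mem_nil, or_false, not_or, not_false_eq_true,
    List.nodup_nil, and_true] at h
  obtain ⟨⟨hpq, hpu, hpv⟩, ⟨hqu, hqv⟩, huv⟩ := h
  rw [Perm.mul_apply]
  by_cases h1 : i = u
  · subst h1
    rw [swap_apply_left, swap_apply_of_ne_of_ne (Ne.symm hpv) (Ne.symm hqv)]
    exact ⟨fun h => absurd h.symm huv, fun h => absurd rfl h.2.2.1⟩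
  · by_cases h2 : i = v
    · subst h2
      rw [swap_apply_right, swap_apply_of_ne_of_ne (Ne.symm hpu) (Ne.symm hqu)]
      exact ⟨fun h => absurd h huv, fun h => absurd rfl h.2.2.2⟩
    · rw [swap_apply_of_ne_of_ne h1 h2, swap_eq_iff hpq]
      exact ⟨fun h => ⟨h.1, h.2, h1, h2⟩, fun h => ⟨h.1, h.2.1⟩⟩

end perm

variable {G : Type*} [Group G] {α : Type*} [Fintype α] [DecidableEq α]
  {L : Subgroup G} {S : Finset α}

/-- the configuration -/
structure Cfg (x a : G) (M : Mod L S) (r2 r3 b3 b4 r : G) (i4 i5 i6 i7 i8 i9 : α) : Prop where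
  T : IsTriple x a L
  card : S.card = 9
  nd : [i4, i5, i6, i7, i8, i9].Nodup
  L2 : r2 ∈ L
  L3 : r3 ∈ L
  s2 : r2 * r2 = 1
  s3 : r3 * r3 = 1
  c23 : r2 * r3 = r3 * r2
  cx2 : x * r2 = r2 * x
  cx3 : x * r3 = r3 * x
  e3 : b3 = x * r3
  e4 : b4 = x * r2
  er : r = r2 * r3
  φx : M.φ x = swap i4 i5 * swap i6 i7 * swap i8 i9
  φ2 : M.φ r2 = swap i4 i5 * swap i6 i7
  φ3 : M.φ r3 = swap i4 i5 * swap i8 i9

/-- `⟨x, a, r₂, r₃⟩` -/
def PP (x a r2 r3 : G) : Subgroup G := closure {x, a, r2, r3}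

/-- `⟨a, b₃, b₄⟩` -/
def UU (a b3 b4 : G) : Subgroup G := closure {a, b3, b4}

namespace Cfg

variable {x a : G} {M : Mod L S} {r2 r3 b3 b4 r : G} {i4 i5 i6 i7 i8 i9 : α}
  (H : Cfg x a M r2 r3 b3 b4 r i4 i5 i6 i7 i8 i9)

include H

theorem nds : (i4 ≠ i5 ∧ i4 ≠ i6 ∧ i4 ≠ i7 ∧ i4 ≠ i8 ∧ i4 ≠ i9) ∧ (i5 ≠ i6 ∧ i5 ≠ i7 ∧ i5 ≠ i8 ∧ i5 ≠ i9) ∧
    (i6 ≠ i7 ∧ i6 ≠ i8 ∧ i6 ≠ i9) ∧ (i7 ≠ i8 ∧ i7 ≠ i9) ∧ i8 ≠ i9 := by
  have h := H.nd
  simpa only [List.nodup_cons, List.mem_cons, List.not_mem_nil, or_false, not_or, not_false_eq_true,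
    List.nodup_nil, and_true] using h

theorem nd4567 : [i4, i5, i6, i7].Nodup := by
  have h := H.nd
  simp only [List.nodup_cons, List.mem_cons, List.not_mem_nil, or_false, not_or, not_false_eq_true,
    List.nodup_nil, and_true] at h ⊢
  tauto

theorem nd4589 : [i4, i5, i8, i9].Nodup := by
  have h := H.nd
  simp only [List.nodup_cons, List.mem_cons, List.not_mem_nil, or_false, not_or, not_false_eq_true,
    List.nodup_nil, and_true] at h ⊢
  tauto

theorem nd6789 : [i6, i7, i8, i9].Nodup := by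
  have h := H.nd
  simp only [List.nodup_cons, List.mem_cons, List.not_mem_nil, or_false, not_or, not_false_eq_true,
    List.nodup_nil, and_true] at h ⊢
  tauto

theorem c4567 : swap i4 i5 * swap i6 i7 = swap i6 i7 * swap i4 i5 :=
  (disjoint_swap_swap H.nd4567).commute

theorem c4589 : swap i4 i5 * swap i8 i9 = swap i8 i9 * swap i4 i5 :=
  (disjoint_swap_swap H.nd4589).commute

theorem c6789 : swap i6 i7 * swap i8 i9 = swap i8 i9 * swap i6 i7 :=
  (disjoint_swap_swap H.nd6789).commute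

/-- the symmetry `3 ↔ 4` -/
theorem symm : Cfg x a M r3 r2 b4 b3 r i4 i5 i8 i9 i6 i7 where
  T := H.T
  card := H.card
  nd := by
    have h := H.nd
    simp only [List.nodup_cons, List.mem_cons, List.not_mem_nil, or_false, not_or, not_false_eq_true,
      List.nodup_nil, and_true] at h ⊢
    tauto
  L2 := H.L3
  L3 := H.L2
  s2 := H.s3
  s3 := H.s2
  c23 := H.c23.symm
  cx2 := H.cx3
  cx3 := H.cx2
  e3 := H.e4
  e4 := H.e3
  er := H.er.trans H.c23
  φx := by rw [H.φx, mul_assoc, H.c6789, ← mul_assoc]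
  φ2 := H.φ3
  φ3 := H.φ2

theorem N2 : r2 ∈ normalizer (L : Set G) := le_normalizer H.L2
theorem N3 : r3 ∈ normalizer (L : Set G) := le_normalizer H.L3
theorem Nr : r ∈ normalizer (L : Set G) := H.er ▸ mul_mem H.N2 H.N3
theorem Lr : r ∈ L := H.er ▸ mul_mem H.L2 H.L3

theorem a2 : a * r2 = r2 * a := (comm_c (H.T.comp.le H.L2)).symm
theorem a3 : a * r3 = r3 * a := (comm_c (H.T.comp.le H.L3)).symm

/-- `P` is abelian -/
theorem comm {u v : G} (hu : u ∈ PP x a r2 r3) (hv : v ∈ PP x a r2 r3) : u * v = v * u := by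
  have key : ({x, a, r2, r3} : Set G) ⊆ centralizer ({x, a, r2, r3} : Set G) := by
    intro u hu v hv
    rcases hu with rfl | rfl | rfl | rfl <;> rcases hv with rfl | rfl | rfl | rfl
    · rfl
    · exact H.T.comm
    · exact H.cx2.symm
    · exact H.cx3.symm
    · exact H.T.comm.symm
    · rfl
    · exact H.a2.symm
    · exact H.a3.symm
    · exact H.cx2
    · exact H.a2
    · rfl
    · exact H.c23.symm
    · exact H.cx3
    · exact H.a3
    · exact H.c23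
    · rfl
  have h1 : PP x a r2 r3 ≤ centralizer ({x, a, r2, r3} : Set G) := (closure_le _).mpr key
  have h2 : PP x a r2 r3 ≤ centralizer (PP x a r2 r3 : Set G) := by
    refine (closure_le _).mpr fun u hu v hv => ?_
    exact (h1 hv u hu).symm
  exact h2 hv u hu

theorem mx : x ∈ PP x a r2 r3 := subset_closure (by simp)
theorem ma : a ∈ PP x a r2 r3 := subset_closure (by simp)
theorem m2 : r2 ∈ PP x a r2 r3 := subset_closure (by simp)
theorem m3 : r3 ∈ PP x a r2 r3 := subset_closure (by simp)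
theorem mb3 : b3 ∈ PP x a r2 r3 := H.e3 ▸ mul_mem H.mx H.m3
theorem mb4 : b4 ∈ PP x a r2 r3 := H.e4 ▸ mul_mem H.mx H.m2
theorem mr : r ∈ PP x a r2 r3 := H.er ▸ mul_mem H.m2 H.m3

variable [Finite G]

theorem Nx : x ∈ normalizer (L : Set G) := H.T.x_mem
theorem Nb3 : b3 ∈ normalizer (L : Set G) := H.e3 ▸ mul_mem H.Nx H.N3
theorem Nb4 : b4 ∈ normalizer (L : Set G) := H.e4 ▸ mul_mem H.Nx H.N2
theorem fa : Fixes a L := Intrinsic.WZero.fixes_of_comm fun _ hy => (comm_c (H.T.comp.le hy)).symm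
theorem Na : a ∈ normalizer (L : Set G) := H.fa.1

theorem xx : x * x = 1 := sq_of_order H.T.invx
theorem aa : a * a = 1 := sq_of_order H.T.inva

theorem sq {u : G} (hu : u ∈ PP x a r2 r3) : u * u = 1 := by
  refine closure_induction (p := fun u _ => u * u = 1) ?_ ?_ ?_ ?_ hu
  · rintro u (rfl | rfl | rfl | rfl)
    · exact H.xx
    · exact H.aa
    · exact H.s2
    · exact H.s3
  · exact one_mul 1
  · intro u v hu hv h1 h2
    have h3 := H.comm hu hv
    calc u * v * (u * v) = u * (v * u) * v := by group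
      _ = (u * u) * (v * v) := by rw [← h3]; group
      _ = 1 := by rw [h1, h2, one_mul]
  · intro u _ h1
    rw [← mul_inv_rev, h1, inv_one]

theorem PN : PP x a r2 r3 ≤ normalizer (L : Set G) := by
  refine (closure_le _).mpr ?_
  rintro u (rfl | rfl | rfl | rfl)
  · exact H.Nx
  · exact H.Na
  · exact H.N2
  · exact H.N3

theorem φa : M.φ a = 1 := (M.fixes_iff H.Na).mpr H.fa

theorem φb3 : M.φ b3 = swap i6 i7 := by
  rw [H.e3, M.mul _ _ H.Nx H.N3, H.φx, H.φ3]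
  have h1 : swap i4 i5 * swap i4 i5 = 1 := swap_mul_self _ _
  have h2 : swap i8 i9 * swap i8 i9 = 1 := swap_mul_self _ _
  calc swap i4 i5 * swap i6 i7 * swap i8 i9 * (swap i4 i5 * swap i8 i9)
      = swap i4 i5 * swap i6 i7 * (swap i8 i9 * swap i4 i5) * swap i8 i9 := by group
    _ = swap i4 i5 * swap i6 i7 * (swap i4 i5 * swap i8 i9) * swap i8 i9 := by rw [← H.c4589]
    _ = (swap i4 i5 * swap i6 i7) * swap i4 i5 * (swap i8 i9 * swap i8 i9) := by group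
    _ = (swap i6 i7 * swap i4 i5) * swap i4 i5 := by rw [h2, mul_one, H.c4567]
    _ = swap i6 i7 := by rw [mul_assoc, h1, mul_one]

theorem φb4 : M.φ b4 = swap i8 i9 := by
  rw [H.e4, M.mul _ _ H.Nx H.N2, H.φx, H.φ2]
  have h1 : swap i4 i5 * swap i6 i7 * (swap i4 i5 * swap i6 i7) = 1 := by
    calc swap i4 i5 * swap i6 i7 * (swap i4 i5 * swap i6 i7)
        = (swap i4 i5 * swap i6 i7) * swap i4 i5 * swap i6 i7 := by group
      _ = (swap i6 i7 * swap i4 i5) * swap i4 i5 * swap i6 i7 := by rw [H.c4567]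
      _ = swap i6 i7 * (swap i4 i5 * swap i4 i5) * swap i6 i7 := by group
      _ = 1 := by rw [swap_mul_self, mul_one, swap_mul_self]
  have h2 : swap i8 i9 * (swap i4 i5 * swap i6 i7) = swap i4 i5 * swap i6 i7 * swap i8 i9 := by
    rw [← mul_assoc, ← H.c4589, mul_assoc, ← H.c6789, ← mul_assoc]
  rw [mul_assoc, h2, ← mul_assoc, h1, one_mul]

theorem rb : r = b3 * b4 := by
  rw [H.e3, H.e4, H.er]
  have h1 := H.cx3
  calc r2 * r3 = r3 * r2 := H.c23
    _ = (x * x) * (r3 * r2) := by rw [H.xx, one_mul]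
    _ = x * (x * r3) * r2 := by group
    _ = x * (r3 * x) * r2 := by rw [H.cx3]
    _ = x * r3 * (x * r2) := by group

theorem φr : M.φ r = swap i6 i7 * swap i8 i9 := by
  rw [H.rb, M.mul _ _ H.Nb3 H.Nb4, H.φb3, H.φb4]

theorem fix_b3 : fixIn S (M.φ b3) = S \ {i6, i7} := by
  ext i
  rw [mem_fixIn, H.φb3, swap_eq_iff H.nds.2.2.1.1]
  simp only [Finset.mem_sdiff, Finset.mem_insert, Finset.mem_singleton, not_or]

theorem fix_b4 : fixIn S (M.φ b4) = S \ {i8, i9} := by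
  ext i
  rw [mem_fixIn, H.φb4, swap_eq_iff H.nds.2.2.2.2]
  simp only [Finset.mem_sdiff, Finset.mem_insert, Finset.mem_singleton, not_or]

theorem fix_r : fixIn S (M.φ r) = S \ {i6, i7, i8, i9} := by
  ext i
  rw [mem_fixIn, H.φr, swap2_eq_iff H.nd6789]
  simp only [Finset.mem_sdiff, Finset.mem_insert, Finset.mem_singleton, not_or]

/-- the points lie in `S` -/
theorem mem_S {i : α} (hi : M.φ x i ≠ i) : i ∈ S := by
  by_contra h
  exact hi (M.mem_sym x H.Nx i h)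

theorem inS : i4 ∈ S ∧ i5 ∈ S ∧ i6 ∈ S ∧ i7 ∈ S ∧ i8 ∈ S ∧ i9 ∈ S := by
  have key : ∀ {u : G}, u ∈ normalizer (L : Set G) → ∀ {i : α}, M.φ u i ≠ i → i ∈ S := by
    intro u hu i hi
    by_contra h
    exact hi (M.mem_sym u hu i h)
  have h1 := H.nds
  have e3 : ∀ i, (i = i6 ∨ i = i7) → M.φ b3 i ≠ i := by
    intro i hi h
    rw [H.φb3, swap_eq_iff h1.2.2.1.1] at h
    tauto
  have e4 : ∀ i, (i = i8 ∨ i = i9) → M.φ b4 i ≠ i := by
    intro i hi h
    rw [H.φb4, swap_eq_iff h1.2.2.2.2] at h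
    tauto
  have e2 : ∀ i, (i = i4 ∨ i = i5) → M.φ r2 i ≠ i := by
    intro i hi h
    rw [H.φ2, swap2_eq_iff H.nd4567] at h
    tauto
  exact ⟨key H.N2 (e2 _ (Or.inl rfl)), key H.N2 (e2 _ (Or.inr rfl)), key H.Nb3 (e3 _ (Or.inl rfl)),
    key H.Nb3 (e3 _ (Or.inr rfl)), key H.Nb4 (e4 _ (Or.inl rfl)), key H.Nb4 (e4 _ (Or.inr rfl))⟩

theorem card_b3 : (fixIn S (M.φ b3)).card = 7 := by
  rw [H.fix_b3, Finset.card_sdiff_of_subset, H.card, Finset.card_pair H.nds.2.2.1.1]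
  intro i hi
  have h := H.inS
  simp only [Finset.mem_insert, Finset.mem_singleton] at hi
  rcases hi with rfl | rfl
  · exact h.2.2.1
  · exact h.2.2.2.1

theorem card_b4 : (fixIn S (M.φ b4)).card = 7 := H.symm.card_b3

theorem card_quad : ({i6, i7, i8, i9} : Finset α).card = 4 := by
  have h := H.nds
  rw [Finset.card_insert_of_notMem, Finset.card_insert_of_notMem, Finset.card_pair h.2.2.2.2]
  · simp only [Finset.mem_insert, Finset.mem_singleton, not_or]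
    exact ⟨h.2.2.2.1.1, h.2.2.2.1.2⟩
  · simp only [Finset.mem_insert, Finset.mem_singleton, not_or]
    exact ⟨h.2.2.1.1, h.2.2.1.2.1, h.2.2.1.2.2⟩

theorem quad_sub : ({i6, i7, i8, i9} : Finset α) ⊆ S := by
  intro i hi
  have h := H.inS
  simp only [Finset.mem_insert, Finset.mem_singleton] at hi
  rcases hi with rfl | rfl | rfl | rfl
  · exact h.2.2.1
  · exact h.2.2.2.1
  · exact h.2.2.2.2.1
  · exact h.2.2.2.2.2

theorem card_F5 : (S \ {i6, i7, i8, i9}).card = 5 := by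
  rw [Finset.card_sdiff_of_subset H.quad_sub, H.card, H.card_quad]

theorem card_r : (fixIn S (M.φ r)).card = 5 := by
  rw [H.fix_r, H.card_F5]

theorem φx' : M.φ x = M.φ r2 * M.φ b4 := by rw [H.φx, H.φ2, H.φb4]

theorem fix_x_b3 : fixIn S (M.φ x) ⊆ fixIn S (M.φ b3) := by
  intro i hi
  rw [mem_fixIn] at hi ⊢
  refine ⟨hi.1, ?_⟩
  rw [H.φb3, swap_eq_iff H.nds.2.2.1.1]
  have h := H.nds
  have key : ∀ j, (j = i6 ∨ j = i7) → M.φ x j ≠ j := by
    rintro j (rfl | rfl)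
    · rw [H.φx, mul_assoc, Perm.mul_apply, Perm.mul_apply,
        swap_apply_of_ne_of_ne h.2.2.1.2.1 h.2.2.1.2.2, swap_apply_left,
        swap_apply_of_ne_of_ne (Ne.symm h.1.2.2.1) (Ne.symm h.2.1.2.1)]
      exact Ne.symm h.2.2.1.1
    · rw [H.φx, mul_assoc, Perm.mul_apply, Perm.mul_apply,
        swap_apply_of_ne_of_ne h.2.2.2.1.1 h.2.2.2.1.2, swap_apply_right,
        swap_apply_of_ne_of_ne (Ne.symm h.1.2.1) (Ne.symm h.2.1.1)]
      exact h.2.2.1.1
  exact ⟨fun e => key i (Or.inl e) hi.2, fun e => key i (Or.inr e) hi.2⟩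

theorem fix_x_b4 : fixIn S (M.φ x) ⊆ fixIn S (M.φ b4) := H.symm.fix_x_b3

theorem fix_x_r : fixIn S (M.φ x) ⊆ fixIn S (M.φ r) := by
  intro i hi
  have h3 := mem_fixIn.mp (H.fix_x_b3 hi)
  have h4 := mem_fixIn.mp (H.fix_x_b4 hi)
  rw [mem_fixIn, H.rb, M.mul _ _ H.Nb3 H.Nb4, Perm.mul_apply, h4.2]
  exact h3

/-! ### `U` and `N` -/

omit [Finite G] in
theorem UP : UU a b3 b4 ≤ PP x a r2 r3 := by
  refine (closure_le _).mpr ?_
  rintro u (rfl | rfl | rfl)
  · exact H.ma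
  · exact H.mb3
  · exact H.mb4

omit [Finite G] in
theorem ua : a ∈ UU a b3 b4 := subset_closure (by simp)
omit [Finite G] in
theorem u3 : b3 ∈ UU a b3 b4 := subset_closure (by simp)
omit [Finite G] in
theorem u4 : b4 ∈ UU a b3 b4 := subset_closure (by simp)

theorem ur : r ∈ UU a b3 b4 := H.rb ▸ mul_mem H.u3 H.u4

theorem UN : UU a b3 b4 ≤ normalizer (L : Set G) := H.UP.trans H.PN

theorem Usym : UU a b4 b3 = UU a b3 b4 := by
  unfold UU
  congr 1
  ext y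
  simp only [Set.mem_insert_iff, Set.mem_singleton_iff]
  tauto

theorem U2 : IsPGroup 2 (UU a b3 b4) := by
  rintro ⟨u, hu⟩
  refine ⟨1, Subtype.ext ?_⟩
  show u ^ 2 ^ 1 = 1
  rw [pow_one, pow_two]
  exact H.sq (H.UP hu)

/-- the common fixed points of `U` -/
theorem FU : M.FT (UU a b3 b4) = S \ {i6, i7, i8, i9} := by
  ext i
  rw [M.mem_FT H.UN]
  constructor
  · rintro ⟨hi, h⟩
    rw [← H.fix_r, mem_fixIn]
    exact ⟨hi, h r H.ur⟩
  · intro hi
    rw [← H.fix_r, mem_fixIn] at hi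
    have h1 := hi.2
    rw [H.φr, swap2_eq_iff H.nd6789] at h1
    have e3 : M.φ b3 i = i := by
      rw [H.φb3, swap_eq_iff H.nds.2.2.1.1]
      exact ⟨h1.1, h1.2.1⟩
    have e4 : M.φ b4 i = i := by
      rw [H.φb4, swap_eq_iff H.nds.2.2.2.2]
      exact ⟨h1.2.2.1, h1.2.2.2⟩
    refine ⟨hi.1, fun t ht => ?_⟩
    have h2 : UU a b3 b4 ≤ ((MulAction.stabilizer (Perm α) i).comap M.hom).map
        (normalizer (L : Set G)).subtype := by
      refine (closure_le _).mpr ?_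
      rintro u (rfl | rfl | rfl)
      · exact ⟨⟨u, H.Na⟩, by show M.φ u i = i; rw [H.φa]; rfl, rfl⟩
      · exact ⟨⟨u, H.Nb3⟩, e3, rfl⟩
      · exact ⟨⟨u, H.Nb4⟩, e4, rfl⟩
    obtain ⟨y, hy, rfl⟩ := h2 ht
    exact hy

omit H in
/-- the marker `N` -/
theorem N_le_cmp_aux {U : Subgroup G} (hUN : U ≤ normalizer (L : Set G)) {w : G} (hw : w ∈ U) :
    M.cmpT U ≤ M.cmp w := by
  refine PComponents.pElem_mono fun k hk => ⟨hk.1, hk.2.1 w hw, ?_⟩
  refine alt_mono (fun i hi => ?_) hk.2.2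
  rw [M.mem_FT hUN] at hi
  exact mem_fixIn.mpr ⟨hi.1, hi.2 w hw⟩

theorem N_le_cmp {w : G} (hw : w ∈ UU a b3 b4) : M.cmpT (UU a b3 b4) ≤ M.cmp w :=
  N_le_cmp_aux H.UN hw

theorem card_FU : (M.FT (UU a b3 b4)).card = 5 := by rw [H.FU, H.card_F5]

theorem N_comp : IsComp (L ⊓ centralizer (UU a b3 b4 : Set G)) (M.cmpT (UU a b3 b4)) :=
  M.isComp_cmpT H.U2 H.UN (by rw [H.card_FU])

theorem mkr : Mkr (M.cmpT (UU a b3 b4)) := Mkr.of_comp H.N_comp

theorem N_comm {w : G} (hw : w ∈ UU a b3 b4) : M.cmpT (UU a b3 b4) ≤ centralizer ({w} : Set G) :=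
  fun _ hn => mem_c (M.cmpT_comm hn hw).symm

theorem N_lift {σ : Perm α} (hσ : σ ∈ alt (S \ {i6, i7, i8, i9})) :
    ∃ n ∈ M.cmpT (UU a b3 b4), M.φ n = σ := by
  rw [← H.FU] at hσ
  exact M.cmpT_lift H.U2 H.UN (by rw [H.card_FU]) hσ

/-- the labels of `a w` -/
theorem φaw {w : G} (hw : w ∈ normalizer (L : Set G)) : M.φ (a * w) = M.φ w := by
  rw [M.mul _ _ H.Na hw, H.φa, one_mul]

theorem cmp_aw {w : G} (hw : w ∈ normalizer (L : Set G)) : M.cmp (a * w) = M.cmp w := by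
  show PComponents.pElem 2 _ = PComponents.pElem 2 _
  congr 1
  ext k
  rw [M.mem_pre, M.mem_pre, H.φaw hw]
  refine and_congr_right fun hk => and_congr_left fun _ => ?_
  have h1 : k * a = a * k := comm_c (H.T.comp.le hk)
  constructor
  · intro h
    have h2 : a * (w * k) = a * (k * w) := by
      rw [← mul_assoc, h, ← mul_assoc, h1, mul_assoc]
    exact mul_left_cancel h2
  · intro h
    rw [mul_assoc, h, ← mul_assoc, ← h1, mul_assoc]

/-- `N` covers `C_L(r)^∞` -/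
theorem N_cover {y : G} (hy : y ∈ M.cmp r) : ∃ n ∈ M.cmpT (UU a b3 b4), n⁻¹ * y ∈ core (M.cmp r) := by
  have h1 := M.cmp_mem_alt hy
  rw [H.fix_r] at h1
  obtain ⟨n, hn, hny⟩ := H.N_lift h1
  refine ⟨n, hn, ?_⟩
  have hnr := H.N_le_cmp H.ur hn
  have h2 : n⁻¹ * y ∈ core L := (M.eq_iff (M.cmp_le r hnr) (M.cmp_le r hy)).mp hny
  have h3 : n⁻¹ * y ∈ M.cmp r := mul_mem (inv_mem hnr) hy
  -- `core L ⊓ cmp r` is a normal odd subgroup of `cmp r`
  refine le_core (N := core L ⊓ M.cmp r) inf_le_right ?_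
    (Odd.of_dvd_nat (odd_card_core L) (card_dvd_of_le inf_le_left)) ⟨h2, h3⟩
  intro g hg
  have e1 : g ∈ normalizer (core L : Set G) := le_normalizer_core L (M.cmp_le r hg)
  have e2 : g ∈ normalizer (M.cmp r : Set G) := le_normalizer hg
  rw [mem_normalizer_iff_cj] at e1 e2 ⊢
  rw [cj_inf, e1, e2]

end Cfg

end Cfsg.Agent.UGT.A9.Dg
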