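import Cfsg.Agent.UGT.A9.Cfg
import Cfsg.Agent.UGT.A9.BadF
import Cfsg.Agent.UAlt.Root
import Cfsg.Agent.UAlt.ModT

/-!
# NodeA9: existence of the configurations

* `exists_points`: an involution of `Sym(S)`, `|S| = 9`, with three fixed points is `(i₄ i₅)(i₆ i₇)(i₈ i₉)`.
* `Dg.exists_cfg`: existence of `Dg.Cfg`, together with `v ∈ C_L(x)` interchanging `r₂` and `r₃`.
-/

set_option autoImplicit false
set_option linter.unusedSectionVars false

open Cfsg Subgroup Equiv Equiv.Perm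
open Cfsg.Agent.SignalizersComponents Cfsg.Agent.Lib
open Cfsg.Agent.SignalizersComponents.IntrinsicBasic
open Cfsg.Agent.Intrinsic.Basic Cfsg.Agent.Intrinsic.Cen Cfsg.Agent.Intrinsic.Diag
open Cfsg.Agent.McLLyComp.Act
open Cfsg.Agent.UGT.Triple Cfsg.Agent.UGT.LemG Cfsg.Agent.UGT.PumpGen Cfsg.Agent.UGT.RedAlt
open Cfsg.Agent.UAlt Cfsg.Agent.UGT.Iface Cfsg.Agent.UGT.A9.Marker
open scoped commutatorElement

namespace Cfsg.Agent.UGT.A9.Dg

section perm

variable {α : Type*} [Fintype α] [DecidableEq α]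

theorem exists_pair {Y : Finset α} {σ : Perm α} (hσ : ∀ y, σ (σ y) = y)
    (hY : ∀ y ∈ Y, σ y ∈ Y ∧ σ y ≠ y) {n : ℕ} (hn : Y.card = n + 2) :
    ∃ i ∈ Y, σ i ∈ Y ∧ σ i ≠ i ∧ ∃ Y' : Finset α, Y'.card = n ∧
      (∀ y, y ∈ Y' ↔ y ≠ i ∧ y ≠ σ i ∧ y ∈ Y) ∧ ∀ y ∈ Y', σ y ∈ Y' ∧ σ y ≠ y := by
  obtain ⟨i, hi⟩ := Finset.card_pos.mp (by omega : 0 < Y.card)
  obtain ⟨h1, h2⟩ := hY i hi
  have hm : ∀ y, y ∈ (Y.erase (σ i)).erase i ↔ y ≠ i ∧ y ≠ σ i ∧ y ∈ Y := fun y => by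
    rw [Finset.mem_erase, Finset.mem_erase]
  refine ⟨i, hi, h1, h2, (Y.erase (σ i)).erase i, ?_, hm, fun y hy => ?_⟩
  · rw [Finset.card_erase_of_mem (Finset.mem_erase.mpr ⟨Ne.symm h2, hi⟩), Finset.card_erase_of_mem h1, hn]
    omega
  · rw [hm] at hy ⊢
    obtain ⟨h3, h4, h5⟩ := hy
    refine ⟨⟨fun e => h4 ?_, fun e => h3 (σ.injective e), (hY y h5).1⟩, (hY y h5).2⟩
    rw [← e, hσ]

theorem exists_points {S : Finset α} (h9 : S.card = 9) {σ : Perm α} (hσS : σ ∈ sym S)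
    (hσσ : σ * σ = 1) (h3 : (fixIn S σ).card = 3) : ∃ i4 i5 i6 i7 i8 i9 : α,
      [i4, i5, i6, i7, i8, i9].Nodup ∧ (i4 ∈ S ∧ i5 ∈ S ∧ i6 ∈ S ∧ i7 ∈ S ∧ i8 ∈ S ∧ i9 ∈ S) ∧
      σ = swap i4 i5 * swap i6 i7 * swap i8 i9 := by
  have hσ : ∀ y, σ (σ y) = y := fun y => by
    have := congrArg (fun f : Perm α => f y) hσσ
    simpa using this
  have hm : ∀ y, y ∈ S \ fixIn S σ ↔ y ∈ S ∧ σ y ≠ y := fun y => by
    rw [Finset.mem_sdiff, mem_fixIn, not_and]
    exact ⟨fun h => ⟨h.1, h.2 h.1⟩, fun h => ⟨h.1, fun _ => h.2⟩⟩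
  have hsub : fixIn S σ ⊆ S := fun y hy => (mem_fixIn.mp hy).1
  have hc : (S \ fixIn S σ).card = 4 + 2 := by
    rw [Finset.card_sdiff_of_subset hsub]
    omega
  obtain ⟨i4, m4, m5, n4, Y1, c1, y1, z1⟩ := exists_pair hσ (Y := S \ fixIn S σ) (fun y hy => by
    rw [hm] at hy ⊢
    refine ⟨⟨mem_of_mem_sym hσS hy.1, ?_⟩, hy.2⟩
    rw [hσ]; exact hy.2.symm) hc
  obtain ⟨i6, m6, m7, n6, Y2, c2, y2, z2⟩ := exists_pair hσ (Y := Y1) z1 (n := 2) c1
  obtain ⟨i8, m8, m9, n8, Y3, c3, y3, z3⟩ := exists_pair hσ (Y := Y2) z2 (n := 0) c2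
  obtain ⟨a1, a2, a3⟩ := (y1 _).mp m6
  obtain ⟨b1, b2, b3⟩ := (y1 _).mp m7
  obtain ⟨a4, a5, a6⟩ := (y2 _).mp m8
  obtain ⟨b4, b5, b6⟩ := (y2 _).mp m9
  obtain ⟨a7, a8, a9⟩ := (y1 _).mp a6
  obtain ⟨b7, b8, b9⟩ := (y1 _).mp b6
  refine ⟨i4, σ i4, i6, σ i6, i8, σ i8, ?_, ⟨((hm _).mp m4).1, ((hm _).mp m5).1, ((hm _).mp a3).1,
    ((hm _).mp b3).1, ((hm _).mp a9).1, ((hm _).mp b9).1⟩, ?_⟩
  · simp only [List.nodup_cons, List.mem_cons, List.not_mem_nil, or_false, not_or, not_false_eq_true,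
      List.nodup_nil, and_true]
    exact ⟨⟨Ne.symm n4, Ne.symm a1, Ne.symm b1, Ne.symm a7, Ne.symm b7⟩,
      ⟨Ne.symm a2, Ne.symm b2, Ne.symm a8, Ne.symm b8⟩, ⟨Ne.symm n6, Ne.symm a4, Ne.symm b4⟩,
      ⟨Ne.symm a5, Ne.symm b5⟩, Ne.symm n8⟩
  · ext y
    rw [Perm.mul_apply, Perm.mul_apply]
    by_cases e4 : y = i4
    · subst e4
      rw [swap_apply_of_ne_of_ne (Ne.symm a7) (Ne.symm b7), swap_apply_of_ne_of_ne (Ne.symm a1)
        (Ne.symm b1), swap_apply_left]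
    by_cases e5 : y = σ i4
    · subst e5
      rw [swap_apply_of_ne_of_ne (Ne.symm a8) (Ne.symm b8), swap_apply_of_ne_of_ne (Ne.symm a2)
        (Ne.symm b2), swap_apply_right, hσ]
    by_cases e6 : y = i6
    · subst e6
      rw [swap_apply_of_ne_of_ne (Ne.symm a4) (Ne.symm b4), swap_apply_left,
        swap_apply_of_ne_of_ne b1 b2]
    by_cases e7 : y = σ i6
    · subst e7
      rw [swap_apply_of_ne_of_ne (Ne.symm a5) (Ne.symm b5), swap_apply_right,
        swap_apply_of_ne_of_ne a1 a2, hσ]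
    by_cases e8 : y = i8
    · subst e8
      rw [swap_apply_left, swap_apply_of_ne_of_ne b4 b5, swap_apply_of_ne_of_ne b7 b8]
    by_cases e9 : y = σ i8
    · subst e9
      rw [swap_apply_right, swap_apply_of_ne_of_ne a4 a5, swap_apply_of_ne_of_ne a7 a8, hσ]
    rw [swap_apply_of_ne_of_ne e8 e9, swap_apply_of_ne_of_ne e6 e7, swap_apply_of_ne_of_ne e4 e5]
    by_contra hne
    have hyS : y ∈ S := by
      by_contra h
      exact hne (hσS y h)
    have h1 : y ∈ Y3 := (y3 y).mpr ⟨e8, e9, (y2 y).mpr ⟨e6, e7, (y1 y).mpr ⟨e4, e5,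
      (hm y).mpr ⟨hyS, hne⟩⟩⟩⟩
    rw [Finset.card_eq_zero.mp c3] at h1
    exact absurd h1 (Finset.notMem_empty y)

/-- conjugation by `(i₆ i₈)(i₇ i₉)` -/
theorem conj_two {i4 i5 i6 i7 i8 i9 : α} (h : [i4, i5, i6, i7, i8, i9].Nodup) :
    (swap i6 i8 * swap i7 i9) * (swap i4 i5 * swap i6 i7) * (swap i6 i8 * swap i7 i9)⁻¹ =
      swap i4 i5 * swap i8 i9 := by
  simp only [List.nodup_cons, List.mem_cons, List.not_mem_nil, or_false, not_or, not_false_eq_true,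
    List.nodup_nil, and_true] at h
  obtain ⟨⟨a1, a2, a3, a4, a5⟩, ⟨a6, a7, a8, a9⟩, ⟨b1, b2, b3⟩, ⟨b4, b5⟩, b6⟩ := h
  have key : ∀ (τ : Perm α) (p q : α), τ * swap p q * τ⁻¹ = swap (τ p) (τ q) := by
    intro τ p q
    rw [mul_swap_eq_swap_mul, mul_inv_cancel_right]
  have e1 : (swap i6 i8 * swap i7 i9) i4 = i4 := by
    rw [Perm.mul_apply, swap_apply_of_ne_of_ne a3 a5, swap_apply_of_ne_of_ne a2 a4]
  have e2 : (swap i6 i8 * swap i7 i9) i5 = i5 := by
    rw [Perm.mul_apply, swap_apply_of_ne_of_ne a7 a9, swap_apply_of_ne_of_ne a6 a8]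
  have e3 : (swap i6 i8 * swap i7 i9) i6 = i8 := by
    rw [Perm.mul_apply, swap_apply_of_ne_of_ne b1 b3, swap_apply_left]
  have e4 : (swap i6 i8 * swap i7 i9) i7 = i9 := by
    rw [Perm.mul_apply, swap_apply_left, swap_apply_of_ne_of_ne (Ne.symm b3) (Ne.symm b6)]
  calc (swap i6 i8 * swap i7 i9) * (swap i4 i5 * swap i6 i7) * (swap i6 i8 * swap i7 i9)⁻¹
      = ((swap i6 i8 * swap i7 i9) * swap i4 i5 * (swap i6 i8 * swap i7 i9)⁻¹) *
        ((swap i6 i8 * swap i7 i9) * swap i6 i7 * (swap i6 i8 * swap i7 i9)⁻¹) := by group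
    _ = _ := by rw [key, key, e1, e2, e3, e4]

end perm

variable {G : Type*} [Group G] [Finite G] {α : Type*} [Fintype α] [DecidableEq α]
  {L : Subgroup G} {S : Finset α}

/-- **existence of the configuration** -/
theorem exists_cfg {x a : G} (T : IsTriple x a L) (M : Mod L S) (h9 : S.card = 9) :
    ∃ r2 r3 v : G, ∃ i4 i5 i6 i7 i8 i9 : α,
      Cfg x a M r2 r3 (x * r3) (x * r2) (r2 * r3) i4 i5 i6 i7 i8 i9 ∧ v ∈ L ∧ x * v = v * x ∧
      v * r2 * v⁻¹ = r3 ∧ v * r3 * v⁻¹ = r2 := by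
  obtain ⟨h3, -⟩ := three_fix T M
  have hxL := T.x_mem
  have hxx := sq_of_order T.invx
  obtain ⟨i4, i5, i6, i7, i8, i9, hnd, ⟨s4, s5, s6, s7, s8, s9⟩, hφx⟩ :=
    exists_points h9 (M.mem_sym x hxL) (M.sq hxL hxx) h3
  have hfa : Fixes a L := Intrinsic.WZero.fixes_of_comm fun _ hy => (comm_c (T.comp.le hy)).symm
  have hnd' := hnd
  simp only [List.nodup_cons, List.mem_cons, List.not_mem_nil, or_false, not_or, not_false_eq_true,
    List.nodup_nil, and_true] at hnd'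
  obtain ⟨⟨a1, a2, a3, a4, a5⟩, ⟨a6, a7, a8, a9⟩, ⟨b1, b2, b3⟩, ⟨b4, b5⟩, b6⟩ := hnd'
  have n4567 : [i4, i5, i6, i7].Nodup := by
    simp only [List.nodup_cons, List.mem_cons, List.not_mem_nil, or_false, not_or, not_false_eq_true,
      List.nodup_nil, and_true]
    tauto
  have n4589 : [i4, i5, i8, i9].Nodup := by
    simp only [List.nodup_cons, List.mem_cons, List.not_mem_nil, or_false, not_or, not_false_eq_true,
      List.nodup_nil, and_true]
    tauto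
  have n6789 : [i6, i7, i8, i9].Nodup := by
    simp only [List.nodup_cons, List.mem_cons, List.not_mem_nil, or_false, not_or, not_false_eq_true,
      List.nodup_nil, and_true]
    tauto
  have n6879 : [i6, i8, i7, i9].Nodup := by
    simp only [List.nodup_cons, List.mem_cons, List.not_mem_nil, or_false, not_or, not_false_eq_true,
      List.nodup_nil, and_true]
    refine ⟨⟨b2, b1, b3⟩, ⟨Ne.symm b4, b6⟩, b5⟩
  obtain ⟨t2, ht2⟩ : ∃ t2, t2 = swap i4 i5 * swap i6 i7 := ⟨_, rfl⟩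
  obtain ⟨t3, ht3⟩ : ∃ t3, t3 = swap i4 i5 * swap i8 i9 := ⟨_, rfl⟩
  obtain ⟨ν, hν⟩ : ∃ ν, ν = swap i6 i8 * swap i7 i9 := ⟨_, rfl⟩
  have c45 : swap i4 i5 * swap i6 i7 = swap i6 i7 * swap i4 i5 := (disjoint_swap_swap n4567).commute
  have c48 : swap i4 i5 * swap i8 i9 = swap i8 i9 * swap i4 i5 := (disjoint_swap_swap n4589).commute
  have c68 : swap i6 i7 * swap i8 i9 = swap i8 i9 * swap i6 i7 := (disjoint_swap_swap n6789).commute
  have c67 : swap i6 i8 * swap i7 i9 = swap i7 i9 * swap i6 i8 := (disjoint_swap_swap n6879).commute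
  have q2 : t2 * t2 = 1 := by
    rw [ht2]
    calc swap i4 i5 * swap i6 i7 * (swap i4 i5 * swap i6 i7)
        = (swap i4 i5 * swap i6 i7) * swap i4 i5 * swap i6 i7 := by group
      _ = (swap i6 i7 * swap i4 i5) * swap i4 i5 * swap i6 i7 := by rw [c45]
      _ = swap i6 i7 * (swap i4 i5 * swap i4 i5) * swap i6 i7 := by group
      _ = 1 := by rw [swap_mul_self, mul_one, swap_mul_self]
  have q3 : t3 * t3 = 1 := by
    rw [ht3]
    calc swap i4 i5 * swap i8 i9 * (swap i4 i5 * swap i8 i9)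
        = (swap i4 i5 * swap i8 i9) * swap i4 i5 * swap i8 i9 := by group
      _ = (swap i8 i9 * swap i4 i5) * swap i4 i5 * swap i8 i9 := by rw [c48]
      _ = swap i8 i9 * (swap i4 i5 * swap i4 i5) * swap i8 i9 := by group
      _ = 1 := by rw [swap_mul_self, mul_one, swap_mul_self]
  have qν : ν * ν = 1 := by
    rw [hν]
    calc swap i6 i8 * swap i7 i9 * (swap i6 i8 * swap i7 i9)
        = (swap i6 i8 * swap i7 i9) * swap i6 i8 * swap i7 i9 := by group
      _ = (swap i7 i9 * swap i6 i8) * swap i6 i8 * swap i7 i9 := by rw [c67]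
      _ = swap i7 i9 * (swap i6 i8 * swap i6 i8) * swap i7 i9 := by group
      _ = 1 := by rw [swap_mul_self, mul_one, swap_mul_self]
  have hνi : ν⁻¹ = ν := inv_eq_of_mul_eq_one_left qν
  have q23 : t2 * t3 = t3 * t2 := by
    have e1 : t2 * t3 = swap i6 i7 * swap i8 i9 := by
      rw [ht2, ht3]
      calc swap i4 i5 * swap i6 i7 * (swap i4 i5 * swap i8 i9)
          = (swap i4 i5 * swap i6 i7) * swap i4 i5 * swap i8 i9 := by group
        _ = (swap i6 i7 * swap i4 i5) * swap i4 i5 * swap i8 i9 := by rw [c45]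
        _ = swap i6 i7 * (swap i4 i5 * swap i4 i5) * swap i8 i9 := by group
        _ = _ := by rw [swap_mul_self, mul_one]
    have e2 : t3 * t2 = swap i8 i9 * swap i6 i7 := by
      rw [ht2, ht3]
      calc swap i4 i5 * swap i8 i9 * (swap i4 i5 * swap i6 i7)
          = (swap i4 i5 * swap i8 i9) * swap i4 i5 * swap i6 i7 := by group
        _ = (swap i8 i9 * swap i4 i5) * swap i4 i5 * swap i6 i7 := by rw [c48]
        _ = swap i8 i9 * (swap i4 i5 * swap i4 i5) * swap i6 i7 := by group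
        _ = _ := by rw [swap_mul_self, mul_one]
    rw [e1, e2, c68]
  have qc2 : ν * t2 * ν⁻¹ = t3 := by
    rw [hν, ht2, ht3]; exact conj_two hnd
  have qc3 : ν * t3 * ν⁻¹ = t2 := by
    rw [← qc2, hνi]
    calc ν * (ν * t2 * ν) * ν = (ν * ν) * t2 * (ν * ν) := by group
      _ = t2 := by rw [qν, one_mul, mul_one]
  -- `σ`
  obtain ⟨σ, hσ⟩ : ∃ σ, σ = M.φ x := ⟨_, rfl⟩
  have x2 : σ * t2 = t2 * σ := by
    rw [hσ, hφx, ht2]
    calc swap i4 i5 * swap i6 i7 * swap i8 i9 * (swap i4 i5 * swap i6 i7)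
        = swap i4 i5 * swap i6 i7 * (swap i8 i9 * swap i4 i5) * swap i6 i7 := by group
      _ = swap i4 i5 * swap i6 i7 * (swap i4 i5 * swap i8 i9) * swap i6 i7 := by rw [c48]
      _ = swap i4 i5 * swap i6 i7 * swap i4 i5 * (swap i8 i9 * swap i6 i7) := by group
      _ = swap i4 i5 * swap i6 i7 * swap i4 i5 * (swap i6 i7 * swap i8 i9) := by rw [c68]
      _ = _ := by group
  have hσν : σ = t2 * swap i8 i9 := by rw [hσ, hφx, ht2]
  have x3 : σ * t3 = t3 * σ := by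
    rw [hσν]
    have e1 : swap i8 i9 * t3 = t3 * swap i8 i9 := by
      rw [ht3]
      calc swap i8 i9 * (swap i4 i5 * swap i8 i9) = (swap i8 i9 * swap i4 i5) * swap i8 i9 := by group
        _ = _ := by rw [c48]
    calc t2 * swap i8 i9 * t3 = t2 * (swap i8 i9 * t3) := by group
      _ = t2 * (t3 * swap i8 i9) := by rw [e1]
      _ = (t2 * t3) * swap i8 i9 := by group
      _ = _ := by rw [q23]; group
  have xν : σ * ν = ν * σ := by
    have key : ∀ (τ : Perm α) (p q : α), τ * swap p q * τ⁻¹ = swap (τ p) (τ q) := by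
      intro τ p q
      rw [mul_swap_eq_swap_mul, mul_inv_cancel_right]
    -- `ν` interchanges `(i₆ i₇)` and `(i₈ i₉)`
    have e1 : ν * (swap i4 i5 * swap i6 i7 * swap i8 i9) * ν⁻¹ =
        (ν * (swap i4 i5 * swap i6 i7) * ν⁻¹) * (ν * swap i8 i9 * ν⁻¹) := by group
    have e2 : ν i8 = i6 := by
      rw [hν, Perm.mul_apply, swap_apply_of_ne_of_ne (Ne.symm b4) b6, swap_apply_right]
    have e3 : ν i9 = i7 := by
      rw [hν, Perm.mul_apply, swap_apply_right, swap_apply_of_ne_of_ne (Ne.symm b1) b4]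
    have e4 : ν * σ * ν⁻¹ = σ := by
      rw [hσ, hφx, e1, ← ht2, qc2, key, e2, e3, ht3, ht2, mul_assoc, ← c68, ← mul_assoc]
    rw [mul_inv_eq_iff_eq_mul] at e4
    exact e4.symm
  -- the group
  obtain ⟨P1, hP1⟩ : ∃ P1, P1 = closure ({t2, t3} : Set (Perm α)) := ⟨_, rfl⟩
  have hP1p : IsPGroup 2 P1 := by
    rw [hP1]
    refine isPGroup_closure ?_ ?_
    · rintro y (rfl | rfl)
      · exact q2
      · exact q3
    · rintro y (rfl | rfl) z (rfl | rfl)
      · rfl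
      · exact q23
      · exact q23.symm
      · rfl
  have hνn : zpowers ν ≤ normalizer (P1 : Set (Perm α)) := by
    rw [zpowers_le, mem_normalizer_iff_cj, hP1]
    have key : ∀ y ∈ ({t2, t3} : Set (Perm α)), ν * y * ν⁻¹ ∈ closure ({t2, t3} : Set (Perm α)) := by
      intro y hy
      rcases hy with rfl | hy
      · rw [qc2]; exact subset_closure (Or.inr rfl)
      · rw [Set.mem_singleton_iff.mp hy, qc3]; exact subset_closure (Or.inl rfl)
    apply le_antisymm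
    · rw [IntrinsicBasic.cj]
      exact (map_le_iff_le_comap).mpr ((closure_le _).mpr key)
    · refine (closure_le _).mpr ?_
      intro y hy
      rcases hy with rfl | hy
      · exact ⟨t3, subset_closure (Or.inr rfl), qc3⟩
      · rw [Set.mem_singleton_iff.mp hy]; exact ⟨t2, subset_closure (Or.inl rfl), qc2⟩
  have hνp : IsPGroup 2 (zpowers ν) := by
    rw [zpowers_eq_closure]
    refine isPGroup_closure ?_ ?_
    · rintro y rfl; exact qν
    · rintro y rfl z rfl; rfl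
  have hQp : IsPGroup 2 ↥(P1 ⊔ zpowers ν) := by
    rw [sup_comm]
    exact IsPGroup.to_sup_of_normal_right' hνp hP1p hνn
  have hQS : P1 ⊔ zpowers ν ≤ alt S := by
    have hsw : ∀ p q u w : α, p ∈ S → q ∈ S → u ∈ S → w ∈ S → [p, q, u, w].Nodup →
        swap p q * swap u w ∈ alt S := by
      intro p q u w hp hq hu hw hn
      simp only [List.nodup_cons, List.mem_cons, List.not_mem_nil, or_false, not_or, not_false_eq_true,
        List.nodup_nil, and_true] at hn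
      refine ⟨?_, fun y hy => ?_⟩
      · change swap p q * swap u w ∈ alternatingGroup α
        rw [Perm.mem_alternatingGroup, map_mul, sign_swap hn.1.1, sign_swap hn.2.2]
        rfl
      · have ne : ∀ {z : α}, z ∈ S → y ≠ z := fun hz e => hy (by rw [e]; exact hz)
        rw [Perm.mul_apply, swap_apply_of_ne_of_ne (ne hu) (ne hw), swap_apply_of_ne_of_ne (ne hp) (ne hq)]
    refine sup_le ?_ ?_
    · rw [hP1]
      refine (closure_le _).mpr ?_
      intro y hy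
      rcases hy with rfl | hy
      · rw [ht2]; exact hsw _ _ _ _ s4 s5 s6 s7 n4567
      · rw [Set.mem_singleton_iff.mp hy, ht3]; exact hsw _ _ _ _ s4 s5 s8 s9 n4589
    · rw [zpowers_le, hν]
      exact hsw _ _ _ _ s6 s8 s7 s9 n6879
  have hPc : IsPGroup 2 (closure ({x, a} : Set G)) := by
    refine isPGroup_closure ?_ ?_
    · intro y hy
      rcases hy with rfl | hy
      · exact hxx
      · rw [Set.mem_singleton_iff.mp hy]; exact sq_of_order T.inva
    · intro y hy z hz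
      rcases hy with rfl | hy
      · rcases hz with rfl | hz
        · rfl
        · rw [Set.mem_singleton_iff.mp hz]; exact T.comm.symm
      · rw [Set.mem_singleton_iff.mp hy]
        rcases hz with rfl | hz
        · exact T.comm
        · rw [Set.mem_singleton_iff.mp hz]
  have hPN : closure ({x, a} : Set G) ≤ normalizer (L : Set G) := by
    refine (closure_le _).mpr ?_
    intro y hy
    rcases hy with rfl | hy
    · exact hxL
    · rw [Set.mem_singleton_iff.mp hy]; exact hfa.1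
  have hcm : ∀ p ∈ closure ({x, a} : Set G), ∀ τ ∈ P1 ⊔ zpowers ν, M.φ p * τ = τ * M.φ p := by
    have h1 : P1 ⊔ zpowers ν ≤ centralizer ({σ} : Set (Perm α)) := by
      refine sup_le ?_ ?_
      · rw [hP1]
        refine (closure_le _).mpr ?_
        intro y hy
        rcases hy with rfl | hy
        · exact mem_centralizer_singleton_iff.mpr x2.symm
        · rw [Set.mem_singleton_iff.mp hy]; exact mem_centralizer_singleton_iff.mpr x3.symm
      · rw [zpowers_le]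
        exact mem_centralizer_singleton_iff.mpr xν.symm
    intro p hp τ hτ
    have h2 := mem_centralizer_singleton_iff.mp (h1 hτ)
    refine closure_induction (p := fun p _ => M.φ p * τ = τ * M.φ p) ?_ ?_ ?_ ?_ hp
    · intro y hy
      rcases hy with rfl | hy
      · rw [← hσ]; exact h2.symm
      · rw [Set.mem_singleton_iff.mp hy, (M.fixes_iff hfa.1).mpr hfa, one_mul, mul_one]
    · rw [M.one, one_mul, mul_one]
    · intro y z hy hz h3 h4
      rw [M.mul _ _ (hPN hy) (hPN hz), mul_assoc, h4, ← mul_assoc, h3, mul_assoc]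
    · intro y hy h3
      rw [M.inv (hPN hy), inv_mul_eq_iff_eq_mul, ← mul_assoc, h3, mul_inv_cancel_right]
  obtain ⟨Q, hQL, -, hQP, -, hQl, hQ1⟩ := M.exists_group_lift hPc hPN hQp hQS hcm
  have m2 : t2 ∈ P1 ⊔ zpowers ν := (le_sup_left : P1 ≤ _) (hP1 ▸ subset_closure (Or.inl rfl))
  have m3 : t3 ∈ P1 ⊔ zpowers ν := (le_sup_left : P1 ≤ _) (hP1 ▸ subset_closure (Or.inr rfl))
  have mν : ν ∈ P1 ⊔ zpowers ν := (le_sup_right : zpowers ν ≤ _) (mem_zpowers ν)
  obtain ⟨r2, hr2, hφ2⟩ := hQl t2 m2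
  obtain ⟨r3, hr3, hφ3⟩ := hQl t3 m3
  obtain ⟨v, hv, hφv⟩ := hQl ν mν
  have hQN : ∀ {q : G}, q ∈ Q → q ∈ normalizer (L : Set G) := fun hq => le_normalizer (hQL hq)
  have hinj : ∀ {p q : G}, p ∈ Q → q ∈ Q → M.φ p = M.φ q → p = q := by
    intro p q hp hq h
    have h1 : M.φ (p⁻¹ * q) = 1 := by
      rw [M.mul _ _ (inv_mem (hQN hp)) (hQN hq), M.inv (hQN hp), h, inv_mul_cancel]
    exact inv_mul_eq_one.mp (hQ1 _ (mul_mem (inv_mem hp) hq) h1)
  have e22 : r2 * r2 = 1 := hinj (mul_mem hr2 hr2) (one_mem _) (by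
    rw [M.mul _ _ (hQN hr2) (hQN hr2), hφ2, q2, M.one])
  have e33 : r3 * r3 = 1 := hinj (mul_mem hr3 hr3) (one_mem _) (by
    rw [M.mul _ _ (hQN hr3) (hQN hr3), hφ3, q3, M.one])
  have e23 : r2 * r3 = r3 * r2 := hinj (mul_mem hr2 hr3) (mul_mem hr3 hr2) (by
    rw [M.mul _ _ (hQN hr2) (hQN hr3), M.mul _ _ (hQN hr3) (hQN hr2), hφ2, hφ3, q23])
  have ev2 : v * r2 * v⁻¹ = r3 := hinj (mul_mem (mul_mem hv hr2) (inv_mem hv)) hr3 (by
    rw [M.conj (hQN hv) (hQN hr2), hφv, hφ2, hφ3, qc2])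
  have ev3 : v * r3 * v⁻¹ = r2 := hinj (mul_mem (mul_mem hv hr3) (inv_mem hv)) hr2 (by
    rw [M.conj (hQN hv) (hQN hr3), hφv, hφ2, hφ3, qc3])
  have hx : ∀ q ∈ Q, x * q = q * x := fun q hq => (hQP q hq x (subset_closure (Or.inl rfl))).symm
  exact ⟨r2, r3, v, i4, i5, i6, i7, i8, i9, ⟨T, h9, hnd, hQL hr2, hQL hr3, e22, e33, e23, hx _ hr2,
    hx _ hr3, rfl, rfl, rfl, hφx, hφ2.trans ht2, hφ3.trans ht3⟩, hQL hv, hx _ hv, ev2, ev3⟩

end Cfsg.Agent.UGT.A9.Dg
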