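import Cfsg.Agent.UGT.A9.CfgEx

/-!
# NodeA9: existence of the configuration `Cfg`

* `Dg.Cfg.toCfg`: the configuration `Dg.Cfg` gives `Cfg x a M b₃ b₄ v d N` for some `d`, `N = M.cmpT ⟨a, b₃, b₄⟩`.
* `exists_both`: existence of both configurations.
-/

set_option autoImplicit false
set_option linter.unusedSectionVars false

open Cfsg Subgroup Equiv Equiv.Perm
open Cfsg.Agent.SignalizersComponents Cfsg.Agent.Lib
open Cfsg.Agent.SignalizersComponents.IntrinsicBasic
open Cfsg.Agent.Intrinsic.Basic Cfsg.Agent.Intrinsic.Cen Cfsg.Agent.Intrinsic.Diag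
open Cfsg.Agent.McLLyComp.Act
open Cfsg.Agent.UGT.Triple Cfsg.Agent.UGT.LemG Cfsg.Agent.UGT.PumpGen Cfsg.Agent.UGT.RedAlt
open Cfsg.Agent.UAlt Cfsg.Agent.UGT.Iface Cfsg.Agent.UGT.A9.Marker
open scoped commutatorElement

namespace Cfsg.Agent.UGT.A9.Dg.Cfg

variable {G : Type*} [Group G] [Finite G] {α : Type*} [Fintype α] [DecidableEq α]
  {L : Subgroup G} {S : Finset α}
  {x a : G} {M : Mod L S} {r2 r3 b3 b4 r : G} {i4 i5 i6 i7 i8 i9 : α}

/-- `d ∈ O(C(x)) ∩ C(a)` commutes with `b₃` and `b₄` -/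
theorem exists_d (H : Cfg x a M r2 r3 b3 b4 r i4 i5 i6 i7 i8 i9) :
    ∃ d ∈ core (centralizer ({x} : Set G)), d ∈ centralizer ({a} : Set G) ∧
      d * b3 = b3 * d ∧ d * b4 = b4 * d ∧ ¬ Fixes d L := by
  obtain ⟨h3, hD⟩ := three_fix H.T M
  obtain ⟨d, hd, hda, hf⟩ := H.T.bad
  have hdL : d ∈ normalizer (L : Set G) := H.T.mem_normalizer_of_core hd hda
  obtain ⟨F, hF⟩ : ∃ F : Subgroup G, ∀ e, e ∈ F ↔ e ∈ core (centralizer ({x} : Set G)) ∧
      e ∈ centralizer ({a} : Set G) ∧ Fixes e L := by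
    refine ⟨{ carrier := {e | e ∈ core (centralizer ({x} : Set G)) ∧
        e ∈ centralizer ({a} : Set G) ∧ Fixes e L}
              mul_mem' := ?_
              one_mem' := ?_
              inv_mem' := ?_ }, fun e => Iff.rfl⟩
    · rintro e e' ⟨h1, h2, h3⟩ ⟨h1', h2', h3'⟩
      exact ⟨mul_mem h1 h1', mul_mem h2 h2', fixes_mul h3 h3'⟩
    · exact ⟨one_mem _, one_mem _, fixes_one L⟩
    · rintro e ⟨h1, h2, h3⟩
      exact ⟨inv_mem h1, inv_mem h2, fixes_inv h3⟩
  have hFodd : Odd (Nat.card F) :=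
    Odd.of_dvd_nat (odd_card_core (centralizer ({x} : Set G)))
      (card_dvd_of_le fun e he => ((hF e).mp he).1)
  obtain ⟨P, hP⟩ : ∃ P, P = PP x a r2 r3 := ⟨_, rfl⟩
  have hPx : ∀ p ∈ P, p * x = x * p := fun p hp => H.comm (hP ▸ hp) H.mx
  have hPa : ∀ p ∈ P, p * a = a * p := fun p hp => H.comm (hP ▸ hp) H.ma
  have hPN : ∀ p ∈ P, p ∈ normalizer (L : Set G) := fun p hp => H.PN (hP ▸ hp)
  have hPp : IsPGroup 2 P := by
    rintro ⟨p, hp⟩
    refine ⟨1, Subtype.ext ?_⟩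
    show p ^ 2 ^ 1 = 1
    rw [pow_one, pow_two]
    exact H.sq (hP ▸ hp)
  have hPF : ∀ p ∈ P, ∀ e ∈ F, p * e * p⁻¹ ∈ F := by
    intro p hp e he
    obtain ⟨e1, e2, e3⟩ := (hF e).mp he
    refine (hF _).mpr ⟨conj_core (mem_c (hPx p hp)) e1, ?_, fixes_conj e3 (hPN p hp)⟩
    exact mul_mem (mul_mem (mem_c (hPa p hp)) e2) (inv_mem (mem_c (hPa p hp)))
  have hPn : P ≤ normalizer (F : Set G) := by
    intro p hp
    rw [mem_normalizer_iff]
    intro e
    refine ⟨hPF p hp e, fun h => ?_⟩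
    have e1 := hPF p⁻¹ (inv_mem hp) _ h
    convert e1 using 1
    group
  -- every member of `P` is trivial on the fixed points of `x`
  have hfix : ∀ p ∈ P, ∀ i ∈ fixIn S (M.φ x), M.φ p i = i := by
    have h1 : PP x a r2 r3 ≤ closure {x, a, b3, b4} := by
      refine (closure_le _).mpr ?_
      have mx : x ∈ closure ({x, a, b3, b4} : Set G) := subset_closure (by simp)
      have m3 : b3 ∈ closure ({x, a, b3, b4} : Set G) := subset_closure (by simp)
      have m4 : b4 ∈ closure ({x, a, b3, b4} : Set G) := subset_closure (by simp)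
      have e2 : r2 = x * b4 := by rw [H.e4, ← mul_assoc, H.xx, one_mul]
      have e3 : r3 = x * b3 := by rw [H.e3, ← mul_assoc, H.xx, one_mul]
      intro y hy
      simp only [Set.mem_insert_iff, Set.mem_singleton_iff] at hy
      rcases hy with rfl | rfl | h | h
      · exact mx
      · exact subset_closure (by simp)
      · rw [h, e2]; exact mul_mem mx m4
      · rw [h, e3]; exact mul_mem mx m3
    have hN : closure ({x, a, b3, b4} : Set G) ≤ normalizer (L : Set G) := by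
      refine (closure_le _).mpr ?_
      intro y hy
      simp only [Set.mem_insert_iff, Set.mem_singleton_iff] at hy
      rcases hy with rfl | rfl | rfl | rfl
      · exact H.Nx
      · exact H.Na
      · exact H.Nb3
      · exact H.Nb4
    intro p hp i hi
    have hp' := h1 (hP ▸ hp)
    refine closure_induction (p := fun p _ => M.φ p i = i) ?_ ?_ ?_ ?_ hp'
    · intro y hy
      simp only [Set.mem_insert_iff, Set.mem_singleton_iff] at hy
      rcases hy with rfl | rfl | rfl | rfl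
      · exact (mem_fixIn.mp hi).2
      · rw [H.φa]; rfl
      · exact (mem_fixIn.mp (H.fix_x_b3 hi)).2
      · exact (mem_fixIn.mp (H.fix_x_b4 hi)).2
    · rw [M.one]; rfl
    · intro y z hy hz e1 e2
      rw [M.mul _ _ (hN hy) (hN hz), Perm.mul_apply, e2, e1]
    · intro y hy e1
      rw [M.inv (hN hy), Perm.inv_eq_iff_eq, e1]
  have hmem : ∀ p ∈ P, d⁻¹ * (p * d * p⁻¹) ∈ F := by
    intro p hp
    have hpdN : p * d * p⁻¹ ∈ normalizer (L : Set G) :=
      mul_mem (mul_mem (hPN p hp) hdL) (inv_mem (hPN p hp))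
    refine (hF _).mpr ⟨mul_mem (inv_mem hd) (conj_core (mem_c (hPx p hp)) hd), ?_, ?_⟩
    · exact mul_mem (inv_mem hda) (mul_mem (mul_mem (mem_c (hPa p hp)) hda) (inv_mem (mem_c (hPa p hp))))
    · rw [← M.fixes_iff (mul_mem (inv_mem hdL) hpdN), M.mul _ _ (inv_mem hdL) hpdN,
        M.conj (hPN p hp) hdL, M.inv hdL]
      have h6 : M.φ p * M.φ d = M.φ d * M.φ p :=
        UAlt.comm_of_fix (T := fixIn S (M.φ x)) (hfix p hp) (alt_le_sym _ (hD d ⟨hd, hda⟩))
      rw [h6]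
      group
  obtain ⟨o, ho, hco⟩ := Intrinsic.Lifting.exists_commute_group hFodd hPp hPn hmem
  obtain ⟨ho1, ho2, ho3⟩ := (hF o).mp ho
  exact ⟨d * o, mul_mem hd ho1, mul_mem hda ho2, (hco b3 (hP ▸ H.mb3)).symm, (hco b4 (hP ▸ H.mb4)).symm,
    fun h => hf ((fixes_mul_iff_left ho3).mp h)⟩

theorem part_b3 (H : Cfg x a M r2 r3 b3 b4 r i4 i5 i6 i7 i8 i9) {d : G}
    (hd : d ∈ core (centralizer ({x} : Set G))) (hda : d ∈ centralizer ({a} : Set G))
    (hd3 : d * b3 = b3 * d) (hf : ¬ Fixes d L) : Part x a M (x * b3) b3 d := by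
  have e3 : x * b3 = r3 := by rw [H.e3, ← mul_assoc, H.xx, one_mul]
  have hdx : d * x = x * d := comm_c (core_le _ hd)
  have hb3 : b3 ≠ 1 := by
    intro h
    have h1 := H.φb3
    rw [h, M.one] at h1
    have h2 := congrArg (fun f : Perm α => f i6) h1
    simp only [Perm.one_apply, swap_apply_left] at h2
    exact H.nds.2.2.1.1 h2
  have hbb : b3 * b3 = 1 := H.sq H.mb3
  rw [e3]
  have hxφ : M.φ x = swap i6 i7 * M.φ r3 := by
    have h1 : x = b3 * r3 := by rw [H.e3, mul_assoc, H.s3, mul_one]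
    conv_lhs => rw [h1]
    rw [M.mul _ _ H.Nb3 H.N3, H.φb3]
  have hnd := H.nds
  have r36 : M.φ r3 i6 = i6 := by
    rw [H.φ3, Perm.mul_apply, swap_apply_of_ne_of_ne hnd.2.2.1.2.1 hnd.2.2.1.2.2,
      swap_apply_of_ne_of_ne (Ne.symm hnd.1.2.1) (Ne.symm hnd.2.1.1)]
  have r37 : M.φ r3 i7 = i7 := by
    rw [H.φ3, Perm.mul_apply, swap_apply_of_ne_of_ne hnd.2.2.2.1.1 hnd.2.2.2.1.2,
      swap_apply_of_ne_of_ne (Ne.symm hnd.1.2.2.1) (Ne.symm hnd.2.1.2.1)]
  have h5 : 5 ≤ (fixIn S (M.φ b3)).card := by rw [H.card_b3]; omega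
  exact
    { rL := H.L3
      rr := H.s3
      xr := H.cx3
      ceq := H.e3
      invc := orderOf_eq_prime (by rw [pow_two]; exact hbb) hb3
      ca := H.comm H.mb3 H.ma
      cx := H.comm H.mb3 H.mx
      cN := H.Nb3
      rne := by
        intro h
        rw [H.φ3] at h
        have h2 := congrArg (fun f : Perm α => f i8) h
        simp only [Perm.mul_apply, Perm.one_apply, swap_apply_left] at h2
        rw [swap_apply_of_ne_of_ne (Ne.symm hnd.1.2.2.2.2) (Ne.symm hnd.2.1.2.2.2)] at h2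
        exact hnd.2.2.2.2 h2.symm
      part := by
        intro i
        by_cases h6 : i = i6
        · left; rw [h6, r36]
        by_cases h7 : i = i7
        · left; rw [h7, r37]
        right
        rw [hxφ, Perm.mul_apply, swap_apply_of_ne_of_ne]
        · intro h; exact h6 ((M.φ r3).injective (h.trans r36.symm))
        · intro h; exact h7 ((M.φ r3).injective (h.trans r37.symm))
      five := h5
      comp := M.isComp_cmp_of H.T.comp H.Nb3 hbb h5
      mem := by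
        refine M.mem_cmp H.L3 (H.comm H.mb3 H.m3) ?_ (n := 1) (by rw [pow_one, pow_two, H.s3])
        refine ⟨(M.mem_alt r3 H.L3).1, fun i hi => ?_⟩
        rw [H.fix_b3, Finset.mem_sdiff, not_and, not_not] at hi
        by_cases hiS : i ∈ S
        · have h1 := hi hiS
          rw [Finset.mem_insert, Finset.mem_singleton] at h1
          rcases h1 with rfl | rfl
          · exact r36
          · exact r37
        · exact (M.mem_alt r3 H.L3).2 i hiS
      dD := hd
      da := hda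
      dc := mem_c hd3
      dr := by
        rw [← e3]
        calc d * (x * b3) = (d * x) * b3 := by group
          _ = x * (d * b3) := by rw [hdx]; group
          _ = _ := by rw [hd3]; group
      df := not_fixes_cmp H.T M hbb H.Nb3 H.fix_x_b3 h5 hd hda hf }

theorem toCfg (H : Cfg x a M r2 r3 b3 b4 r i4 i5 i6 i7 i8 i9) {v : G} (hv : v ∈ L)
    (hxv : x * v = v * x) (h2 : v * r2 * v⁻¹ = r3) (h3 : v * r3 * v⁻¹ = r2) :
    ∃ d, A9.Cfg x a M b3 b4 v d (M.cmpT (UU a b3 b4)) := by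
  obtain ⟨d, hd, hda, hd3, hd4, hf⟩ := H.exists_d
  have hvx : v * x * v⁻¹ = x := by rw [← hxv, mul_inv_cancel_right]
  have hFr : fixIn S (M.φ (b3 * b4)) = S \ {i6, i7, i8, i9} := by rw [← H.rb, H.fix_r]
  refine ⟨d, ⟨H.T, H.card, H.part_b3 hd hda hd3 hf, H.symm.part_b3 hd hda hd4 hf,
    H.comm H.mb3 H.mb4, H.rb ▸ H.Lr, hv, ?_, ?_, ?_, ?_, (M.cmpT_le _), ?_, ?_, ?_⟩⟩
  · rw [H.e3, H.e4]
    calc v * (x * r3) * v⁻¹ = (v * x * v⁻¹) * (v * r3 * v⁻¹) := by group
      _ = x * r2 := by rw [hvx, h3]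
  · rw [H.e3, H.e4]
    calc v * (x * r2) * v⁻¹ = (v * x * v⁻¹) * (v * r2 * v⁻¹) := by group
      _ = x * r3 := by rw [hvx, h2]
  · exact ⟨i6, i7, i8, i9, H.inS.2.2.1, H.inS.2.2.2.1, H.inS.2.2.2.2.1, H.inS.2.2.2.2.2, H.nd6789,
      H.φb3, H.φb4⟩
  · have h1 := M.isComp_cmpT_of H.T.comp H.U2 H.UN (by rw [H.card_FU])
    have h2 : centralizer ({a} : Set G) ⊓ centralizer (UU a b3 b4 : Set G) =
        centralizer ({a} : Set G) ⊓ centralizer ({b3} : Set G) ⊓ centralizer ({b4} : Set G) := by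
      rw [UU, centralizer_closure]
      ext y
      simp only [mem_inf, mem_centralizer_iff, Set.mem_insert_iff, Set.mem_singleton_iff,
        forall_eq_or_imp, forall_eq]
      tauto
    rw [← h2]
    exact h1
  · intro n hn
    rw [hFr, ← H.FU]
    exact M.cmpT_mem_alt hn
  · intro σ hσ
    rw [hFr] at hσ
    exact H.N_lift hσ
  · intro h
    exact hf ((M.fixes_iff (H.T.mem_normalizer_of_core hd hda)).mp h)

end Cfsg.Agent.UGT.A9.Dg.Cfg

namespace Cfsg.Agent.UGT.A9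

variable {G : Type*} [Group G] [Finite G] {α : Type*} [Fintype α] [DecidableEq α]
  {L : Subgroup G} {S : Finset α}

/-- **existence of the configurations** -/
theorem exists_both {x a : G} (T : IsTriple x a L) (M : Mod L S) (h9 : S.card = 9) :
    ∃ r2 r3 b3 b4 v d : G, ∃ i4 i5 i6 i7 i8 i9 : α,
      Dg.Cfg x a M r2 r3 b3 b4 (b3 * b4) i4 i5 i6 i7 i8 i9 ∧
      Cfg x a M b3 b4 v d (M.cmpT (Dg.UU a b3 b4)) := by
  obtain ⟨r2, r3, v, i4, i5, i6, i7, i8, i9, H, hv, hxv, h2, h3⟩ := Dg.exists_cfg T M h9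
  obtain ⟨d, hd⟩ := H.toCfg hv hxv h2 h3
  refine ⟨r2, r3, x * r3, x * r2, v, d, i4, i5, i6, i7, i8, i9, ?_, hd⟩
  rw [← H.rb]
  exact H

end Cfsg.Agent.UGT.A9
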