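import Cfsg.Agent.UGT.A9.TZero

/-!
# NodeA9: case `Dbl` does not depend on the root

* `Dbl.cj`: conjugation by members of `L`.
* `dbl_all`: `Dbl` at one root gives `Dbl` at all roots.
* `not_dbl_of_sgl`: `Sgl` at one root excludes `Dbl` at every root.
-/

set_option autoImplicit false
set_option linter.unusedSectionVars false

open Cfsg Subgroup Equiv Equiv.Perm
open Cfsg.Agent.SignalizersComponents Cfsg.Agent.Lib
open Cfsg.Agent.SignalizersComponents.IntrinsicBasic
open Cfsg.Agent.Intrinsic Cfsg.Agent.Intrinsic.Basic Cfsg.Agent.Intrinsic.Cen Cfsg.Agent.Intrinsic.Diag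
open Cfsg.Agent.UAlt Cfsg.Agent.UGT.Triple Cfsg.Agent.UGT.A9.Dg Cfsg.Agent.UGT.A9.Marker
open scoped commutatorElement

namespace Cfsg.Agent.UGT.A9

variable {G : Type*} [Group G] [Finite G] {α : Type*} [Fintype α] [DecidableEq α]
  {L : Subgroup G} {S : Finset α} {M : Mod L S} {x a v w : G} {K : Subgroup G}

theorem Dbl.cj (h9 : S.card = 9) (hv : M.Rt v) (h : Dbl M a v K) {l : G} (hl : l ∈ L)
    (hla : l * a = a * l) : Dbl M a (l * v * l⁻¹) (cj l K) where
  comp := by
    have h1 := h.comp.cj l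
    rwa [cj_centralizer] at h1
  ne := by
    rw [← cj_mul, ← hla, cj_mul]
    exact fun e => h.ne (cj_injective l e)
  eq := by
    rw [cmp_conj_root h9 hv hl, h.eq, cj_diag, cj_centralizer, hla, mul_inv_cancel_right]

theorem dbl_all (T : IsTriple x a L) (h9 : S.card = 9) (hv : M.Rt v) (h : Dbl M a v K) (hw : M.Rt w) :
    ∃ K', Dbl M a w K' := by
  obtain ⟨l, hl, rfl⟩ := hv.conj hw
  exact ⟨_, Dbl.cj h9 hv h hl (comm_of_triple T hl)⟩

/-- `Sgl` and `Dbl` at the same root exclude each other -/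
theorem not_dbl_of_sgl' (T : IsTriple x a L) (h9 : S.card = 9) (hv : M.Rt v) (h : Sgl M a v K)
    {K' : Subgroup G} (h' : Dbl M a v K') : False := by
  have hC := isComp_cmp_root h9 hv
  have hm : Mkr (M.cmp v) := Mkr.of_comp hC
  have haX : a ∈ centralizer ({v} : Set G) := mem_c (comm_of_triple T hv.mem).symm
  have haa : a * a = 1 := sq_of_order T.inva
  rcases Marker.eq_or_of_diag h'.comp haX haa h'.ne (le_of_eq h'.eq) (mark_of_le hm h.comp h.le) with h3 | h3
  · exact h'.ne (h3 ▸ mem_normalizer_iff_cj.mp h.norm)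
  · have h4 := mem_normalizer_iff_cj.mp h.norm
    rw [h3, ← cj_mul, haa, cj_one] at h4
    exact h'.ne h4.symm

/-- `Sgl` at one root excludes `Dbl` at every root -/
theorem not_dbl_of_sgl (T : IsTriple x a L) (h9 : S.card = 9) (hv : M.Rt v) (h : Sgl M a v K)
    (hw : M.Rt w) {K' : Subgroup G} (h' : Dbl M a w K') : False := by
  obtain ⟨K2, h2⟩ := dbl_all T h9 hw h' hv
  exact not_dbl_of_sgl' T h9 hv h h2

end Cfsg.Agent.UGT.A9
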