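import Cfsg.Agent.UGT.A9.DgFour

/-!
# NodeA9, (3.2d), part 2: the elements `h`, `k = h^a`, `k' ∈ {k, k b₄}` and the marker `I'`
-/

set_option autoImplicit false
set_option linter.unusedSectionVars false

open Cfsg Subgroup Equiv Equiv.Perm
open Cfsg.Agent.SignalizersComponents Cfsg.Agent.Lib
open Cfsg.Agent.SignalizersComponents.IntrinsicBasic
open Cfsg.Agent.SignalizersComponents.IntrinsicIntr
open Cfsg.Agent.SignalizersComponents.PLayerAut
open Cfsg.Agent.Intrinsic Cfsg.Agent.Intrinsic.Basic Cfsg.Agent.Intrinsic.Cen Cfsg.Agent.Intrinsic.Diag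
open Cfsg.Agent.McLLyComp.Act
open Cfsg.Agent.UGT.Triple Cfsg.Agent.UGT.LemG Cfsg.Agent.UGT.PumpGen Cfsg.Agent.UGT.RedAlt
open Cfsg.Agent.UAlt Cfsg.Agent.UGT.Iface Cfsg.Agent.UGT.A9.Marker
open scoped commutatorElement

namespace Cfsg.Agent.UGT.A9.Dg

universe u

/-- a permutation fixing all points but `p`, `q` -/
theorem eq_one_or_swap {α : Type*} [DecidableEq α] {σ : Perm α} {p q : α}
    (h : ∀ i, i ≠ p → i ≠ q → σ i = i) : σ = 1 ∨ σ = swap p q := by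
  by_cases hp : σ p = p
  · left
    ext i
    rw [Perm.one_apply]
    by_cases h1 : i = p
    · rw [h1, hp]
    · by_cases h2 : i = q
      · subst h2
        by_contra hne
        have h3 : σ i ≠ p := fun e => h1 (σ.injective (e.trans hp.symm))
        exact hne (σ.injective (h _ h3 hne))
      · exact h i h1 h2
  · right
    have hpq : σ p = q := by
      by_contra hne
      exact hp (σ.injective (h _ hp hne))
    have hqp : σ q = p := by
      by_contra hne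
      have h1 : σ q ≠ q := fun e => hp (by
        have := σ.injective (hpq.trans e.symm)
        rw [hpq, this])
      exact h1 (σ.injective (h _ hne h1))
    ext i
    by_cases h1 : i = p
    · rw [h1, swap_apply_left, hpq]
    · by_cases h2 : i = q
      · rw [h2, swap_apply_right, hqp]
      · rw [swap_apply_of_ne_of_ne h1 h2, h i h1 h2]

variable {G : Type u} [Group G] [Finite G] {α : Type*} [Fintype α] [DecidableEq α]
  {L : Subgroup G} {S : Finset α}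

/-- the state of (3.2d) -/
structure St (x a : G) (M : Mod L S) (r2 b3 b4 r : G) (i4 i5 i6 i7 i8 i9 : α)
    {Kr K4 K3 : Subgroup G} (A4 : Mod K4 (fixIn S (M.φ b4))) (A3 : Mod K3 (fixIn S (M.φ b3)))
    (h k k' : G) (J : Subgroup G) : Prop where
  hr : Dbl M a r Kr
  T4 : IsTriple x b4 K4
  T3 : IsTriple x b3 K3
  n4 : b3 ∈ normalizer (K4 : Set G)
  n3 : b4 ∈ normalizer (K3 : Set G)
  A4b3 : A4.φ b3 = swap i6 i7
  A3b4 : A3.φ b4 = swap i8 i9
  hK : h ∈ K4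
  hh : h * h = 1
  hφ : A4.φ h = swap i4 i5 * swap i6 i7
  hb3 : h * b3 = b3 * h
  hk : h * k = k * h
  hkr : h * k = r2
  kk : k * k = 1
  kb3 : k * b3 = b3 * k
  kb4 : k * b4 = b4 * k
  fk4 : Fixes k K4
  or : k' = k ∨ k' = k * b4
  ne1 : k' ≠ 1
  f3 : Fixes k' K3
  f4 : Fixes k' K4
  mkr : Mkr J
  Jp : PComponents.pElem 2 J = J
  Jb3 : J ≤ centralizer ({b3} : Set G)
  Jb4 : J ≤ centralizer ({b4} : Set G)
  Jk : J ≤ centralizer ({k} : Set G)
  JKr : J ≤ Kr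
  JK4 : J ≤ K4
  JK3 : J ≤ K3
  Jl : ∀ σ ∈ alt (S \ {i6, i7, i8, i9}), ∃ y ∈ J, A4.φ y = σ

namespace Cfg

variable {x a : G} {M : Mod L S} {r2 r3 b3 b4 r : G} {i4 i5 i6 i7 i8 i9 : α}
  (H : Cfg x a M r2 r3 b3 b4 r i4 i5 i6 i7 i8 i9)

include H

theorem xeq : x = b4 * r2 := by
  rw [H.e4, mul_assoc, H.s2, mul_one]

theorem kappa_ne : swap i4 i5 * swap i6 i7 ≠ 1 := by
  intro h
  have := Equiv.congr_fun h i6
  rw [Perm.mul_apply, swap_apply_left, Perm.one_apply,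
    swap_apply_of_ne_of_ne (Ne.symm H.nds.1.2.2.1) (Ne.symm H.nds.2.1.2.1)] at this
  exact H.nds.2.2.1.1 this.symm

theorem fixF4 : fixIn (fixIn S (M.φ b4)) (swap i6 i7) = S \ {i6, i7, i8, i9} := by
  rw [← H.φb3]; exact H.fix_b4_b3

/-- lifting labels to a subgroup covering `cmp b₃` -/
theorem lift_J {K4 : Subgroup G} (A4 : Mod K4 (fixIn S (M.φ b4)))
    (n4 : b3 ∈ normalizer (K4 : Set G)) (hA : A4.φ b3 = swap i6 i7) {I J : Subgroup G}
    (hI : IsComp (K4 ⊓ centralizer ({b3} : Set G)) I) (hJ : J ⊔ core I = I) :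
    ∀ σ ∈ alt (S \ {i6, i7, i8, i9}), ∃ y ∈ J, A4.φ y = σ := by
  intro σ hσ
  obtain ⟨h1, h2⟩ := (A4.isComp_iff_cmp n4 H.ok3.sq).mp hI
  have h3 : fixIn (fixIn S (M.φ b4)) (A4.φ b3) = S \ {i6, i7, i8, i9} := by rw [hA, H.fixF4]
  obtain ⟨i, hi, hiσ⟩ := A4.cmp_lift n4 H.ok3.sq h2 (σ := σ) (by rw [h3]; exact hσ)
  have hiI : i ∈ I := by rw [h1]; exact hi
  obtain ⟨j, hj, hc⟩ := exists_mul_of_sup hJ hiI
  have hJI : J ≤ I := by rw [← hJ]; exact le_sup_left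
  refine ⟨j, hj, ?_⟩
  rw [← hiσ, A4.eq_iff (A4.cmp_le b3 (by rw [← h1]; exact hJI hj)) (A4.cmp_le b3 hi)]
  rw [h1] at hc
  exact A4.core_cmp_le n4 H.ok3.sq h2 hc

/-- **the state exists** -/
theorem exists_St (W : W9 G) {Kr : Subgroup G} (hr : Dbl M a r Kr) :
    ∃ (K4 K3 : Subgroup G) (A4 : Mod K4 (fixIn S (M.φ b4))) (A3 : Mod K3 (fixIn S (M.φ b3)))
      (h k k' : G) (J : Subgroup G),
      St (Kr := Kr) x a M r2 b3 b4 r i4 i5 i6 i7 i8 i9 A4 A3 h k k' J := by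
  obtain ⟨K4, T4, h4, h4n, hI4, hI4c⟩ := H.exists_K4 W hr
  obtain ⟨K3, T3, h3, h3n, hI3, hI3c⟩ := H.exists_K3 W hr
  obtain ⟨A4, hA4, hA4'⟩ := h4.exists_mod W H.T H.ok4
  obtain ⟨A3, hA3, hA3'⟩ := h3.exists_mod W H.T H.ok3
  have n4 : b3 ∈ normalizer (K4 : Set G) := mem_normalizer_iff_cj.mpr h4n
  have n3 : b4 ∈ normalizer (K3 : Set G) := mem_normalizer_iff_cj.mpr h3n
  have e43 : A4.φ b3 = swap i6 i7 := H.lab3 n4 (hA4' b3 H.Nb3 (H.comm H.mb3 H.mb4) n4)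
  have e34 : A3.φ b4 = swap i8 i9 := H.symm.lab3 n3 (hA3' b4 H.Nb4 (H.comm H.mb4 H.mb3) n3)
  obtain ⟨h, hK, hh, hφ, hb3, hk, hkr⟩ := H.exists_h h4 h4n hA4 e43
  have hai : a⁻¹ = a := inv_eq_of_mul_eq_one_left H.aa
  have haX : a ∈ centralizer ({b4} : Set G) := H.cc H.ma H.mb4
  have hka : a * h * a⁻¹ ∈ cj a K4 := conj_mem_cj hK
  have hacomp := isComp_cj_of_mem h4.comp haX
  have hhk : h = a⁻¹ * (a * h * a⁻¹) * a := by group
  obtain ⟨k, hkdef⟩ : ∃ k, k = a * h * a⁻¹ := ⟨_, rfl⟩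
  rw [← hkdef] at hk hkr hka hhk
  have hkk : k * k = 1 := by
    rw [hkdef, show a * h * a⁻¹ * (a * h * a⁻¹) = a * (h * h) * a⁻¹ by group, hh]
    group
  have hkb4 : k * b4 = b4 * k := comm_c (hacomp.le hka)
  have hab3 : a * b3 = b3 * a := H.comm H.ma H.mb3
  have hkb3 : k * b3 = b3 * k := by
    rw [hkdef, hai]
    calc a * h * a * b3 = a * h * (a * b3) := by group
      _ = a * (h * b3) * a := by rw [hab3]; group
      _ = (a * b3) * h * a := by rw [hb3]; group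
      _ = b3 * (a * h * a) := by rw [hab3]; group
  have fk4 : Fixes k K4 := h4.comp.fixes_of_mem hacomp (Ne.symm h4.ne) hka
  -- `I`, `J`
  have hI : IsComp (centralizer ({b4} : Set G) ⊓ centralizer ({b3} : Set G)) (cen Kr b3) := by
    rw [← H.cent3]
    exact (H.mark_cen_r hr H.u3 (H.norm3 W hr)).1
  have hkI : Fixes k (cen Kr b3) :=
    Marker.fixes_of_pump (H.cc H.mb3 H.mb4) H.ok3.sq hI h4.comp (mem_c hkb4) hkb3 fk4 (Or.inl hI4)
  obtain ⟨hJ, hJs⟩ := isComp_cen hI ⟨mem_c hkb4, mem_c hkb3⟩ hkk hkI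
  have hJI : cen (cen Kr b3) k ≤ cen Kr b3 := cen_le _ _
  have mkr : Mkr (cen (cen Kr b3) k) := Mkr.of_comp hJ
  have Jk : cen (cen Kr b3) k ≤ centralizer ({k} : Set G) := cen_le_centralizer _ _
  have JK3 : cen (cen Kr b3) k ≤ K3 := hJI.trans hI3
  -- `k` on `K₃`
  have nk3 : k ∈ normalizer (K3 : Set G) := norm_of_comm mkr h3.comp JK3 (mem_c hkb3) Jk
  have hl3 := H.symm.lift_J A3 n3 e34 hI3c hJs
  have hF5 : S \ {i8, i9, i6, i7} = S \ {i6, i7, i8, i9} := by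
    congr 1
    ext i
    simp only [Finset.mem_insert, Finset.mem_singleton]
    tauto
  rw [hF5] at hl3
  have hk3 : A3.φ k = 1 ∨ A3.φ k = swap i8 i9 := by
    apply eq_one_or_swap
    intro i h8 h9
    by_cases hi : i ∈ fixIn S (M.φ b3)
    · refine apply_of_comm_alt (S := S \ {i6, i7, i8, i9}) (by rw [H.card_F5]; norm_num)
        (fun σ hσ => ?_) ?_
      · obtain ⟨y, hy, rfl⟩ := hl3 σ hσ
        exact A3.comm nk3 (le_normalizer (JK3 hy)) (comm_c (Jk hy)).symm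
      · rw [H.fix_b3] at hi
        simp only [Finset.mem_sdiff, Finset.mem_insert, Finset.mem_singleton, not_or] at hi ⊢
        exact ⟨hi.1, hi.2.1, hi.2.2, h8, h9⟩
    · exact A3.mem_sym k nk3 i hi
  have fb4 : Fixes b4 K4 :=
    Intrinsic.WZero.fixes_of_comm fun _ hy => (comm_c (h4.comp.le hy)).symm
  obtain ⟨k', hor, hk'3⟩ : ∃ k', (k' = k ∨ k' = k * b4) ∧ A3.φ k' = 1 ∧
      k' ∈ normalizer (K3 : Set G) := by
    rcases hk3 with e | e
    · exact ⟨k, Or.inl rfl, e, nk3⟩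
    · refine ⟨k * b4, Or.inr rfl, ?_, mul_mem nk3 n3⟩
      rw [A3.mul _ _ nk3 n3, e, e34, swap_mul_self]
  have f3 : Fixes k' K3 := (A3.fixes_iff hk'3.2).mp hk'3.1
  have hφne : A4.φ h ≠ 1 := by rw [hφ]; exact H.kappa_ne
  refine ⟨K4, K3, A4, A3, h, k, k', cen (cen Kr b3) k,
    { hr := hr, T4 := T4, T3 := T3, n4 := n4, n3 := n3, A4b3 := e43, A3b4 := e34, hK := hK,
      hh := hh, hφ := hφ, hb3 := hb3, hk := hk, hkr := hkr, kk := hkk, kb3 := hkb3, kb4 := hkb4,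
      fk4 := fk4, or := hor, ne1 := ?_, f3 := f3, f4 := ?_, mkr := mkr, Jp := hJ.pElem_eq,
      Jb3 := hJI.trans (hI.le.trans inf_le_right), Jb4 := hJI.trans (hI.le.trans inf_le_left),
      Jk := Jk, JKr := hJI.trans (cen_le _ _), JK4 := hJI.trans hI4, JK3 := JK3,
      Jl := H.lift_J A4 n4 e43 hI4c hJs }⟩
  · rcases hor with rfl | rfl
    · intro e
      apply hφne
      rw [hhk, e, mul_one, inv_mul_cancel, A4.one]
    · intro e
      apply hφne
      have e1 : k = b4 := by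
        calc k = (k * b4) * b4 := by rw [mul_assoc, H.ok4.sq, mul_one]
          _ = b4 := by rw [e, one_mul]
      have e2 : h = b4 := by
        rw [hhk, e1]
        have h5 : b4 * a = a * b4 := H.comm H.mb4 H.ma
        rw [mul_assoc, h5, inv_mul_cancel_left]
      rw [e2]
      exact (A4.fixes_iff fb4.1).mpr fb4
  · rcases hor with rfl | rfl
    · exact fk4
    · exact fixes_mul fk4 fb4

end Cfg

end Cfsg.Agent.UGT.A9.Dg
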