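import Cfsg.Agent.UGT.A9.DgThree
import Cfsg.Agent.UAlt.CaseDTwo

/-!
# NodeA9, (3.2d), part 1: the involution `h ∈ K_{b₄}` with `h h^a = r₂`

* `exists_lift_two`: lifting of an involution commuting with two commuting involutions.
* `exists_comm_swap'`: `Intrinsic.Diag.exists_comm_swap` with control of the centralizer.
* `Cfg.exists_h`.
-/

set_option autoImplicit false
set_option linter.unusedSectionVars false

open Cfsg Subgroup Equiv Equiv.Perm
open Cfsg.Agent.SignalizersComponents Cfsg.Agent.Lib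
open Cfsg.Agent.SignalizersComponents.IntrinsicBasic
open Cfsg.Agent.SignalizersComponents.IntrinsicIntr
open Cfsg.Agent.SignalizersComponents.PLayerAut
open Cfsg.Agent.Intrinsic Cfsg.Agent.Intrinsic.Basic Cfsg.Agent.Intrinsic.Cen Cfsg.Agent.Intrinsic.Diag
open Cfsg.Agent.McLLyComp.Act
open Cfsg.Agent.UGT.Triple Cfsg.Agent.UGT.LemG Cfsg.Agent.UGT.PumpGen Cfsg.Agent.UGT.RedAlt
open Cfsg.Agent.UAlt Cfsg.Agent.UGT.Iface Cfsg.Agent.UGT.A9.Marker
open scoped commutatorElement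

namespace Cfsg.Agent.UGT.A9.Dg

universe u

variable {G : Type u} [Group G] [Finite G] {α : Type*} [Fintype α] [DecidableEq α]
  {L : Subgroup G} {S : Finset α}

/-- lifting of an involution commuting with two commuting involutions -/
theorem exists_lift_two {K : Subgroup G} {F : Finset α} (A : Mod K F) {u v : G}
    (hu : u ∈ normalizer (K : Set G)) (hv : v ∈ normalizer (K : Set G)) (huu : u * u = 1)
    (hvv : v * v = 1) (huv : u * v = v * u) {σ : Perm α} (hσ : σ ∈ alt F) (hσσ : σ * σ = 1)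
    (hσu : A.φ u * σ = σ * A.φ u) (hσv : A.φ v * σ = σ * A.φ v) :
    ∃ k ∈ K, k * k = 1 ∧ k * u = u * k ∧ k * v = v * k ∧ A.φ k = σ := by
  obtain ⟨P, hP⟩ : ∃ P : Subgroup G, ∀ y, y ∈ P ↔ y = 1 ∨ y = u ∨ y = v ∨ y = u * v := by
    have hui : u⁻¹ = u := inv_eq_of_mul_eq_one_left huu
    have hvi : v⁻¹ = v := inv_eq_of_mul_eq_one_left hvv
    have e1 : u * (u * v) = v := by rw [← mul_assoc, huu, one_mul]
    have e2 : u * v * v = u := by rw [mul_assoc, hvv, mul_one]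
    have e3 : v * (u * v) = u := by rw [huv, ← mul_assoc, hvv, one_mul]
    have e4 : u * v * u = v := by rw [huv, mul_assoc, huu, mul_one]
    have e5 : u * v * (u * v) = 1 := by rw [← mul_assoc, e4, hvv]
    refine ⟨{ carrier := {y | y = 1 ∨ y = u ∨ y = v ∨ y = u * v}
              one_mem' := Or.inl rfl
              mul_mem' := ?_
              inv_mem' := ?_ }, fun y => Iff.rfl⟩
    · intro p q hp hq
      simp only [Set.mem_ofPred_eq] at hp hq ⊢
      rcases hp with rfl | rfl | rfl | rfl <;> rcases hq with rfl | rfl | rfl | rfl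
      · simp
      · simp
      · simp
      · simp
      · simp
      · rw [huu]; simp
      · simp
      · rw [e1]; simp
      · simp
      · rw [← huv]; simp
      · rw [hvv]; simp
      · rw [e3]; simp
      · simp
      · rw [e4]; simp
      · rw [e2]; simp
      · rw [e5]; simp
    · intro p hp
      simp only [Set.mem_ofPred_eq] at hp ⊢
      rcases hp with rfl | rfl | rfl | rfl
      · simp
      · rw [hui]; simp
      · rw [hvi]; simp
      · rw [mul_inv_rev, hui, hvi, ← huv]; simp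
  have hP2 : IsPGroup 2 P := by
    rintro ⟨y, hy⟩
    refine ⟨1, Subtype.ext ?_⟩
    show y ^ 2 ^ 1 = 1
    rw [pow_one, pow_two]
    rcases (hP y).mp hy with rfl | rfl | rfl | rfl
    · rw [one_mul]
    · exact huu
    · exact hvv
    · calc u * v * (u * v) = u * (v * u) * v := by group
        _ = (u * u) * (v * v) := by rw [← huv]; group
        _ = 1 := by rw [huu, hvv, one_mul]
  have hPN : P ≤ normalizer (K : Set G) := by
    intro y hy
    rcases (hP y).mp hy with rfl | rfl | rfl | rfl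
    · exact one_mem _
    · exact hu
    · exact hv
    · exact mul_mem hu hv
  have hQ2 : IsPGroup 2 (zpowers σ) := by
    rintro ⟨y, hy⟩
    obtain ⟨n, rfl⟩ := mem_zpowers_iff.mp hy
    refine ⟨1, Subtype.ext ?_⟩
    show (σ ^ n) ^ 2 ^ 1 = 1
    rw [pow_one, pow_two, ← zpow_add, ← two_mul, zpow_mul, show (σ ^ (2 : ℤ)) = 1 from by rw [zpow_two, hσσ], one_zpow]
  obtain ⟨Q, hQK, -, hQc, -, hQl, hQi⟩ := A.exists_group_lift hP2 hPN (Q₀ := zpowers σ) hQ2
    (by rw [zpowers_le]; exact hσ) (by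
      intro p hp τ hτ
      obtain ⟨n, rfl⟩ := mem_zpowers_iff.mp hτ
      have h1 : Commute (A.φ p) σ := by
        rcases (hP p).mp hp with rfl | rfl | rfl | rfl
        · rw [A.one]; exact Commute.one_left σ
        · exact hσu
        · exact hσv
        · rw [A.mul _ _ hu hv]
          exact Commute.mul_left hσu hσv
      exact (h1.zpow_right n).eq)
  obtain ⟨k, hk, hkσ⟩ := hQl σ (mem_zpowers σ)
  refine ⟨k, hQK hk, hQi _ (mul_mem hk hk) ?_, hQc k hk u ((hP u).mpr (by simp)),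
    hQc k hk v ((hP v).mpr (by simp)), hkσ⟩
  rw [A.mul _ _ (le_normalizer (hQK hk)) (le_normalizer (hQK hk)), hkσ, hσσ]

/-- an involution of `K` can be changed modulo `O(X)` such that it commutes with its
`v`-conjugate; the new one commutes with `C(v, x₀)` -/
theorem exists_comm_swap' {X K : Subgroup G} {v x₀ : G} (hK : IsComp X K) (hvX : v ∈ X)
    (hv : v * v = 1) (hne : cj v K ≠ K) (hx₀ : x₀ ∈ K) (hx2 : x₀ * x₀ = 1) :
    ∃ x ∈ K, x * x = 1 ∧ x₀⁻¹ * x ∈ core X ∧ x * (v * x * v⁻¹) = (v * x * v⁻¹) * x ∧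
      ∀ g, g * v = v * g → g * x₀ = x₀ * g → g * x = x * g := by
  have hvi : v⁻¹ = v := inv_eq_of_mul_eq_one_left hv
  have hxi : x₀⁻¹ = x₀ := inv_eq_of_mul_eq_one_left hx2
  have hK' := isComp_cj_of_mem hK hvX
  have h4 : (v * x₀) ^ 2 ^ 2 ∈ core X := by
    have h1 : ⁅v * x₀ * v⁻¹, x₀⁆ ∈ core X := by
      rw [commutator_mem_core_iff (hK'.le (conj_mem_cj hx₀)) (hK.le hx₀)]
      exact mk_comm hK' hK hne (conj_mem_cj hx₀) hx₀
    have h0 : ⁅v * x₀ * v⁻¹, x₀⁆ = (v * x₀) ^ 2 ^ 2 := by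
      rw [commutatorElement_def, hvi, mul_inv_rev, mul_inv_rev, hvi, hxi,
        show (2 : ℕ) ^ 2 = 4 by norm_num]
      simp only [pow_succ, pow_zero, one_mul, mul_assoc]
    rw [← h0]
    exact h1
  obtain ⟨k, hk1, hk2⟩ := Lifting.exists_two_part (odd_card_core X) h4
  have h6 : v * (v * x₀) ^ k * v = ((v * x₀) ^ k)⁻¹ := by
    have e1 : v * (v * x₀) * v⁻¹ = (v * x₀)⁻¹ := by
      rw [mul_inv_rev, hxi, hvi, ← mul_assoc, hv, one_mul]
    have e2 : v * (v * x₀) ^ k * v⁻¹ = ((v * x₀)⁻¹) ^ k := by rw [← e1, conj_pow]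
    rw [hvi, inv_pow] at e2
    exact e2
  have hcomm : ∀ g, g * v = v * g → g * x₀ = x₀ * g → g * (v * (v * x₀) ^ k) = v * (v * x₀) ^ k * g := by
    intro g hg1 hg2
    have e1 : Commute g v := hg1
    have e2 : Commute g x₀ := hg2
    exact (e1.mul_right ((e1.mul_right e2).pow_right k)).eq
  set t := (v * x₀) ^ k with ht
  have hx2' : (v * t) * (v * t) = 1 := by
    calc (v * t) * (v * t) = (v * t * v) * t := by group
      _ = 1 := by rw [h6, inv_mul_cancel]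
  have hcore : x₀⁻¹ * (v * t) ∈ core X := by
    have : x₀⁻¹ * (v * t) = (v * x₀)⁻¹ * t := by
      rw [mul_inv_rev, hvi, mul_assoc]
    rw [this]; exact hk2
  have hxK : v * t ∈ K := hK.mem_of_two (n := 1) hx₀ hcore (by rw [pow_one, pow_two]; exact hx2')
  refine ⟨v * t, hxK, hx2', hcore, ?_, hcomm⟩
  have h7 : t * t * (t * t) = 1 := by
    have : t ^ 2 ^ 2 = t * t * (t * t) := by
      rw [show (2 : ℕ) ^ 2 = 4 by norm_num]
      simp only [pow_succ, pow_zero, one_mul, mul_assoc]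
    rw [← this]; exact hk1
  have h8 : v * (v * t) * v⁻¹ = t * v := by
    rw [hvi, ← mul_assoc, hv, one_mul]
  have h9 : v * t = t⁻¹ * v := by
    calc v * t = (v * t * v) * v⁻¹ := by group
      _ = t⁻¹ * v := by rw [h6, hvi]
  have h10 : t * v = v * t⁻¹ := by
    rw [← h6]
    calc t * v = (v * v) * t * v := by rw [hv, one_mul]
      _ = v * (v * t * v) := by group
  rw [h8]
  calc v * t * (t * v) = t⁻¹ * v * (v * t⁻¹) := by rw [← h9, ← h10]
    _ = t⁻¹ * (v * v) * t⁻¹ := by group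
    _ = t⁻¹ * t⁻¹ := by rw [hv, mul_one]
    _ = t * t := by
      rw [← mul_inv_rev]
      exact inv_eq_of_mul_eq_one_left h7
    _ = t * (v * v) * t := by rw [hv, mul_one]
    _ = t * v * (v * t) := by group

/-- elements of a 2-component congruent modulo the core have the same label -/
theorem label_eq {X K : Subgroup G} {F : Finset α} (A : Mod K F) (hK : IsComp X K) {y z : G}
    (hy : y ∈ K) (hz : z ∈ K) (h : y⁻¹ * z ∈ core X) : A.φ y = A.φ z := by
  rw [A.eq_iff hy hz, hK.core_eq]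
  exact mem_inf.mpr ⟨K.mul_mem (K.inv_mem hy) hz, h⟩

namespace Cfg

variable {x a : G} {M : Mod L S} {r2 r3 b3 b4 r : G} {i4 i5 i6 i7 i8 i9 : α}
  (H : Cfg x a M r2 r3 b3 b4 r i4 i5 i6 i7 i8 i9)

include H

/-- `Fix(b₄)` contains the other points -/
theorem mem_fix_b4 {i : α} (hi : i ∈ S) (h8 : i ≠ i8) (h9 : i ≠ i9) : i ∈ fixIn S (M.φ b4) := by
  rw [mem_fixIn, H.φb4, swap_eq_iff H.nds.2.2.2.2]
  exact ⟨hi, h8, h9⟩

theorem kappa_alt : swap i4 i5 * swap i6 i7 ∈ alt (fixIn S (M.φ b4)) := by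
  rw [← H.φ2]
  obtain ⟨d, P⟩ := H.part4
  exact M.cmp_mem_alt P.mem

theorem kappa_sq : (swap i4 i5 * swap i6 i7) * (swap i4 i5 * swap i6 i7) = 1 := by
  rw [← H.φ2, ← M.mul _ _ H.N2 H.N2, H.s2, M.one]

/-- the label of `b₃` on `K_{b₄}` -/
theorem lab3 {K4 : Subgroup G} {A : Mod K4 (fixIn S (M.φ b4))} (hn : b3 ∈ normalizer (K4 : Set G))
    (hA : ∀ i ∈ fixIn S (M.φ b4), A.φ b3 i = M.φ b3 i) : A.φ b3 = swap i6 i7 := by
  ext i
  by_cases hi : i ∈ fixIn S (M.φ b4)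
  · rw [hA i hi, H.φb3]
  · rw [A.mem_sym b3 hn i hi]
    symm
    have h1 : ∀ j, (j = i6 ∨ j = i7) → j ∈ fixIn S (M.φ b4) := by
      have hn := H.nds
      have hS := H.inS
      rintro j (rfl | rfl)
      · exact H.mem_fix_b4 hS.2.2.1 hn.2.2.1.2.1 hn.2.2.1.2.2
      · exact H.mem_fix_b4 hS.2.2.2.1 hn.2.2.2.1.1 hn.2.2.2.1.2
    rw [swap_eq_iff H.nds.2.2.1.1]
    exact ⟨fun e => hi (h1 i (Or.inl e)), fun e => hi (h1 i (Or.inr e))⟩

/-- the involution `h ∈ K_{b₄}` -/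
theorem exists_h {K4 : Subgroup G} (h4 : Dbl M a b4 K4) (h4n : cj b3 K4 = K4)
    {A : Mod K4 (fixIn S (M.φ b4))} (hA : ∀ y ∈ M.cmp b4, A.φ y = M.φ y)
    (hA3 : A.φ b3 = swap i6 i7) :
    ∃ h ∈ K4, h * h = 1 ∧ A.φ h = swap i4 i5 * swap i6 i7 ∧ h * b3 = b3 * h ∧
      h * (a * h * a⁻¹) = (a * h * a⁻¹) * h ∧ h * (a * h * a⁻¹) = r2 := by
  obtain ⟨d, P⟩ := H.part4
  have hr2 : r2 ∈ M.cmp b4 := P.mem
  have hr2N : r2 ∈ normalizer (K4 : Set G) := h4.cmp_le H.aa (H.comm H.ma H.mb4) hr2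
  have hb3N : b3 ∈ normalizer (K4 : Set G) := mem_normalizer_iff_cj.mpr h4n
  have hAr2 : A.φ r2 = swap i4 i5 * swap i6 i7 := by rw [hA r2 hr2, H.φ2]
  obtain ⟨h0, h0K, h0s, h0b, h0r, h0φ⟩ := exists_lift_two A hb3N hr2N H.ok3.sq H.s2
    (H.comm H.mb3 H.m2) H.kappa_alt H.kappa_sq (by
      rw [hA3, ← mul_assoc, ← H.c4567, mul_assoc]) (by rw [hAr2])
  have haX : a ∈ centralizer ({b4} : Set G) := H.cc H.ma H.mb4
  obtain ⟨h, hK, hh, hc, hk, hcm⟩ := exists_comm_swap' h4.comp haX H.aa h4.ne h0K h0s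
  have hφ : A.φ h = swap i4 i5 * swap i6 i7 := by
    rw [← label_eq A h4.comp h0K hK hc, h0φ]
  have hb3 : h * b3 = b3 * h := (hcm b3 (H.comm H.mb3 H.ma) h0b.symm).symm
  have hr : r2 * h = h * r2 := hcm r2 (H.comm H.m2 H.ma) h0r.symm
  have ha2 : a * r2 = r2 * a := H.comm H.ma H.m2
  refine ⟨h, hK, hh, hφ, hb3, hk, ?_⟩
  -- `r₂ ≡ m m^a`
  have hrd : r2 ∈ diag (centralizer ({b4} : Set G)) K4 a := h4.eq ▸ hr2
  obtain ⟨m, hmK, hm, hfm, -⟩ := diag_act h4.comp haX H.aa h4.ne hrd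
  have hmφ : A.φ m = swap i4 i5 * swap i6 i7 := by
    have e1 : A.φ (m⁻¹ * r2) = 1 := (A.fixes_iff hfm.1).mpr hfm
    rw [A.mul _ _ (inv_mem (le_normalizer hmK)) hr2N, A.inv (le_normalizer hmK), inv_mul_eq_one,
      hAr2] at e1
    exact e1
  have hmh : m⁻¹ * h ∈ core (centralizer ({b4} : Set G)) :=
    h4.comp.core_le_core ((A.eq_iff hmK hK).mp (hmφ.trans hφ.symm))
  obtain ⟨c, hc'⟩ : ∃ c, c = m⁻¹ * h := ⟨_, rfl⟩
  rw [← hc'] at hmh
  have hh' : h = m * c := by rw [hc']; group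
  obtain ⟨k, hkdef⟩ : ∃ k, k = a * h * a⁻¹ := ⟨_, rfl⟩
  rw [← hkdef] at hk ⊢
  have hai : a⁻¹ = a := inv_eq_of_mul_eq_one_left H.aa
  have hkk : k * k = 1 := by
    rw [hkdef, show a * h * a⁻¹ * (a * h * a⁻¹) = a * (h * h) * a⁻¹ by group, hh]
    group
  have hkr : r2 * k = k * r2 := by
    rw [hkdef, hai]
    calc r2 * (a * h * a) = (r2 * a) * h * a := by group
      _ = a * (r2 * h) * a := by rw [← ha2]; group
      _ = a * h * (r2 * a) := by rw [hr]; group
      _ = a * h * a * r2 := by rw [← ha2]; group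
  have hmem : r2⁻¹ * (h * k) ∈ core (centralizer ({b4} : Set G)) := by
    have hmX : m ∈ centralizer ({b4} : Set G) := h4.comp.le hmK
    have hma : a * m * a⁻¹ ∈ centralizer ({b4} : Set G) := mul_mem (mul_mem haX hmX) (inv_mem haX)
    have e1 : r2⁻¹ * (h * k) = (r2⁻¹ * (m * (a * m * a⁻¹))) *
        ((a * m * a⁻¹)⁻¹ * c * (a * m * a⁻¹)) * (a * c * a⁻¹) := by
      rw [hkdef, hh']; group
    rw [e1]
    refine mul_mem (mul_mem hm ?_) (Triple.conj_core haX hmh)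
    have := Triple.conj_core (inv_mem hma) hmh
    rwa [inv_inv] at this
  have hsq : (r2⁻¹ * (h * k)) * (r2⁻¹ * (h * k)) = 1 := by
    have hri : r2⁻¹ = r2 := inv_eq_of_mul_eq_one_left H.s2
    rw [hri]
    calc r2 * (h * k) * (r2 * (h * k)) = r2 * h * (k * r2) * (h * k) := by group
      _ = r2 * (h * r2) * k * (h * k) := by rw [← hkr]; group
      _ = (r2 * r2) * h * (k * h) * k := by rw [← hr]; group
      _ = (r2 * r2) * (h * h) * (k * k) := by rw [← hk]; group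
      _ = 1 := by rw [H.s2, hh, hkk]; group
  have h1 := eq_one_of_mem_core_sq hmem hsq
  exact (inv_mul_eq_one.mp h1).symm

end Cfg

end Cfsg.Agent.UGT.A9.Dg
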