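import Cfsg.Agent.UGT.A9.Cfg
import Cfsg.Agent.UGT.A9.BadB
import Cfsg.Agent.UGT.A9.Label

/-!
# NodeA9, (3.2): labels of the pump-ups

* `exists_mod_diag_five`: labelling of `K` from a labelling of `diag(K, a)`.
* `Wok`: the hypotheses on `w`. `Dbl.triple`, `Sgl.triple`, `Dbl.exists_mod`.
* `fixes_of_altType`: if `E / O(E)` and `K / O(K)` are alternating of the same degree, `E` a 2-component of `C_K(t)`, then
  `t` fixes `K`.
-/

set_option autoImplicit false
set_option linter.unusedSectionVars false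

open Cfsg Subgroup Equiv Equiv.Perm
open Cfsg.Agent.SignalizersComponents Cfsg.Agent.Lib
open Cfsg.Agent.SignalizersComponents.IntrinsicBasic
open Cfsg.Agent.SignalizersComponents.IntrinsicIntr
open Cfsg.Agent.SignalizersComponents.PLayerAut
open Cfsg.Agent.Intrinsic.Basic Cfsg.Agent.Intrinsic.Cen Cfsg.Agent.Intrinsic.Diag
open Cfsg.Agent.McLLyComp.Act
open Cfsg.Agent.UGT.Triple Cfsg.Agent.UGT.LemG Cfsg.Agent.UGT.PumpGen Cfsg.Agent.UGT.RedAlt
open Cfsg.Agent.UAlt Cfsg.Agent.UGT.Iface Cfsg.Agent.UGT.A9.Marker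
open scoped commutatorElement

namespace Cfsg.Agent.UGT.A9.Dg

universe u
variable {G : Type u} [Group G] [Finite G] {α : Type*} [Fintype α] [DecidableEq α]

/-- a labelling of the diagonal gives a labelling of `K` -/
theorem exists_mod_diag_five {X K : Subgroup G} {a : G} (hK : IsComp X K) (haX : a ∈ X)
    (ha : a * a = 1) (hne : cj a K ≠ K) (hZ : center (↥K ⧸ oddCore ↥K) = ⊥) {S : Finset α}
    (h5 : 5 ≤ S.card) (h6 : S.card ≠ 6) {N : Subgroup G} (hN : N = diag X K a) (MN : Mod N S) :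
    ∃ MK : Mod K S, ∀ m ∈ N, MK.φ m = MN.φ m := by
  subst hN
  obtain ⟨h1, h2, h3, h4, f, hf, hfk, hfe, -⟩ := exists_diag hK haX ha hne
  let q : (↥(diag X K a) ⧸ oddCore ↥(diag X K a)) ≃* ↥(alt S) :=
    (QuotientGroup.quotientMulEquivOfEq MN.ker_homK.symm).trans
      (QuotientGroup.quotientKerEquivOfSurjective _ MN.homK_surjective)
  have hq : ∀ x : ↥(diag X K a), q (QuotientGroup.mk' _ x) = MN.homK x := fun x => rfl
  have hfi : Function.Injective f := by
    rw [← MonoidHom.ker_eq_bot_iff, ← le_bot_iff, ← hZ]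
    exact hfk
  let g : ↥K →* ↥(alt S) := (q.toMonoidHom.comp f).comp (QuotientGroup.mk' (oddCore ↥K))
  have hg : Function.Surjective g := (q.surjective.comp hf).comp (QuotientGroup.mk'_surjective _)
  have hgk : g.ker = oddCore ↥K := by
    ext x
    rw [MonoidHom.mem_ker]
    show q (f (QuotientGroup.mk' (oddCore ↥K) x)) = 1 ↔ _
    rw [MulEquiv.map_eq_one_iff, map_eq_one_iff f hfi]
    exact QuotientGroup.eq_one_iff x
  obtain ⟨A, hA⟩ := Mod.exists_of_hom_five (K := K) (S := S) h5 h6 ((alt S).subtype.comp g) (by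
      rw [MonoidHom.range_comp, MonoidHom.range_eq_top.mpr hg, ← MonoidHom.range_eq_map,
        Subgroup.range_subtype]) (by
      rw [← hgk]
      ext x
      rw [MonoidHom.mem_ker, MonoidHom.mem_ker, MonoidHom.comp_apply]
      exact ⟨fun h => Subtype.ext h, fun h => by rw [h]; rfl⟩)
  refine ⟨A, fun m hm => ?_⟩
  obtain ⟨k, hk, hmk, hfx, hmN⟩ := diag_act hK haX ha hne hm
  have e1 : A.φ (k⁻¹ * m) = 1 := (A.fixes_iff hfx.1).mpr hfx
  rw [A.mul _ _ (inv_mem (le_normalizer hk)) hmN, A.inv (le_normalizer hk), inv_mul_eq_one] at e1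
  have e2 : A.φ k = ((g ⟨k, hk⟩ : alt S) : Perm α) := hA ⟨k, hk⟩
  have e3 : g ⟨k, hk⟩ = MN.homK ⟨m, hm⟩ := by
    show q (f (QuotientGroup.mk' (oddCore ↥K) ⟨k, hk⟩)) = _
    rw [hfe ⟨k, hk⟩ ⟨m, hm⟩ hmk, hq]
  rw [← e1, e2, e3]
  rfl

/-- type of `cmp t` -/
theorem altType_cmp {K : Subgroup G} {S : Finset α} (M : Mod K S) {t : G}
    (ht : t ∈ normalizer (K : Set G)) (htt : t * t = 1) (h5 : 5 ≤ (fixIn S (M.φ t)).card) :
    AltType (M.cmp t) (fixIn S (M.φ t)).card := by
  obtain ⟨e⟩ := quot_cmp M ht htt h5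
  exact isAlt_of_equiv e

/-- `E`, `K` of the same alternating type, `E` a 2-component of `C_K(t)`: `t` fixes `K` -/
theorem fixes_of_altType {K E : Subgroup G} {S : Finset α} (M : Mod K S) {t : G}
    (ht : t ∈ normalizer (K : Set G)) (htt : t * t = 1)
    (hE : IsComp (K ⊓ centralizer ({t} : Set G)) E) (hEt : AltType E S.card) : Fixes t K := by
  obtain ⟨h1, h2⟩ := (M.isComp_iff_cmp ht htt).mp hE
  have h3 := altType_cmp M ht htt h2
  rw [← h1] at h3
  have h4 := h3.unique hEt (by omega) (by have := M.five; omega)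
  have h5 : fixIn S (M.φ t) = S := Finset.eq_of_subset_of_card_le (fixIn_subset _ _) h4.ge
  rw [← M.fixes_iff ht]
  ext i
  by_cases hi : i ∈ S
  · rw [← h5, mem_fixIn] at hi
    exact hi.2
  · exact M.mem_sym t ht i hi

/-- type of the diagonal -/
theorem altType_diag {X K : Subgroup G} {a : G} (hK : IsComp X K) (haX : a ∈ X)
    (ha : a * a = 1) (hne : cj a K ≠ K) (hZ : center (↥K ⧸ oddCore ↥K) = ⊥) {m : ℕ}
    (h : AltType K m) : AltType (diag X K a) m := by
  obtain ⟨-, -, -, -, f, hf, hfk, -⟩ := exists_diag hK haX ha hne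
  rw [hZ, le_bot_iff] at hfk
  exact h.congr (MulEquiv.ofBijective f ⟨(MonoidHom.ker_eq_bot_iff f).mp hfk, hf⟩)

theorem altType_of_diag {X K : Subgroup G} {a : G} (hK : IsComp X K) (haX : a ∈ X)
    (ha : a * a = 1) (hne : cj a K ≠ K) (hZ : center (↥K ⧸ oddCore ↥K) = ⊥) {m : ℕ}
    (h : AltType (diag X K a) m) : AltType K m := by
  obtain ⟨-, -, -, -, f, hf, hfk, -⟩ := exists_diag hK haX ha hne
  rw [hZ, le_bot_iff] at hfk
  exact h.congr (MulEquiv.ofBijective f ⟨(MonoidHom.ker_eq_bot_iff f).mp hfk, hf⟩).symm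

/-- `cen K s`, `s` fixing `K`, has the type of `K` -/
theorem altType_cen {X K : Subgroup G} {s : G} (hK : IsComp X K) (hs : s ∈ X) (hss : s * s = 1)
    (hf : Fixes s K) {m : ℕ} (h : AltType K m) : AltType (cen K s) m := by
  obtain ⟨-, h3⟩ := isComp_cen hK hs hss hf
  obtain ⟨e, -⟩ := exists_quotEquiv h3
  exact h.congr e.symm

section pump

variable {L : Subgroup G} {S : Finset α}

/-- the hypotheses on `w` -/
structure Wok (x a : G) (M : Mod L S) (w : G) : Prop where
  ord : orderOf w = 2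
  wa : w * a = a * w
  wx : w * x = x * w
  N : w ∈ normalizer (L : Set G)
  fix : fixIn S (M.φ x) ⊆ fixIn S (M.φ w)
  five : 5 ≤ (fixIn S (M.φ w)).card
  six : (fixIn S (M.φ w)).card ≠ 6

variable {x a w : G} {M : Mod L S} {K : Subgroup G}

theorem Wok.sq (h : Wok x a M w) : w * w = 1 := sq_of_order h.ord

theorem Wok.exists_K (T : IsTriple x a L) (h : Wok x a M w) :
    ∃ K, IsTriple x w K ∧ (Sgl M a w K ∨ Dbl M a w K) :=
  Dg.exists_K T M h.ord h.wa h.wx h.N h.fix h.five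

/-- `d` does not fix the pump-up -/
theorem not_fixes_of_pump (T : IsTriple x a L) (h : Wok x a M w) {d : G}
    (hd : d ∈ core (centralizer ({x} : Set G))) (hda : d ∈ centralizer ({a} : Set G))
    (hdw : d ∈ centralizer ({w} : Set G)) (hf : ¬ Fixes d L)
    (hK : Sgl M a w K ∨ Dbl M a w K) : ¬ Fixes d K := by
  intro hfK
  apply not_fixes_cmp T M h.sq h.N h.fix h.five hd hda hf
  have hM := M.isComp_cmp_of T.comp h.N h.sq h.five
  rw [inf_comm] at hM
  rcases hK with hK | hK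
  · exact PumpGen.fixes_of_pump (sq_of_order T.inva) h.wa hM hK.comp hdw hda hfK (Or.inl hK.le)
  · exact PumpGen.fixes_of_pump (sq_of_order T.inva) h.wa hM hK.comp hdw hda hfK
      (Or.inr ⟨hK.ne, hK.eq⟩)

theorem triple_of_pump (T : IsTriple x a L) (h : Wok x a M w)
    (hK : Sgl M a w K ∨ Dbl M a w K) : IsTriple x w K := by
  obtain ⟨d, hd, hda, hdw, hf⟩ := exists_d T M h.sq h.wa h.wx h.N h.fix
  have hc : IsComp (centralizer ({w} : Set G)) K := by
    rcases hK with hK | hK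
    · exact hK.comp
    · exact hK.comp
  exact ⟨T.invx, h.ord, h.wx, hc, d, hd, hdw, not_fixes_of_pump T h hd hda hdw hf hK⟩

theorem Sgl.triple (T : IsTriple x a L) (h : Wok x a M w) (hK : Sgl M a w K) : IsTriple x w K :=
  triple_of_pump T h (Or.inl hK)

theorem Dbl.triple (T : IsTriple x a L) (h : Wok x a M w) (hK : Dbl M a w K) : IsTriple x w K :=
  triple_of_pump T h (Or.inr hK)

theorem Dbl.cj (ha : a * a = 1) (haw : a * w = w * a) (hK : Dbl M a w K) :
    Dbl M a w (IntrinsicBasic.cj a K) := by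
  have haX : a ∈ centralizer ({w} : Set G) := mem_c haw
  refine ⟨isComp_cj_of_mem hK.comp haX, fun h => hK.ne ?_, ?_⟩
  · have h1 : IntrinsicBasic.cj a (IntrinsicBasic.cj a K) = K := by
      rw [← IntrinsicBasic.cj_mul, ha, cj_one]
    rw [h1] at h
    exact h.symm
  · rw [hK.eq, cj_diag_self haX]

/-- members of `C_L(w)^∞` normalize `K` -/
theorem Dbl.cmp_le (ha : a * a = 1) (haw : a * w = w * a) (hK : Dbl M a w K) :
    M.cmp w ≤ normalizer (K : Set G) := by
  intro m hm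
  rw [hK.eq] at hm
  exact (diag_act hK.comp (mem_c haw) ha hK.ne hm).choose_spec.2.2.2

/-- **the labelling of `K_w`**, double case -/
theorem Dbl.exists_mod (W : W9 G) (T : IsTriple x a L) (h : Wok x a M w) (hK : Dbl M a w K) :
    ∃ A : Mod K (fixIn S (M.φ w)), (∀ y ∈ M.cmp w, A.φ y = M.φ y) ∧
      ∀ y ∈ normalizer (L : Set G), y * w = w * y → y ∈ normalizer (K : Set G) →
        ∀ i ∈ fixIn S (M.φ w), A.φ y i = M.φ y i := by
  have ha := sq_of_order T.inva
  obtain ⟨ME, hME⟩ := M.exists_cmp_five h.N h.sq h.five h.six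
  obtain ⟨A, hA⟩ := exists_mod_diag_five hK.comp (mem_c h.wa.symm) ha hK.ne
    (W.center_bot (hK.triple T h)) h.five h.six hK.eq ME
  have hA' : ∀ y ∈ M.cmp w, A.φ y = M.φ y := fun y hy => (hA y hy).trans (hME y hy)
  refine ⟨A, hA', fun y hyL hyw hyK i hi => ?_⟩
  refine Mod.compat' M A (E := M.cmp w) ((M.cmp_le w).trans le_normalizer)
    (hK.cmp_le ha h.wa.symm) hA' (by have := h.five; omega)
    (fun σ hσ => M.cmp_lift h.N h.sq h.five hσ) hyL hyK
    (M.mem_normalizer_cmp h.N hyL hyw) hi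

/-- type of `K_w`, double case -/
theorem Dbl.altType (W : W9 G) (T : IsTriple x a L) (h : Wok x a M w) (hK : Dbl M a w K) :
    AltType K (fixIn S (M.φ w)).card := by
  obtain ⟨A, -⟩ := hK.exists_mod W T h
  exact A.altType

end pump

end Cfsg.Agent.UGT.A9.Dg
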