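import Cfsg.Agent.UGT.A9.DgLab
import Cfsg.Agent.UGT.A9.LTwoFacts

/-!
# NodeA9, (3.2): tools, and (3.2a)

`H : Cfg x a M r2 r3 b3 b4 r ..`, `N = M.cmpT ⟨a, b₃, b₄⟩`, `hr : Dbl M a r Kr` (`K_r ≠ K_r^a`).
-/

set_option autoImplicit false
set_option linter.unusedSectionVars false

open Cfsg Subgroup Equiv Equiv.Perm
open Cfsg.Agent.SignalizersComponents Cfsg.Agent.Lib
open Cfsg.Agent.SignalizersComponents.IntrinsicBasic
open Cfsg.Agent.SignalizersComponents.IntrinsicIntr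
open Cfsg.Agent.SignalizersComponents.PLayerAut
open Cfsg.Agent.Intrinsic.Basic Cfsg.Agent.Intrinsic.Cen Cfsg.Agent.Intrinsic.Diag
open Cfsg.Agent.McLLyComp.Act
open Cfsg.Agent.UGT.Triple Cfsg.Agent.UGT.LemG Cfsg.Agent.UGT.PumpGen Cfsg.Agent.UGT.RedAlt
open Cfsg.Agent.UAlt Cfsg.Agent.UGT.Iface Cfsg.Agent.UGT.A9.Marker
open scoped commutatorElement

namespace Cfsg.Agent.UGT.A9.Dg

universe u

theorem cent_mul_left {G : Type u} [Group G] (s t : G) :
    centralizer ({s * t} : Set G) ⊓ centralizer ({s} : Set G) =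
      centralizer ({t} : Set G) ⊓ centralizer ({s} : Set G) := by
  ext y
  simp only [mem_inf, mem_centralizer_singleton_iff]
  constructor
  · rintro ⟨h1, h2⟩
    refine ⟨?_, h2⟩
    have h3 : s * (y * t) = s * (t * y) := by
      calc s * (y * t) = (s * y) * t := by group
        _ = (y * s) * t := by rw [h2]
        _ = y * (s * t) := by group
        _ = s * t * y := h1
        _ = s * (t * y) := by group
    exact mul_left_cancel h3
  · rintro ⟨h1, h2⟩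
    refine ⟨?_, h2⟩
    calc y * (s * t) = (y * s) * t := by group
      _ = s * (y * t) := by rw [h2]; group
      _ = s * t * y := by rw [h1]; group

variable {G : Type u} [Group G] [Finite G] {α : Type*} [Fintype α] [DecidableEq α]
  {L : Subgroup G} {S : Finset α}

theorem oneComp (W : W9 G) {x a : G} {K : Subgroup G} (T : IsTriple x a K) : OneComp K :=
  W.oneComp (fun _ h _ _ _ _ _ h1 h2 => LTwo.l2_comp_unique h h1 h2) T

namespace Cfg

variable {x a : G} {M : Mod L S} {r2 r3 b3 b4 r : G} {i4 i5 i6 i7 i8 i9 : α}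
  (H : Cfg x a M r2 r3 b3 b4 r i4 i5 i6 i7 i8 i9)

include H

theorem ok_of {w : G} (hw : w ∈ PP x a r2 r3) (hne : M.φ w ≠ 1)
    (hfix : fixIn S (M.φ x) ⊆ fixIn S (M.φ w)) (h5 : 5 ≤ (fixIn S (M.φ w)).card)
    (h6 : (fixIn S (M.φ w)).card ≠ 6) : Wok x a M w :=
  ⟨orderOf_eq_prime (by rw [pow_two]; exact H.sq hw) (fun h => hne (by rw [h, M.one])),
    H.comm hw H.ma, H.comm hw H.mx, H.PN hw, hfix, h5, h6⟩

theorem ok_aw {w : G} (hw : w ∈ PP x a r2 r3) (h : Wok x a M w) (hne : M.φ w ≠ 1) :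
    Wok x a M (a * w) := by
  refine H.ok_of (mul_mem H.ma hw) ?_ ?_ ?_ ?_
  · rw [H.φaw h.N]; exact hne
  · rw [H.φaw h.N]; exact h.fix
  · rw [H.φaw h.N]; exact h.five
  · rw [H.φaw h.N]; exact h.six

theorem ne3 : M.φ b3 ≠ 1 := by
  rw [H.φb3]
  intro h
  have := Equiv.congr_fun h i6
  rw [swap_apply_left, Perm.one_apply] at this
  exact H.nds.2.2.1.1 this.symm

theorem ne4 : M.φ b4 ≠ 1 := H.symm.ne3

theorem ner : M.φ r ≠ 1 := by
  intro h
  have h1 : fixIn S (M.φ r) = S := by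
    ext i; rw [mem_fixIn, h]; simp
  have h2 := H.card_r
  rw [h1, H.card] at h2
  omega

theorem ok3 : Wok x a M b3 :=
  H.ok_of H.mb3 H.ne3 H.fix_x_b3 (by rw [H.card_b3]; norm_num) (by rw [H.card_b3]; norm_num)

theorem ok4 : Wok x a M b4 := H.symm.ok3

theorem okr : Wok x a M r :=
  H.ok_of H.mr H.ner H.fix_x_r (by rw [H.card_r]) (by rw [H.card_r]; norm_num)

theorem oka3 : Wok x a M (a * b3) := H.ok_aw H.mb3 H.ok3 H.ne3

theorem oka4 : Wok x a M (a * b4) := H.ok_aw H.mb4 H.ok4 H.ne4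

theorem ma3 : a * b3 ∈ PP x a r2 r3 := mul_mem H.ma H.mb3
theorem ma4 : a * b4 ∈ PP x a r2 r3 := mul_mem H.ma H.mb4

omit [Finite G] in
theorem ua3 : a * b3 ∈ UU a b3 b4 := mul_mem H.ua H.u3
omit [Finite G] in
theorem ua4 : a * b4 ∈ UU a b3 b4 := mul_mem H.ua H.u4

theorem cc {u v : G} (hu : u ∈ PP x a r2 r3) (hv : v ∈ PP x a r2 r3) :
    u ∈ centralizer ({v} : Set G) := mem_c (H.comm hu hv)

/-- `C(r) ∩ C(b₃) = C(b₄) ∩ C(b₃)` -/
theorem cent3 : centralizer ({r} : Set G) ⊓ centralizer ({b3} : Set G) =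
    centralizer ({b4} : Set G) ⊓ centralizer ({b3} : Set G) := by
  rw [H.rb]; exact cent_mul_left b3 b4

theorem exists_move : ∃ n ∈ M.cmpT (UU a b3 b4), ∃ y ∈ S \ {i6, i7, i8, i9}, M.φ n y ≠ y := by
  obtain ⟨σ, hσ, -, hσ1⟩ := exists_inv_alt (S := S \ {i6, i7, i8, i9}) (by rw [H.card_F5]; norm_num)
  obtain ⟨n, hn, hnσ⟩ := H.N_lift hσ
  obtain ⟨y, hy⟩ : ∃ y, σ y ≠ y := by
    by_contra hcon
    push Not at hcon
    exact hσ1 (Equiv.ext hcon)
  refine ⟨n, hn, y, ?_, by rw [hnσ]; exact hy⟩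
  by_contra h
  exact hy (hσ.2 y h)

/-- the marker does not fix `cmp t` -/
theorem not_fixes_N {K : Subgroup G} {F : Finset α} (A : Mod K F)
    (hNK : M.cmpT (UU a b3 b4) ≤ normalizer (K : Set G))
    (hlab : ∀ n ∈ M.cmpT (UU a b3 b4), A.φ n = M.φ n) {t : G} (ht : t ∈ normalizer (K : Set G))
    (htt : t * t = 1) (h5 : 5 ≤ (fixIn F (A.φ t)).card)
    (hsub : S \ {i6, i7, i8, i9} ⊆ fixIn F (A.φ t)) :
    ¬ ∀ n ∈ M.cmpT (UU a b3 b4), Fixes n (A.cmp t) := by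
  obtain ⟨n, hn, y, hy, hne⟩ := H.exists_move
  intro h
  refine A.not_fixes_cmp ht htt h5 (hNK hn) (hsub hy) ?_ (h n hn)
  rw [hlab n hn]
  exact hne

/-! ### the centralizer of `r` -/

section Kr

variable {Kr : Subgroup G} (hr : Dbl M a r Kr)

include hr

theorem Nr_le : M.cmpT (UU a b3 b4) ≤ diag (centralizer ({r} : Set G)) Kr a :=
  (H.N_le_cmp H.ur).trans hr.eq.le

theorem Nr_norm : M.cmpT (UU a b3 b4) ≤ normalizer (Kr : Set G) :=
  (H.N_le_cmp H.ur).trans (hr.cmp_le H.aa (H.comm H.ma H.mr))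

theorem cover_r : ∀ m ∈ diag (centralizer ({r} : Set G)) Kr a,
    ∃ n ∈ M.cmpT (UU a b3 b4), n⁻¹ * m ∈ core (centralizer ({r} : Set G)) := by
  intro m hm
  have hm' : m ∈ M.cmp r := hr.eq ▸ hm
  obtain ⟨n, hn, hc⟩ := H.N_cover hm'
  refine ⟨n, hn, ?_⟩
  obtain ⟨-, -, -, h4, -⟩ := exists_diag hr.comp (H.cc H.ma H.mr) H.aa hr.ne
  rw [hr.eq, h4] at hc
  exact hc.2

theorem swap_or_r {w : G} (hw : w ∈ UU a b3 b4) : cj w Kr = Kr ∨ cj w Kr = cj a Kr :=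
  swap_or H.mkr hr.comp (H.cc H.ma H.mr) H.aa hr.ne (H.Nr_le hr) (H.cc (H.UP hw) H.mr)
    (H.N_comm hw)

theorem cj_comm {u v : G} (hu : u ∈ PP x a r2 r3) (hv : v ∈ PP x a r2 r3) (K : Subgroup G) :
    cj u (cj v K) = cj v (cj u K) := by
  rw [← IntrinsicBasic.cj_mul, ← IntrinsicBasic.cj_mul, H.comm hu hv]

theorem fixes_r {w : G} (hw : w ∈ UU a b3 b4) (h : cj w Kr = Kr) : Fixes w Kr := by
  refine fixes_of_diag (N := M.cmpT (UU a b3 b4)) hr.comp (H.cc H.ma H.mr) H.aa hr.ne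
    (H.cc (H.UP hw) H.mr) (mem_normalizer_iff_cj.mpr h) (mem_normalizer_iff_cj.mpr ?_)
    (H.cover_r hr) fun n hn => M.cmpT_comm hn hw
  rw [H.cj_comm hr (H.UP hw) H.ma, h]

/-- `cen K_r w` is an N-component of `C(r) ∩ C(w)` -/
theorem mark_cen_r {w : G} (hw : w ∈ UU a b3 b4) (h : cj w Kr = Kr) :
    IsMark (centralizer ({r} : Set G) ⊓ centralizer ({w} : Set G)) (M.cmpT (UU a b3 b4))
      (cen Kr w) := by
  have hf := H.fixes_r hr hw h
  have hww := H.sq (H.UP hw)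
  obtain ⟨h1, h2⟩ := isComp_cen hr.comp (H.cc (H.UP hw) H.mr) hww hf
  refine ⟨h1, fun hfix => ?_⟩
  apply (mark_diag H.mkr hr.comp (H.cc H.ma H.mr) H.aa hr.ne (H.Nr_le hr)).2
  intro n hn
  have hnK := H.Nr_norm hr hn
  have hnw : n * w = w * n := (M.cmpT_comm hn hw).symm
  exact (fixes_iff_of_sup h2 (mem_normalizer_cen hnK hnw) hnK).mp (hfix n hn)

/-- two N-components of `C(r) ∩ C(w)` -/
theorem two_r {w : G} (hw : w ∈ UU a b3 b4) (h : cj w Kr = Kr) :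
    IsMark (centralizer ({r} : Set G) ⊓ centralizer ({w} : Set G)) (M.cmpT (UU a b3 b4))
      (cj a (cen Kr w)) ∧ cj a (cen Kr w) ≠ cen Kr w :=
  two_of hr.comp (H.cc H.ma H.mr) hr.ne (H.comm (H.UP hw) H.ma) (H.N_comm H.ua)
    (H.mark_cen_r hr hw h) (cen_le _ _)

theorem altType_r (W : W9 G) : AltType Kr 5 := by
  have h := hr.altType W H.T H.okr
  rwa [H.card_r] at h

/-- the only N-component of `C(r) ∩ C(w)` if `w` interchanges -/
theorem swap_r (W : W9 G) {w : G} (hw : w ∈ UU a b3 b4) (h : cj w Kr = cj a Kr) :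
    IsMark (centralizer ({r} : Set G) ⊓ centralizer ({w} : Set G)) (M.cmpT (UU a b3 b4))
      (diag (centralizer ({r} : Set G)) Kr w) ∧
    AltType (diag (centralizer ({r} : Set G)) Kr w) 5 ∧
    ∀ I, IsMark (centralizer ({r} : Set G) ⊓ centralizer ({w} : Set G)) (M.cmpT (UU a b3 b4)) I →
      I = diag (centralizer ({r} : Set G)) Kr w := by
  have hww := H.sq (H.UP hw)
  refine ⟨mark_of_swap H.mkr hr.comp (H.cc H.ma H.mr) H.aa hr.ne (H.Nr_le hr)
    (H.cc (H.UP hw) H.mr) hww (H.N_comm hw) h, ?_, fun I hI => ?_⟩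
  · exact altType_diag hr.comp (H.cc (H.UP hw) H.mr) hww (h ▸ hr.ne)
      (W.center_bot (hr.triple H.T H.okr)) (H.altType_r hr W)
  · exact inf_of_swap hr.comp (H.cc H.ma H.mr) H.aa hr.ne (H.Nr_le hr)
      (H.cc (H.UP hw) H.mr) hww (H.N_comm hw) h hI

end Kr

end Cfg

end Cfsg.Agent.UGT.A9.Dg
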