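import Cfsg.Agent.UGT.A9.DgSix

/-!
# NodeA9, (3.2): the new triple, `diag9`

If `K_u ≠ K_u^a` for some root `u` of `L` there is another triple `(x, k, F)` of type `A₉` such that `K_u = K_u^k` for all roots
`u` of `F`.
-/

set_option autoImplicit false
set_option linter.unusedSectionVars false

open Cfsg Subgroup Equiv Equiv.Perm
open Cfsg.Agent.SignalizersComponents Cfsg.Agent.Lib
open Cfsg.Agent.SignalizersComponents.IntrinsicBasic
open Cfsg.Agent.SignalizersComponents.IntrinsicIntr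
open Cfsg.Agent.SignalizersComponents.PLayerAut
open Cfsg.Agent.Intrinsic Cfsg.Agent.Intrinsic.Basic Cfsg.Agent.Intrinsic.Cen Cfsg.Agent.Intrinsic.Diag
open Cfsg.Agent.McLLyComp.Act
open Cfsg.Agent.UGT.Triple Cfsg.Agent.UGT.LemG Cfsg.Agent.UGT.PumpGen Cfsg.Agent.UGT.RedAlt
open Cfsg.Agent.UAlt Cfsg.Agent.UGT.Iface Cfsg.Agent.UGT.A9.Marker
open Cfsg.Agent.StdAlt.Roots (IsRoot)
open scoped commutatorElement

namespace Cfsg.Agent.UGT.A9.Dg

universe u

variable {G : Type u} [Group G] [Finite G] {α : Type*} [Fintype α] [DecidableEq α]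
  {L : Subgroup G} {S : Finset α}

namespace Cfg

variable {x a : G} {M : Mod L S} {r2 r3 b3 b4 r : G} {i4 i5 i6 i7 i8 i9 : α}
  (H : Cfg x a M r2 r3 b3 b4 r i4 i5 i6 i7 i8 i9)

include H

theorem fix_kappa : fixIn S (swap i4 i5 * swap i6 i7) = S \ {i4, i5, i6, i7} := by
  ext i
  rw [mem_fixIn, swap2_eq_iff H.nd4567]
  simp only [Finset.mem_sdiff, Finset.mem_insert, Finset.mem_singleton, not_or]

theorem card_kappa : (fixIn S (swap i4 i5 * swap i6 i7)).card = 5 := by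
  have h := H.nds
  have hS := H.inS
  rw [H.fix_kappa, Finset.card_sdiff_of_subset, H.card]
  · rw [Finset.card_insert_of_notMem, Finset.card_insert_of_notMem, Finset.card_pair h.2.2.1.1]
    · simp only [Finset.mem_insert, Finset.mem_singleton, not_or]
      exact ⟨h.2.1.1, h.2.1.2.1⟩
    · simp only [Finset.mem_insert, Finset.mem_singleton, not_or]
      exact ⟨h.1.1, h.1.2.1, h.1.2.2.1⟩
  · intro i hi
    simp only [Finset.mem_insert, Finset.mem_singleton] at hi
    rcases hi with rfl | rfl | rfl | rfl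
    · exact hS.1
    · exact hS.2.1
    · exact hS.2.2.1
    · exact hS.2.2.2.1

/-- `r` is a root -/
theorem rt : M.Rt r := by
  refine ⟨H.Lr, H.okr.sq, ?_, ?_⟩
  · rw [← M.mul _ _ H.Nr H.Nr, H.okr.sq, M.one]
  · have h1 : (M.φ r).support = {i6, i7, i8, i9} := by
      ext i
      rw [Perm.mem_support, H.φr, Ne, swap2_eq_iff H.nd6789]
      simp only [Finset.mem_insert, Finset.mem_singleton]
      tauto
    rw [h1, H.card_quad]

/-- **the new triple** -/
theorem new_triple (W : W9 G) {Kr K4 K3 : Subgroup G} {A4 : Mod K4 (fixIn S (M.φ b4))}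
    {A3 : Mod K3 (fixIn S (M.φ b3))} {h k k' : G} {J : Subgroup G}
    (s : St (Kr := Kr) x a M r2 b3 b4 r i4 i5 i6 i7 i8 i9 A4 A3 h k k' J) :
    ∃ (F : Subgroup G) (B : Mod F S) (r3' : G),
      Cfg x k B h r3' (x * r3') (x * h) (h * r3') i4 i5 i6 i7 i8 i9 ∧
      Sgl B k (k * (x * h)) K4 := by
  obtain ⟨F, TF, n4, le4, n3, le3⟩ := H.single s W
  have hb4X : b4 ∈ centralizer ({k'} : Set G) := mem_c (H.k'b4 s).symm
  have hb3X : b3 ∈ centralizer ({k'} : Set G) := mem_c (H.k'b3 s).symm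
  have hE : IsComp (F ⊓ centralizer ({b4} : Set G)) (cen K4 k') :=
    (H.comp4 s).restrict (inf_le_inf_right _ TF.comp.le)
      (le_inf le4 ((cen_le _ _).trans s.T4.comp.le))
  -- `b₄` does not fix `F`
  have hnf : ¬ Fixes b4 F := by
    intro hf
    have h1 : Fixes b4 (cen K3 k') :=
      Marker.fixes_of_pump hb3X H.ok3.sq (H.comp3 s) TF.comp hb4X (H.comm H.mb4 H.mb3) hf
        (Or.inl le3)
    have h2 := (isComp_cen s.T3.comp (mem_c (H.k'b3 s)) (H.k'k' s) s.f3).2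
    have h3 : Fixes b4 K3 := (fixes_iff_of_sup h2 h1.1 s.n3).mp h1
    have h4 := (A3.fixes_iff h3.1).mpr h3
    rw [s.A3b4] at h4
    have := Equiv.congr_fun h4 i8
    rw [swap_apply_left, Perm.one_apply] at this
    exact H.nds.2.2.2.2 this.symm
  -- type of `F`
  have h9 : AltType F 9 := by
    rcases W x k' F TF with h1 | h1 | h1
    · exact (LTwo.l2_no_alt h1 le4 le_rfl (H.altc4 s)).elim
    · exfalso
      obtain ⟨B0⟩ := RedRB.exists_mod le_rfl h1
      refine hnf (fixes_of_altType B0 n4 H.ok4.sq hE ?_)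
      rw [show (Finset.univ : Finset (Fin 7)).card = 7 from by simp]
      exact H.altc4 s
    · exact h1
  obtain ⟨B0⟩ := h9.mod_of_card H.card (by norm_num)
  obtain ⟨e0, h50⟩ := (B0.isComp_iff_cmp n4 H.ok4.sq).mp hE
  have h70 : (fixIn S (B0.φ b4)).card = 7 := by
    have h1 := altType_cmp B0 n4 H.ok4.sq h50
    rw [← e0] at h1
    exact h1.unique (H.altc4 s) (by omega) (by norm_num)
  obtain ⟨C, hC⟩ : ∃ C : Mod (B0.cmp b4) (fixIn S (M.φ b4)), ∀ y ∈ B0.cmp b4, C.φ y = A4.φ y :=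
    e0 ▸ H.modc4 s
  obtain ⟨B, hB⟩ := B0.exists_relabel_cmp_five n4 H.ok4.sq h50 (by rw [h70]; norm_num) C
    (fixIn_subset S (M.φ b4)) rfl
  have hBA : ∀ y ∈ cen K4 k', B.φ y = A4.φ y := by
    intro y hy
    rw [e0] at hy
    rw [hB y hy, hC y hy]
  -- labels
  have hhc : h ∈ cen K4 k' := mem_cen_of_sq s.hK (H.k'h s).symm s.hh
  have hhF : h ∈ F := le4 hhc
  have hBh : B.φ h = swap i4 i5 * swap i6 i7 := by rw [hBA h hhc, s.hφ]
  have hfk' : Fixes k' F :=
    Intrinsic.WZero.fixes_of_comm fun _ hy => (comm_c (TF.comp.le hy)).symm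
  have hBk' : B.φ k' = 1 := (B.fixes_iff hfk'.1).mpr hfk'
  obtain ⟨h3f, -⟩ := three_fix TF B
  have hxeq : x = b4 * (h * k) := by rw [s.hkr]; exact H.xeq
  rcases s.or with e | e
  · -- `k' = k`
    subst e
    have hBb4 : B.φ b4 = swap i8 i9 := by
      refine (eq_one_or_swap fun i h8 h9 => ?_).resolve_left fun e1 => hnf ((B.fixes_iff n4).mp e1)
      by_cases hi : i ∈ S
      · refine apply_of_comm_alt (S := fixIn S (M.φ b4)) (by have := H.ok4.five; omega)
          (fun σ hσ => ?_) (H.mem_fix_b4 hi h8 h9)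
        obtain ⟨y, hy, rfl⟩ := C.lift σ hσ
        rw [hC y hy]
        have hy' : y ∈ cen K4 k' := by rw [e0]; exact hy
        rw [← hBA y hy']
        exact B.comm n4 (le_normalizer (le4 hy')) (comm_c (s.T4.comp.le (cen_le _ _ hy'))).symm
      · exact B.mem_sym b4 n4 i hi
    have hBx : B.φ x = M.φ x := by
      rw [hxeq, B.mul _ _ n4 (mul_mem (le_normalizer hhF) hfk'.1),
        B.mul _ _ (le_normalizer hhF) hfk'.1, hBb4, hBh, hBk', mul_one, ← hxeq, H.φx, ← mul_assoc,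
        ← H.c4589, mul_assoc, ← H.c6789, ← mul_assoc]
    obtain ⟨r3', L3', s3', c3x, c3h, φ3'⟩ := exists_lift_two B TF.x_mem (le_normalizer hhF) H.xx s.hh
      (H.hx s).symm (σ := swap i4 i5 * swap i8 i9) (by rw [← H.φ3]; exact M.mem_alt r3 H.L3)
      (by rw [← H.φ3, ← M.mul _ _ H.N3 H.N3, H.s3, M.one])
      (by rw [hBx, ← H.φ3]; exact M.comm H.Nx H.N3 H.cx3)
      (by rw [hBh, ← H.φ2, ← H.φ3]; exact M.comm H.N2 H.N3 H.c23)
    have hkb : k' * (x * h) = b4 := by
      calc k' * (x * h) = k' * (b4 * (h * k') * h) := by rw [← hxeq]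
        _ = k' * (b4 * (k' * h) * h) := by rw [s.hk]
        _ = (k' * b4) * k' * (h * h) := by group
        _ = b4 * (k' * k') * (h * h) := by rw [s.kb4]; group
        _ = b4 := by rw [s.kk, s.hh, mul_one, mul_one]
    refine ⟨F, B, r3', ⟨TF, H.card, H.nd, hhF, L3', s.hh, s3', c3h.symm, (H.hx s).symm, c3x.symm, rfl,
      rfl, rfl, by rw [hBx, H.φx], hBh, φ3'⟩, ?_⟩
    rw [hkb]
    refine ⟨s.T4.comp, s.fk4.1, ?_⟩
    rw [← ((B.isComp_iff_cmp n4 H.ok4.sq).mp hE).1]
    exact cen_le _ _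
  · -- `k' = k b₄`
    exfalso
    have hx' : x = h * k' := by
      rw [hxeq, e]
      calc b4 * (h * k) = (b4 * h) * k := by group
        _ = h * (b4 * k) := by rw [← H.hb4 s]; group
        _ = h * (k * b4) := by rw [← s.kb4]
    rw [hx', B.mul _ _ (le_normalizer hhF) hfk'.1, hBh, hBk', mul_one, H.card_kappa] at h3f
    omega

end Cfg

end Cfsg.Agent.UGT.A9.Dg
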