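import Cfsg.Agent.UGT.A9.DgFive

/-!
# NodeA9, (3.2d), part 3: the pump-ups to `C(k')`

`F`, `F₃`: the pump-ups of `cen K₄ k'`, `cen K₃ k'` in `C(k')`. `St.single`: `F = F₃` is normalized by `b₃`, `b₄` and contains
both.
-/

set_option autoImplicit false
set_option linter.unusedSectionVars false

open Cfsg Subgroup Equiv Equiv.Perm
open Cfsg.Agent.SignalizersComponents Cfsg.Agent.Lib
open Cfsg.Agent.SignalizersComponents.IntrinsicBasic
open Cfsg.Agent.SignalizersComponents.IntrinsicIntr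
open Cfsg.Agent.SignalizersComponents.PLayerAut
open Cfsg.Agent.Intrinsic Cfsg.Agent.Intrinsic.Basic Cfsg.Agent.Intrinsic.Cen Cfsg.Agent.Intrinsic.Diag
open Cfsg.Agent.McLLyComp.Act
open Cfsg.Agent.UGT.Triple Cfsg.Agent.UGT.LemG Cfsg.Agent.UGT.PumpGen Cfsg.Agent.UGT.RedAlt
open Cfsg.Agent.UAlt Cfsg.Agent.UGT.Iface Cfsg.Agent.UGT.A9.Marker
open scoped commutatorElement

namespace Cfsg.Agent.UGT.A9.Dg

universe u

variable {G : Type u} [Group G] [Finite G] {α : Type*} [Fintype α] [DecidableEq α]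
  {L : Subgroup G} {S : Finset α}

namespace Cfg

variable {x a : G} {M : Mod L S} {r2 r3 b3 b4 r : G} {i4 i5 i6 i7 i8 i9 : α}
  (H : Cfg x a M r2 r3 b3 b4 r i4 i5 i6 i7 i8 i9)
  {Kr K4 K3 : Subgroup G} {A4 : Mod K4 (fixIn S (M.φ b4))} {A3 : Mod K3 (fixIn S (M.φ b3))}
  {h k k' : G} {J : Subgroup G}
  (s : St (Kr := Kr) x a M r2 b3 b4 r i4 i5 i6 i7 i8 i9 A4 A3 h k k' J)

include H s

theorem hb4 : h * b4 = b4 * h := comm_c (s.T4.comp.le s.hK)

theorem hr2 : h * r2 = r2 * h := by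
  rw [← s.hkr, ← mul_assoc, s.hh, one_mul, mul_assoc, ← s.hk, ← mul_assoc, s.hh, one_mul]

theorem kr2 : k * r2 = r2 * k := by
  rw [← s.hkr, ← mul_assoc, ← s.hk, mul_assoc]

theorem hx : h * x = x * h := by
  rw [H.xeq, ← mul_assoc, H.hb4 s, mul_assoc, H.hr2 s, mul_assoc]

theorem kx : k * x = x * k := by
  rw [H.xeq, ← mul_assoc, s.kb4, mul_assoc, H.kr2 s, mul_assoc]

theorem kr : k * r = r * k := by
  rw [H.rb, ← mul_assoc, s.kb3, mul_assoc, s.kb4, mul_assoc]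

/-- `k'` commutes with everything commuting with `k` and `b₄` -/
theorem k'comm {y : G} (h1 : k * y = y * k) (h2 : b4 * y = y * b4) : k' * y = y * k' := by
  rcases s.or with e | e
  · rw [e, h1]
  · rw [e, mul_assoc, h2, ← mul_assoc, h1, mul_assoc]

theorem k'k' : k' * k' = 1 := by
  rcases s.or with e | e
  · rw [e, s.kk]
  · rw [e]
    calc k * b4 * (k * b4) = k * (b4 * k) * b4 := by group
      _ = (k * k) * (b4 * b4) := by rw [← s.kb4]; group
      _ = 1 := by rw [s.kk, H.ok4.sq, one_mul]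

theorem k'ord : orderOf k' = 2 := orderOf_eq_prime (by rw [pow_two]; exact H.k'k' s) s.ne1

theorem k'b3 : k' * b3 = b3 * k' := H.k'comm s s.kb3 (H.comm H.mb4 H.mb3)
theorem k'b4 : k' * b4 = b4 * k' := H.k'comm s s.kb4 rfl
theorem k'x : k' * x = x * k' := H.k'comm s (H.kx s) (H.comm H.mb4 H.mx)
theorem k'r : k' * r = r * k' := H.k'comm s (H.kr s) (H.comm H.mb4 H.mr)
theorem k'h : k' * h = h * k' := H.k'comm s s.hk.symm (H.hb4 s).symm

theorem Jk' : J ≤ centralizer ({k'} : Set G) := fun _ hy =>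
  mem_c (H.k'comm s (comm_c (s.Jk hy)).symm (comm_c (s.Jb4 hy)).symm).symm

theorem J_le4 : J ≤ cen K4 k' := by
  rw [← s.Jp]
  exact PComponents.pElem_mono (le_inf s.JK4 (H.Jk' s))

theorem J_le3 : J ≤ cen K3 k' := by
  rw [← s.Jp]
  exact PComponents.pElem_mono (le_inf s.JK3 (H.Jk' s))

/-- the pump-up of `K₄` -/
theorem pump4 : ∃ F, IsTriple x k' F ∧ ((b4 ∈ normalizer (F : Set G) ∧ cen K4 k' ≤ F) ∨
    (cj b4 F ≠ F ∧ cen K4 k' = diag (centralizer ({k'} : Set G)) F b4)) :=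
  s.T4.pump (H.k'ord s) (H.k'b4 s) (H.k'x s) s.f4

theorem pump3 : ∃ F, IsTriple x k' F ∧ ((b3 ∈ normalizer (F : Set G) ∧ cen K3 k' ≤ F) ∨
    (cj b3 F ≠ F ∧ cen K3 k' = diag (centralizer ({k'} : Set G)) F b3)) :=
  s.T3.pump (H.k'ord s) (H.k'b3 s) (H.k'x s) s.f3

/-- `cen K₄ k'` is a 2-component of `C(k') ∩ C(b₄)` -/
theorem comp4 : IsComp (centralizer ({k'} : Set G) ⊓ centralizer ({b4} : Set G)) (cen K4 k') := by
  rw [inf_comm]
  exact (isComp_cen s.T4.comp (mem_c (H.k'b4 s)) (H.k'k' s) s.f4).1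

theorem comp3 : IsComp (centralizer ({k'} : Set G) ⊓ centralizer ({b3} : Set G)) (cen K3 k') := by
  rw [inf_comm]
  exact (isComp_cen s.T3.comp (mem_c (H.k'b3 s)) (H.k'k' s) s.f3).1

theorem alt4 : AltType K4 7 := by
  have := A4.altType
  rwa [H.card_b4] at this

theorem altc4 : AltType (cen K4 k') 7 :=
  altType_cen s.T4.comp (mem_c (H.k'b4 s)) (H.k'k' s) s.f4 (H.alt4 s)

/-- labels of `cen K₄ k'` -/
theorem modc4 : ∃ C : Mod (cen K4 k') (fixIn S (M.φ b4)), ∀ y ∈ cen K4 k', C.φ y = A4.φ y :=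
  CaseD.exists_mod_cen A4 (H.k'k' s) s.f4 (by rw [H.card_b4])

theorem f4b : Fixes b4 K4 :=
  Intrinsic.WZero.fixes_of_comm fun _ hy => (comm_c (s.T4.comp.le hy)).symm

theorem A4r : A4.φ r = swap i6 i7 := by
  have hf := H.f4b s
  rw [H.rb, A4.mul _ _ s.n4 hf.1, (A4.fixes_iff hf.1).mpr hf, mul_one, s.A4b3]

theorem nr4 : r ∈ normalizer (K4 : Set G) := by
  rw [H.rb]; exact mul_mem s.n4 (H.f4b s).1

/-- the double case is impossible -/
theorem not_double (W : W9 G) {F F3 : Subgroup G} (TF : IsTriple x k' F) (TF3 : IsTriple x k' F3)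
    (h4 : cj b4 F ≠ F ∧ cen K4 k' = diag (centralizer ({k'} : Set G)) F b4)
    (h3 : (b3 ∈ normalizer (F3 : Set G) ∧ cen K3 k' ≤ F3) ∨
      (cj b3 F3 ≠ F3 ∧ cen K3 k' = diag (centralizer ({k'} : Set G)) F3 b3)) : False := by
  obtain ⟨hne, heq⟩ := h4
  have hb4X : b4 ∈ centralizer ({k'} : Set G) := mem_c (H.k'b4 s).symm
  have hb3X : b3 ∈ centralizer ({k'} : Set G) := mem_c (H.k'b3 s).symm
  have hrX : r ∈ centralizer ({k'} : Set G) := mem_c (H.k'r s).symm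
  have hJd : J ≤ diag (centralizer ({k'} : Set G)) F b4 := (H.J_le4 s).trans heq.le
  have hmF : IsMark (centralizer ({k'} : Set G)) J F :=
    mark_diag s.mkr TF.comp hb4X H.ok4.sq hne hJd
  have hmF' : IsMark (centralizer ({k'} : Set G)) J (cj b4 F) :=
    mark_diag_cj s.mkr TF.comp hb4X H.ok4.sq hne hJd
  -- `b₃` interchanges
  have hsw : cj b3 F = cj b4 F := by
    rcases h3 with ⟨-, hle⟩ | ⟨hne3, heq3⟩
    · exfalso
      have hJ3 := (H.J_le3 s).trans hle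
      exact hne ((eq_of_le TF3.comp hJ3 hmF').trans (eq_of_le TF3.comp hJ3 hmF).symm)
    · have hJd3 : J ≤ diag (centralizer ({k'} : Set G)) F3 b3 := (H.J_le3 s).trans heq3.le
      rcases swap_or s.mkr TF.comp hb4X H.ok4.sq hne hJd hb3X s.Jb3 with e | e
      · exfalso
        rcases eq_or_of_diag TF3.comp hb3X H.ok3.sq hne3 hJd3 hmF with e1 | e1
        · exact hne3 (e1 ▸ e)
        · apply hne3
          rw [e1, ← IntrinsicBasic.cj_mul, H.ok3.sq, cj_one] at e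
          exact e.symm
      · exact e
  -- `r` normalizes `F`
  have hrF : cj r F = F := by
    rw [H.rb, IntrinsicBasic.cj_mul, ← hsw, ← IntrinsicBasic.cj_mul, H.ok3.sq, cj_one]
  have hrN : r ∈ normalizer (F : Set G) := mem_normalizer_iff_cj.mpr hrF
  -- labels of `F`
  obtain ⟨C, hC⟩ := H.modc4 s
  obtain ⟨B, hB⟩ := exists_mod_diag_five TF.comp hb4X H.ok4.sq hne (W.center_bot TF)
    H.ok4.five H.ok4.six heq C
  have hBA : ∀ y ∈ cen K4 k', B.φ y = A4.φ y := fun y hy => (hB y hy).trans (hC y hy)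
  have hcN : cen K4 k' ≤ normalizer (F : Set G) := by
    intro m hm
    rw [heq] at hm
    exact (diag_act TF.comp hb4X H.ok4.sq hne hm).choose_spec.2.2.2
  have hrB : ∀ i ∈ fixIn S (M.φ b4), B.φ r i = swap i6 i7 i := by
    intro i hi
    rw [← H.A4r s]
    refine Mod.compat' A4 B (E := cen K4 k') ((cen_le _ _).trans le_normalizer) hcN hBA
      (by have := H.ok4.five; omega) (fun σ hσ => ?_) (H.nr4 s) hrN
      (mem_normalizer_cen (H.nr4 s) (H.k'r s).symm) hi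
    obtain ⟨y, hy, hyσ⟩ := C.lift σ hσ
    exact ⟨y, hy, by rw [← hC y hy, hyσ]⟩
  have hfix : fixIn (fixIn S (M.φ b4)) (B.φ r) = S \ {i6, i7, i8, i9} := by
    rw [← H.fixF4]
    ext i
    rw [mem_fixIn, mem_fixIn (σ := swap i6 i7)]
    exact and_congr_right fun hi => by rw [hrB i hi]
  have h5 : 5 ≤ (fixIn (fixIn S (M.φ b4)) (B.φ r)).card := by rw [hfix, H.card_F5]
  have hE := B.isComp_cmp_of TF.comp hrN H.okr.sq h5
  have hmE : IsMark (centralizer ({k'} : Set G) ⊓ centralizer ({r} : Set G)) J (B.cmp r) := by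
    refine ⟨hE, fun hfx => ?_⟩
    obtain ⟨σ, hσ, -, hσ1⟩ := exists_inv_alt (S := S \ {i6, i7, i8, i9})
      (by rw [H.card_F5]; norm_num)
    obtain ⟨n, hn, hnσ⟩ := s.Jl σ hσ
    obtain ⟨y, hy⟩ : ∃ y, σ y ≠ y := by
      by_contra hcon
      push Not at hcon
      exact hσ1 (Equiv.ext hcon)
    have hyF : y ∈ S \ {i6, i7, i8, i9} := by
      by_contra hc
      exact hy (hσ.2 y hc)
    have hn' := H.J_le4 s hn
    refine B.not_fixes_cmp hrN H.okr.sq h5 (hcN hn') (by rw [hfix]; exact hyF) ?_ (hfx n hn)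
    rw [hBA n hn', hnσ]
    exact hy
  obtain ⟨hmE', hneE⟩ := two_of TF.comp hb4X hne (H.comm H.mr H.mb4) s.Jb4 hmE (B.cmp_le r)
  -- in `C(r)`
  rw [inf_comm] at hmE hmE'
  have hk'X : k' ∈ centralizer ({r} : Set G) := mem_c (H.k'r s)
  exact hneE (mark_unique hk'X (H.k'k' s) (le_inf (s.JKr.trans s.hr.comp.le) (H.Jk' s)) s.hr.comp
    s.JKr (oneComp W (s.hr.triple H.T H.okr)) hmE' hmE)

/-- **single case** -/
theorem single (W : W9 G) : ∃ F, IsTriple x k' F ∧ b4 ∈ normalizer (F : Set G) ∧ cen K4 k' ≤ F ∧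
    b3 ∈ normalizer (F : Set G) ∧ cen K3 k' ≤ F := by
  obtain ⟨F, TF, h4⟩ := H.pump4 s
  obtain ⟨F3, TF3, h3⟩ := H.pump3 s
  rcases h4 with ⟨hn, hle⟩ | h4
  · have hJF := (H.J_le4 s).trans hle
    rcases h3 with ⟨hn3, hle3⟩ | ⟨hne3, heq3⟩
    · have e : F3 = F := eq_of_le TF.comp hJF (mark_of_le s.mkr TF3.comp ((H.J_le3 s).trans hle3))
      subst e
      exact ⟨F3, TF, hn, hle, hn3, hle3⟩
    · exfalso
      have hb3X : b3 ∈ centralizer ({k'} : Set G) := mem_c (H.k'b3 s).symm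
      have hJd3 : J ≤ diag (centralizer ({k'} : Set G)) F3 b3 := (H.J_le3 s).trans heq3.le
      have e1 := eq_of_le TF.comp hJF (mark_diag s.mkr TF3.comp hb3X H.ok3.sq hne3 hJd3)
      have e2 := eq_of_le TF.comp hJF (mark_diag_cj s.mkr TF3.comp hb3X H.ok3.sq hne3 hJd3)
      exact hne3 (e2.trans e1.symm)
  · exact (H.not_double s W TF TF3 h4 h3).elim

end Cfg

end Cfsg.Agent.UGT.A9.Dg
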