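import Cfsg.Agent.UGT.A9.DgTwo

/-!
# NodeA9, (3.2b), (3.2c)

* `exists_K4`: `K_{b₄} ≠ K_{b₄}^a`, normalized by `b₃`, contains `I = cen K_r b₃`.
* `not_sgl3`, `not_sgl4`: `K_{a b₃}`, `K_{a b₄}` are not (single, of type `A₇`).
-/

set_option autoImplicit false
set_option linter.unusedSectionVars false

open Cfsg Subgroup Equiv Equiv.Perm
open Cfsg.Agent.SignalizersComponents Cfsg.Agent.Lib
open Cfsg.Agent.SignalizersComponents.IntrinsicBasic
open Cfsg.Agent.SignalizersComponents.IntrinsicIntr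
open Cfsg.Agent.SignalizersComponents.PLayerAut
open Cfsg.Agent.Intrinsic.Basic Cfsg.Agent.Intrinsic.Cen Cfsg.Agent.Intrinsic.Diag
open Cfsg.Agent.McLLyComp.Act
open Cfsg.Agent.UGT.Triple Cfsg.Agent.UGT.LemG Cfsg.Agent.UGT.PumpGen Cfsg.Agent.UGT.RedAlt
open Cfsg.Agent.UAlt Cfsg.Agent.UGT.Iface Cfsg.Agent.UGT.A9.Marker
open scoped commutatorElement

namespace Cfsg.Agent.UGT.A9.Dg

universe u

variable {G : Type u} [Group G] [Finite G] {α : Type*} [Fintype α] [DecidableEq α]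
  {L : Subgroup G} {S : Finset α}

namespace Cfg

variable {x a : G} {M : Mod L S} {r2 r3 b3 b4 r : G} {i4 i5 i6 i7 i8 i9 : α}
  (H : Cfg x a M r2 r3 b3 b4 r i4 i5 i6 i7 i8 i9)

include H

/-- `C_{K_r}(b₃)^∞ = C_{K_r}(b₄)^∞` -/
theorem cen34 {Kr : Subgroup G} (hr : Dbl M a r Kr) : cen Kr b3 = cen Kr b4 := by
  show PComponents.pElem 2 _ = PComponents.pElem 2 _
  congr 1
  have h : ∀ {y : G}, y * r = r * y → (y * b3 = b3 * y ↔ y * b4 = b4 * y) := by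
    intro y hy
    have h1 := congrArg (fun Z : Subgroup G => y ∈ Z) H.cent3
    simp only [mem_inf, mem_centralizer_singleton_iff, eq_iff_iff] at h1
    have h2 := congrArg (fun Z : Subgroup G => y ∈ Z) H.symm.cent3
    simp only [mem_inf, mem_centralizer_singleton_iff, eq_iff_iff] at h2
    constructor
    · intro h3; exact (h1.mp ⟨hy, h3⟩).1
    · intro h4; exact (h2.mp ⟨hy, h4⟩).1
  ext y
  simp only [mem_inf, mem_centralizer_singleton_iff]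
  exact and_congr_right fun hy => h (comm_c (hr.comp.le hy))

/-- **(3.2b)** -/
theorem exists_K4 (W : W9 G) {Kr : Subgroup G} (hr : Dbl M a r Kr) :
    ∃ K4, IsTriple x b4 K4 ∧ Dbl M a b4 K4 ∧ cj b3 K4 = K4 ∧ cen Kr b3 ≤ K4 ∧
      IsComp (K4 ⊓ centralizer ({b3} : Set G)) (cen Kr b3) := by
  have hn3 := H.norm3 W hr
  have hI := H.mark_cen_r hr H.u3 hn3
  obtain ⟨hI', hne⟩ := H.two_r hr H.u3 hn3
  rw [H.cent3] at hI hI'
  obtain ⟨K4, T4, h4⟩ := H.ok4.exists_K H.T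
  rcases h4 with h4 | h4
  · exfalso
    have hNK : M.cmpT (UU a b3 b4) ≤ K4 := (H.N_le_cmp H.u4).trans h4.le
    exact hne (mark_unique (H.cc H.mb3 H.mb4) H.ok3.sq
      (le_inf (hNK.trans h4.comp.le) (H.N_comm H.u3)) h4.comp hNK (oneComp W T4) hI' hI)
  · rcases H.swap_or_w H.u4 h4 H.u3 with h | h
    · rcases inf_of_norm h4.comp (H.cc H.ma H.mb4) H.aa h4.ne (H.N_le_diag H.u4 h4)
        (H.cc H.mb3 H.mb4) H.ok3.sq (H.N_comm H.u3) h hI with ⟨e1, e2⟩ | ⟨e0, e1, e2⟩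
      · exact ⟨K4, T4, h4, h, e1, e2⟩
      · have h4' := h4.cj H.aa (H.comm H.ma H.mb4)
        exact ⟨cj a K4, h4'.triple H.T H.ok4, h4', e0, e1, e2⟩
    · exfalso
      obtain ⟨-, -, hu⟩ := H.swap_w H.u4 H.ok4 h4 W H.u3 h
      exact hne ((hu _ hI').trans (hu _ hI).symm)

/-- **(3.2b)** for `b₃` -/
theorem exists_K3 (W : W9 G) {Kr : Subgroup G} (hr : Dbl M a r Kr) :
    ∃ K3, IsTriple x b3 K3 ∧ Dbl M a b3 K3 ∧ cj b4 K3 = K3 ∧ cen Kr b3 ≤ K3 ∧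
      IsComp (K3 ⊓ centralizer ({b4} : Set G)) (cen Kr b3) := by
  rw [H.cen34 hr]
  exact H.symm.exists_K4 W hr

/-- single case, type `A₇`: `a` fixes `K_{a b₃}` -/
theorem fixes_a_of {K : Subgroup G} (hK : Sgl M a (a * b3) K) (h7 : IsAlt 7 (Bar K)) : Fixes a K := by
  obtain ⟨B⟩ := RedRB.exists_mod (le_refl 7) h7
  have hM : IsComp (K ⊓ centralizer ({a} : Set G)) (M.cmp (a * b3)) := by
    refine (M.isComp_cmp_of H.T.comp H.oka3.N H.oka3.sq H.oka3.five).restrict ?_ ?_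
    · rw [inf_comm (centralizer ({a} : Set G))]
      exact inf_le_inf_right _ hK.comp.le
    · exact le_inf hK.le ((M.cmp_le _).trans H.T.comp.le)
  refine fixes_of_altType B hK.norm H.aa hM ?_
  have h1 := altType_cmp M H.oka3.N H.oka3.sq H.oka3.five
  rw [H.φaw H.Nb3, H.card_b3] at h1
  rw [show (Finset.univ : Finset (Fin 7)).card = 7 from by simp]
  exact h1

/-- **(3.2c)** -/
theorem not_sgl3 (W : W9 G) {Kr : Subgroup G} (hr : Dbl M a r Kr) {K : Subgroup G}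
    (hK : Sgl M a (a * b3) K) : ¬ IsAlt 7 (Bar K) := by
  intro h7
  have hn3 := H.norm3 W hr
  obtain ⟨K4, T4, h4, h4n, -, -⟩ := H.exists_K4 W hr
  have hfa := H.fixes_a_of hK h7
  obtain ⟨B⟩ := RedRB.exists_mod (le_refl 7) h7
  have hNK : M.cmpT (UU a b3 b4) ≤ K := (H.N_le_cmp H.ua3).trans hK.le
  -- `C(a b₃) ∩ C(b₄)`: type `A₇`
  have hsw4 : cj (a * b3) K4 = cj a K4 := by rw [IntrinsicBasic.cj_mul, h4n]
  obtain ⟨hD, hD7, -⟩ := H.swap_w H.u4 H.ok4 h4 W H.ua3 hsw4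
  rw [H.card_b4] at hD7
  rw [inf_comm] at hD
  obtain ⟨hb4K, -, hDc⟩ := inf_of_le hK.comp hNK (H.cc H.mb4 H.ma3) H.ok4.sq (H.N_comm H.u4) hD
  have hf4 : Fixes b4 K := fixes_of_altType B hb4K H.ok4.sq hDc (by
    rw [show (Finset.univ : Finset (Fin 7)).card = 7 from by simp]; exact hD7)
  -- `r` fixes `K`
  have hfab : Fixes (a * b3) K :=
    Intrinsic.WZero.fixes_of_comm fun _ hy => (comm_c (hK.comp.le hy)).symm
  have hr' : r = a * (a * b3) * b4 := by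
    rw [H.rb, ← mul_assoc a a, H.aa, one_mul]
  have hfr : Fixes r K := by
    rw [hr']
    exact fixes_mul (fixes_mul hfa hfab) hf4
  -- `C(a b₃) ∩ C(r)`: type `A₅`
  have hswr : cj (a * b3) Kr = cj a Kr := by rw [IntrinsicBasic.cj_mul, hn3]
  obtain ⟨hE, hE5, -⟩ := H.swap_r hr W H.ua3 hswr
  rw [inf_comm] at hE
  obtain ⟨-, -, hEc⟩ := inf_of_le hK.comp hNK (H.cc H.mr H.ma3) H.okr.sq (H.N_comm H.ur) hE
  have h8 := comp_cen_eq hK.comp (H.cc H.mr H.ma3) H.okr.sq hfr hEc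
  have h9 : AltType (cen K r) 7 := altType_cen hK.comp (H.cc H.mr H.ma3) H.okr.sq hfr h7
  rw [← h8] at h9
  have := h9.unique hE5 (by norm_num) (by norm_num)
  omega

theorem not_sgl4 (W : W9 G) {Kr : Subgroup G} (hr : Dbl M a r Kr) {K : Subgroup G}
    (hK : Sgl M a (a * b4) K) : ¬ IsAlt 7 (Bar K) := H.symm.not_sgl3 W hr hK

end Cfg

end Cfsg.Agent.UGT.A9.Dg
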