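import Cfsg.Agent.UGT.A9.DgOne

/-!
# NodeA9, (3.2a): `b₃` normalizes `K_r`
-/

set_option autoImplicit false
set_option linter.unusedSectionVars false

open Cfsg Subgroup Equiv Equiv.Perm
open Cfsg.Agent.SignalizersComponents Cfsg.Agent.Lib
open Cfsg.Agent.SignalizersComponents.IntrinsicBasic
open Cfsg.Agent.SignalizersComponents.IntrinsicIntr
open Cfsg.Agent.SignalizersComponents.PLayerAut
open Cfsg.Agent.Intrinsic.Basic Cfsg.Agent.Intrinsic.Cen Cfsg.Agent.Intrinsic.Diag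
open Cfsg.Agent.McLLyComp.Act
open Cfsg.Agent.UGT.Triple Cfsg.Agent.UGT.LemG Cfsg.Agent.UGT.PumpGen Cfsg.Agent.UGT.RedAlt
open Cfsg.Agent.UAlt Cfsg.Agent.UGT.Iface Cfsg.Agent.UGT.A9.Marker
open scoped commutatorElement

namespace Cfsg.Agent.UGT.A9.Dg

universe u

variable {G : Type u} [Group G] [Finite G] {α : Type*} [Fintype α] [DecidableEq α]
  {L : Subgroup G} {S : Finset α}

namespace Cfg

variable {x a : G} {M : Mod L S} {r2 r3 b3 b4 r : G} {i4 i5 i6 i7 i8 i9 : α}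
  (H : Cfg x a M r2 r3 b3 b4 r i4 i5 i6 i7 i8 i9)

include H

theorem F5_fix {w : G} (hw : w ∈ UU a b3 b4) : S \ {i6, i7, i8, i9} ⊆ fixIn S (M.φ w) := by
  intro i hi
  rw [← H.FU, M.mem_FT H.UN] at hi
  exact mem_fixIn.mpr ⟨hi.1, hi.2 w hw⟩

theorem F5_fix' {w t : G} (hw : w ∈ UU a b3 b4) (ht : t ∈ UU a b3 b4) {K : Subgroup G}
    {A : Mod K (fixIn S (M.φ w))} (hA : ∀ i ∈ fixIn S (M.φ w), A.φ t i = M.φ t i) :
    S \ {i6, i7, i8, i9} ⊆ fixIn (fixIn S (M.φ w)) (A.φ t) := by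
  intro i hi
  have h1 := H.F5_fix hw hi
  have h2 := H.F5_fix ht hi
  rw [mem_fixIn]
  refine ⟨h1, ?_⟩
  rw [hA i h1]
  exact (mem_fixIn.mp h2).2

theorem card_F5' {F : Finset α} (h : S \ {i6, i7, i8, i9} ⊆ F) : 5 ≤ F.card := by
  rw [← H.card_F5]
  exact Finset.card_le_card h

section Kw

variable {w : G} (hw : w ∈ UU a b3 b4) (okw : Wok x a M w) {K : Subgroup G} (hK : Dbl M a w K)

include hw hK

theorem N_le_diag : M.cmpT (UU a b3 b4) ≤ diag (centralizer ({w} : Set G)) K a :=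
  (H.N_le_cmp hw).trans hK.eq.le

theorem N_norm : M.cmpT (UU a b3 b4) ≤ normalizer (K : Set G) :=
  (H.N_le_cmp hw).trans (hK.cmp_le H.aa (H.comm H.ma (H.UP hw)))

theorem swap_or_w {t : G} (ht : t ∈ UU a b3 b4) : cj t K = K ∨ cj t K = cj a K :=
  swap_or H.mkr hK.comp (H.cc H.ma (H.UP hw)) H.aa hK.ne (H.N_le_diag hw hK)
    (H.cc (H.UP ht) (H.UP hw)) (H.N_comm ht)

include okw

/-- two N-components of `C(w) ∩ C(t)` -/
theorem two_w (W : W9 G) {t : G} (ht : t ∈ UU a b3 b4) (h : cj t K = K) :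
    ∃ E, IsMark (centralizer ({w} : Set G) ⊓ centralizer ({t} : Set G))
        (M.cmpT (UU a b3 b4)) E ∧
      IsMark (centralizer ({w} : Set G) ⊓ centralizer ({t} : Set G))
        (M.cmpT (UU a b3 b4)) (cj a E) ∧ cj a E ≠ E ∧ E ≤ K := by
  obtain ⟨A, hA, hA'⟩ := hK.exists_mod W H.T okw
  have hwP := H.UP hw
  have htP := H.UP ht
  have htK : t ∈ normalizer (K : Set G) := mem_normalizer_iff_cj.mpr h
  have htt := H.sq htP
  have hsub := H.F5_fix' hw ht (hA' t (H.PN htP) (H.comm htP hwP) htK)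
  have h5 := H.card_F5' hsub
  have hE := A.isComp_cmp_of hK.comp htK htt h5
  have hmark : IsMark (centralizer ({w} : Set G) ⊓ centralizer ({t} : Set G))
      (M.cmpT (UU a b3 b4)) (A.cmp t) :=
    ⟨hE, H.not_fixes_N A (H.N_norm hw hK) (fun n hn => hA n (H.N_le_cmp hw hn)) htK htt h5 hsub⟩
  obtain ⟨h1, h2⟩ := two_of hK.comp (H.cc H.ma hwP) hK.ne (H.comm htP H.ma) (H.N_comm H.ua) hmark
    (A.cmp_le t)
  exact ⟨A.cmp t, hmark, h1, h2, A.cmp_le t⟩

/-- the only N-component of `C(w) ∩ C(t)` if `t` interchanges -/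
theorem swap_w (W : W9 G) {t : G} (ht : t ∈ UU a b3 b4) (h : cj t K = cj a K) :
    IsMark (centralizer ({w} : Set G) ⊓ centralizer ({t} : Set G)) (M.cmpT (UU a b3 b4))
      (diag (centralizer ({w} : Set G)) K t) ∧
    AltType (diag (centralizer ({w} : Set G)) K t) (fixIn S (M.φ w)).card ∧
    ∀ I, IsMark (centralizer ({w} : Set G) ⊓ centralizer ({t} : Set G)) (M.cmpT (UU a b3 b4)) I →
      I = diag (centralizer ({w} : Set G)) K t := by
  have hww := H.sq (H.UP hw)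
  have htt := H.sq (H.UP ht)
  refine ⟨mark_of_swap H.mkr hK.comp (H.cc H.ma (H.UP hw)) H.aa hK.ne (H.N_le_diag hw hK)
    (H.cc (H.UP ht) (H.UP hw)) htt (H.N_comm ht) h, ?_, fun I hI => ?_⟩
  · exact altType_diag hK.comp (H.cc (H.UP ht) (H.UP hw)) htt (h ▸ hK.ne)
      (W.center_bot (hK.triple H.T okw)) (hK.altType W H.T okw)
  · exact inf_of_swap hK.comp (H.cc H.ma (H.UP hw)) H.aa hK.ne (H.N_le_diag hw hK)
      (H.cc (H.UP ht) (H.UP hw)) htt (H.N_comm ht) h hI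

end Kw

/-! ### the single case for `b₄` -/

/-- the part `r₂` of `x` -/
theorem part4 : ∃ d, Part x a M r2 b4 d := by
  obtain ⟨d, hd, hda, hdw, hf⟩ := exists_d H.T M H.ok4.sq H.ok4.wa H.ok4.wx H.ok4.N H.ok4.fix
  have hdx : d * x = x * d := comm_c (core_le _ hd)
  have hdb : d * b4 = b4 * d := comm_c hdw
  have h2 : r2 = x * b4 := by rw [H.e4, ← mul_assoc, H.xx, one_mul]
  refine ⟨d, H.L2, H.s2, H.cx2, H.e4, H.ok4.ord, H.ok4.wa, H.ok4.wx, H.Nb4, ?_, ?_, H.ok4.five,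
    M.isComp_cmp_of H.T.comp H.Nb4 H.ok4.sq H.ok4.five, ?_, hd, hda, hdw, ?_,
    not_fixes_cmp H.T M H.ok4.sq H.Nb4 H.ok4.fix H.ok4.five hd hda hf⟩
  · rw [H.φ2]
    intro h
    have := Equiv.congr_fun h i6
    rw [Perm.mul_apply, swap_apply_left, Perm.one_apply,
      swap_apply_of_ne_of_ne (Ne.symm H.nds.1.2.2.1) (Ne.symm H.nds.2.1.2.1)] at this
    exact H.nds.2.2.1.1 this.symm
  · intro i
    by_cases hi : M.φ b4 i = i
    · right
      rw [H.φx', Perm.mul_apply, hi]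
    · left
      rw [H.φ2, swap2_eq_iff H.nd4567]
      have h3 : i = i8 ∨ i = i9 := by
        by_contra hcon
        push Not at hcon
        exact hi (by rw [H.φb4]; exact (swap_eq_iff H.nds.2.2.2.2).mpr hcon)
      have hn := H.nds
      rcases h3 with rfl | rfl
      · exact ⟨Ne.symm hn.1.2.2.2.1, Ne.symm hn.2.1.2.2.1, Ne.symm hn.2.2.1.2.1, Ne.symm hn.2.2.2.1.1⟩
      · exact ⟨Ne.symm hn.1.2.2.2.2, Ne.symm hn.2.1.2.2.2, Ne.symm hn.2.2.1.2.2, Ne.symm hn.2.2.2.1.2⟩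
  · refine M.mem_cmp H.L2 (H.comm H.mb4 H.m2) ?_ (n := 1) (by rw [pow_one, pow_two, H.s2])
    refine mem_alt.mpr ⟨(mem_alt.mp (M.mem_alt r2 H.L2)).1, fun i hi => ?_⟩
    rw [H.φ2, swap2_eq_iff H.nd4567]
    by_cases hiS : i ∈ S
    · have h3 : i = i8 ∨ i = i9 := by
        by_contra hcon
        push Not at hcon
        exact hi (mem_fixIn.mpr ⟨hiS, by rw [H.φb4]; exact (swap_eq_iff H.nds.2.2.2.2).mpr hcon⟩)
      have hn := H.nds
      rcases h3 with rfl | rfl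
      · exact ⟨Ne.symm hn.1.2.2.2.1, Ne.symm hn.2.1.2.2.1, Ne.symm hn.2.2.1.2.1, Ne.symm hn.2.2.2.1.1⟩
      · exact ⟨Ne.symm hn.1.2.2.2.2, Ne.symm hn.2.1.2.2.2, Ne.symm hn.2.2.1.2.2, Ne.symm hn.2.2.2.1.2⟩
    · have h := H.inS
      refine ⟨?_, ?_, ?_, ?_⟩ <;> rintro rfl <;> tauto
  · rw [h2]
    calc d * (x * b4) = (d * x) * b4 := by group
      _ = x * (d * b4) := by rw [hdx]; group
      _ = x * b4 * d := by rw [hdb]; group

/-- single case: `a` fixes `K_{b₄}` and `K_{b₄}` has type `A₇` -/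
theorem single4 (W : W9 G) {K : Subgroup G} (hK : Sgl M a b4 K) : Fixes a K ∧ IsAlt 7 (Bar K) := by
  obtain ⟨d, P⟩ := H.part4
  have T := hK.triple H.T H.ok4
  have hdK : ¬ Fixes d K := by
    intro hfK
    have hM := P.comp
    rw [inf_comm] at hM
    exact P.df (PumpGen.fixes_of_pump H.aa H.ok4.wa hM hK.comp P.dc P.da hfK (Or.inl hK.le))
  have key : ∀ (n : ℕ), 7 ≤ n → IsAlt n (Bar K) → Fixes a K ∧ IsAlt 7 (Bar K) := by
    intro n hn hA
    obtain ⟨Mo'⟩ := RedRB.exists_mod hn hA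
    have := P.isAlt H.T T hdK hK.norm hK.le Mo'
    rwa [H.card_b4] at this
  rcases W x b4 K T with h1 | h1 | h1
  · exfalso
    exact LTwo.l2_no_alt h1 hK.le (k := (fixIn S (M.φ b4)).card) (by rw [H.card_b4])
      (altType_cmp M H.Nb4 H.ok4.sq H.ok4.five)
  · exact key 7 le_rfl h1
  · exact key 9 (by norm_num) h1

/-- labels in the single case -/
theorem single4_mod (W : W9 G) {K : Subgroup G} (hK : Sgl M a b4 K) :
    ∃ A : Mod K (fixIn S (M.φ b4)), (∀ y ∈ M.cmp b4, A.φ y = M.φ y) ∧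
      ∀ y ∈ normalizer (L : Set G), y * b4 = b4 * y → y ∈ normalizer (K : Set G) →
        ∀ i ∈ fixIn S (M.φ b4), A.φ y i = M.φ y i := by
  obtain ⟨hfa, -⟩ := H.single4 W hK
  have haX : a ∈ centralizer ({b4} : Set G) := mem_c H.ok4.wa.symm
  obtain ⟨-, h3⟩ := isComp_cen hK.comp haX H.aa hfa
  have hM : IsComp (K ⊓ centralizer ({a} : Set G)) (M.cmp b4) := by
    refine (M.isComp_cmp_of H.T.comp H.Nb4 H.ok4.sq H.ok4.five).restrict ?_ ?_
    · rw [inf_comm (centralizer ({a} : Set G))]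
      exact inf_le_inf_right _ hK.comp.le
    · exact le_inf hK.le ((M.cmp_le b4).trans H.T.comp.le)
  have hMeq : M.cmp b4 = cen K a := comp_cen_eq hK.comp haX H.aa hfa hM
  rw [← hMeq] at h3
  obtain ⟨ME, hME⟩ := M.exists_cmp_five H.Nb4 H.ok4.sq H.ok4.five H.ok4.six
  obtain ⟨A, hA⟩ := ME.exists_extend_five H.ok4.five H.ok4.six h3
  have hA' : ∀ y ∈ M.cmp b4, A.φ y = M.φ y := fun y hy => (hA y hy).trans (hME y hy)
  refine ⟨A, hA', fun y hyL hyw hyK i hi => ?_⟩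
  exact Mod.compat' M A (E := M.cmp b4) ((M.cmp_le b4).trans le_normalizer)
    (hK.le.trans le_normalizer) hA' (by have := H.ok4.five; omega)
    (fun σ hσ => M.cmp_lift H.Nb4 H.ok4.sq H.ok4.five hσ) hyL hyK
    (M.mem_normalizer_cmp H.Nb4 hyL hyw) hi

/-! ### (3.2a) -/

/-- `Fix(b₃) ∩ Fix(b₄)` -/
theorem fix_b4_b3 : fixIn (fixIn S (M.φ b4)) (M.φ b3) = S \ {i6, i7, i8, i9} := by
  ext i
  rw [mem_fixIn, mem_fixIn, H.φb3, H.φb4, swap_eq_iff H.nds.2.2.1.1, swap_eq_iff H.nds.2.2.2.2]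
  simp only [Finset.mem_sdiff, Finset.mem_insert, Finset.mem_singleton, not_or]
  tauto

/-- **(3.2a)** -/
theorem norm3 (W : W9 G) {Kr : Subgroup G} (hr : Dbl M a r Kr) : cj b3 Kr = Kr := by
  rcases H.swap_or_r hr H.u3 with h | hsw
  · exact h
  exfalso
  -- `C(b₄) ∩ C(b₃)` has only one N-component, of type `A₅`
  obtain ⟨hD, hD5, hDu⟩ := H.swap_r hr W H.u3 hsw
  rw [H.cent3] at hD hDu
  -- `K_{b₄}` is single
  obtain ⟨K4, T4, h4⟩ := H.ok4.exists_K H.T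
  have hS4 : Sgl M a b4 K4 := by
    rcases h4 with h4 | h4
    · exact h4
    exfalso
    rcases H.swap_or_w H.u4 h4 H.u3 with h | h
    · obtain ⟨E, hE, hE', hne, -⟩ := H.two_w H.u4 H.ok4 h4 W H.u3 h
      exact hne ((hDu _ hE').trans (hDu _ hE).symm)
    · obtain ⟨hE, hE7, -⟩ := H.swap_w H.u4 H.ok4 h4 W H.u3 h
      rw [hDu _ hE] at hE7
      have := hE7.unique hD5 (by rw [H.card_b4]; norm_num) (by norm_num)
      rw [H.card_b4] at this
      omega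
  obtain ⟨hfa, -⟩ := H.single4 W hS4
  obtain ⟨A4, hA4, hA4'⟩ := H.single4_mod W hS4
  -- `a b₃` normalizes `K_r`
  have hw : cj (a * b3) Kr = Kr := by
    rw [IntrinsicBasic.cj_mul, hsw, ← IntrinsicBasic.cj_mul, H.aa, cj_one]
  have hE1 := H.mark_cen_r hr H.ua3 hw
  obtain ⟨hE2, hne⟩ := H.two_r hr H.ua3 hw
  -- `K_{a b₃}`
  obtain ⟨K', T', h'⟩ := H.oka3.exists_K H.T
  rcases h' with h' | h'
  · -- single
    have hNK' : M.cmpT (UU a b3 b4) ≤ K' := (H.N_le_cmp H.ua3).trans h'.le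
    rw [inf_comm] at hE1 hE2
    exact hne (mark_unique (H.cc H.mr H.ma3) H.okr.sq
      (le_inf (hNK'.trans h'.comp.le) (H.N_comm H.ur)) h'.comp hNK' (oneComp W T') hE2 hE1)
  · -- double: the N-components of `C(b₄) ∩ C(a b₃)`
    have hNK4 : M.cmpT (UU a b3 b4) ≤ K4 := (H.N_le_cmp H.u4).trans hS4.le
    have haK4 : a * b3 ∈ normalizer (K4 : Set G) := by
      refine norm_of_comm H.mkr hS4.comp hNK4 (H.cc H.ma3 H.mb4) (H.N_comm H.ua3)
    have huniq : ∀ I, IsMark (centralizer ({b4} : Set G) ⊓ centralizer ({a * b3} : Set G))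
        (M.cmpT (UU a b3 b4)) I → I = A4.cmp (a * b3) := by
      intro I hI
      obtain ⟨-, -, h3⟩ := inf_of_le hS4.comp hNK4 (H.cc H.ma3 H.mb4) H.oka3.sq (H.N_comm H.ua3) hI
      exact ((A4.isComp_iff_cmp haK4 H.oka3.sq).mp h3).1
    have hfix : fixIn (fixIn S (M.φ b4)) (A4.φ (a * b3)) = S \ {i6, i7, i8, i9} := by
      rw [← H.fix_b4_b3]
      ext i
      rw [mem_fixIn, mem_fixIn (σ := M.φ b3)]
      refine and_congr_right fun hi => ?_
      rw [hA4' _ (H.PN H.ma3) (H.comm H.ma3 H.mb4) haK4 i hi, H.φaw H.Nb3]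
    have h5 : AltType (A4.cmp (a * b3)) 5 := by
      have h1 := altType_cmp A4 haK4 H.oka3.sq (by rw [hfix, H.card_F5])
      rwa [hfix, H.card_F5] at h1
    have hcomm : centralizer ({b4} : Set G) ⊓ centralizer ({a * b3} : Set G) =
      centralizer ({a * b3} : Set G) ⊓ centralizer ({b4} : Set G) := inf_comm _ _
    rcases H.swap_or_w H.ua3 h' H.u4 with h | h
    · obtain ⟨E, hE, hE', hne', -⟩ := H.two_w H.ua3 H.oka3 h' W H.u4 h
      rw [← hcomm] at hE hE'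
      exact hne' ((huniq _ hE').trans (huniq _ hE).symm)
    · obtain ⟨hE, hE7, -⟩ := H.swap_w H.ua3 H.oka3 h' W H.u4 h
      rw [← hcomm] at hE
      rw [huniq _ hE, H.φaw H.Nb3, H.card_b3] at hE7
      have := hE7.unique h5 (by norm_num) (by norm_num)
      omega

end Cfg

end Cfsg.Agent.UGT.A9.Dg
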