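import Cfsg.Agent.UAlt.ModFive
import Cfsg.Agent.UAlt.ModT
import Cfsg.Agent.UGT.LemG

/-!
# The labelling of `D W`, `D ≤ L ∩ N(W)`; homomorphisms to small groups

* `exists_ext`: if `D` covers `L / O(L) ≅ Alt(S)` then `D W` maps onto `Alt(S)` with kernel of odd order.
* `hom_inv_eq_one`: in a group with such a map involutions are trivial in every image of order `< |Alt(S)|`.
-/

set_option autoImplicit false
set_option linter.unusedSectionVars false

open Cfsg Subgroup Equiv Equiv.Perm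
open Cfsg.Agent.SignalizersComponents Cfsg.Agent.Lib
open Cfsg.Agent.SignalizersComponents.IntrinsicBasic
open Cfsg.Agent.Intrinsic Cfsg.Agent.Intrinsic.Basic Cfsg.Agent.Intrinsic.Cen Cfsg.Agent.Intrinsic.Diag
open Cfsg.Agent.UAlt
open scoped commutatorElement

namespace Cfsg.Agent.UGT.A9

variable {α : Type*} [Fintype α] [DecidableEq α] {S : Finset α}

/-- a subgroup of `alt S` normalized by `alt S` is trivial or `alt S` -/
theorem eq_bot_or_alt (h5 : 5 ≤ S.card) {P : Subgroup (Perm α)} (hP : P ≤ alt S)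
    (hn : alt S ≤ normalizer (P : Set (Perm α))) : P = ⊥ ∨ P = alt S := by
  have hsim := isSimpleGroup_alt h5
  have hN : (P.subgroupOf (alt S)).Normal := normal_subgroupOf_of_le_normalizer hn
  rcases hsim.eq_bot_or_eq_top_of_normal _ hN with h | h
  · left
    rw [subgroupOf_eq_bot] at h
    have h1 := h.eq_bot
    rwa [inf_eq_left.mpr hP] at h1
  · right
    exact le_antisymm hP (subgroupOf_eq_top.mp h)

theorem hom_inv_eq_one {D H : Type*} [Group D] [Finite D] [Group H] [Finite H] {ψ : D →* Perm α}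
    (h5 : 5 ≤ S.card) (hr : ψ.range = alt S) (hk : Odd (Nat.card ψ.ker)) (f : D →* H)
    (hH : Nat.card H < Nat.card (alt S)) {v : D} (hv : v * v = 1) : f v = 1 := by
  have hP : f.ker.map ψ ≤ alt S := by
    rw [← hr]
    exact (map_mono le_top).trans ψ.range_eq_map.ge
  have hn : alt S ≤ normalizer ((f.ker.map ψ : Subgroup (Perm α)) : Set (Perm α)) := by
    rw [← hr]
    rintro _ ⟨x, rfl⟩
    have h1 : f.ker.Normal := inferInstance
    rw [mem_normalizer_iff]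
    intro σ
    constructor
    · rintro ⟨y, hy, rfl⟩
      exact ⟨x * y * x⁻¹, h1.conj_mem y hy x, by rw [map_mul, map_mul, map_inv]⟩
    · rintro ⟨y, hy, hyσ⟩
      refine ⟨x⁻¹ * y * x, ?_, ?_⟩
      · have := h1.conj_mem y hy x⁻¹
        rwa [inv_inv] at this
      · rw [map_mul, map_mul, map_inv, hyσ]
        group
  rcases eq_bot_or_alt h5 hP hn with h | h
  · exfalso
    have h1 : f.ker ≤ ψ.ker := (Subgroup.map_eq_bot_iff _).mp h
    have h2 : ψ.ker.index ∣ f.ker.index := Subgroup.index_dvd_of_le h1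
    have h3 : ψ.ker.index = Nat.card (alt S) := by rw [Subgroup.index_ker, hr]
    have h4 : f.ker.index ≤ Nat.card H := by
      rw [Subgroup.index_ker]
      exact Subgroup.card_le_card_group _
    have h6 := Nat.le_of_dvd (Nat.pos_of_ne_zero f.ker.index_ne_zero_of_finite) h2
    omega
  · have h1 : ψ v ∈ f.ker.map ψ := by
      rw [h, ← hr]
      exact ⟨v, rfl⟩
    obtain ⟨k, hk', hkv⟩ := h1
    have hz : k⁻¹ * v ∈ ψ.ker := by
      rw [MonoidHom.mem_ker, map_mul, map_inv, hkv, inv_mul_cancel]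
    have hfv : f v = f (k⁻¹ * v) := by
      rw [map_mul, map_inv, MonoidHom.mem_ker.mp hk', inv_one, one_mul]
    have h2 : Odd (orderOf (k⁻¹ * v)) := Odd.of_dvd_nat hk (Subgroup.orderOf_dvd_natCard _ hz)
    have h3 : Odd (orderOf (f v)) := by
      rw [hfv]
      exact Odd.of_dvd_nat h2 (orderOf_map_dvd f _)
    have h4 : orderOf (f v) ∣ 2 := orderOf_dvd_of_pow_eq_one (by rw [pow_two, ← map_mul, hv, map_one])
    rcases (Nat.dvd_prime Nat.prime_two).mp h4 with h5 | h5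
    · exact orderOf_eq_one_iff.mp h5
    · rw [h5] at h3
      exact absurd h3 (by decide)

variable {G : Type*} [Group G] [Finite G] {L : Subgroup G}

/-- the members of a subgroup of odd order normalized by a covering subgroup have trivial label -/
theorem label_eq_one (M : Mod L S) {D E : Subgroup G} (hDL : D ≤ L) (hEL : E ≤ L)
    (hDE : D ≤ normalizer (E : Set G)) (hE : Odd (Nat.card E))
    (hsurj : ∀ σ ∈ alt S, ∃ d ∈ D, M.φ d = σ) {e : G} (he : e ∈ E) : M.φ e = 1 := by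
  have h1 : M.imgT E = ⊥ := by
    refine eq_bot_of_no_inv (S := S) (by have := M.five; omega) ?_ ?_ ?_
    · intro σ hσ
      obtain ⟨t, ht, -, rfl⟩ := M.mem_imgT.mp hσ
      exact M.mem_alt t (hEL ht)
    · have key : ∀ σ ∈ alt S, ∀ τ ∈ M.imgT E, σ * τ * σ⁻¹ ∈ M.imgT E := by
        intro σ hσ τ hτ
        obtain ⟨d, hd, rfl⟩ := hsurj σ hσ
        obtain ⟨t, ht, htN, rfl⟩ := M.mem_imgT.mp hτ
        have h2 : d * t * d⁻¹ ∈ E := (mem_normalizer_iff.mp (hDE hd) t).mp ht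
        exact M.mem_imgT.mpr ⟨_, h2, le_normalizer (hEL h2), M.conj (le_normalizer (hDL hd)) htN⟩
      intro σ hσ
      rw [mem_normalizer_iff]
      intro τ
      refine ⟨key σ hσ τ, fun h => ?_⟩
      have h2 := key σ⁻¹ (inv_mem hσ) _ h
      rwa [show σ⁻¹ * (σ * τ * σ⁻¹) * σ⁻¹⁻¹ = τ by group] at h2
    · intro σ hσ hσσ
      obtain ⟨t, ht, htN, rfl⟩ := M.mem_imgT.mp hσ
      have h2 : Odd (orderOf t) := Odd.of_dvd_nat hE (Subgroup.orderOf_dvd_natCard _ ht)
      obtain ⟨m, hm⟩ := h2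
      have h3 : M.φ t ^ orderOf t = 1 := by rw [← M.pow htN, pow_orderOf_eq_one, M.one]
      rw [hm, pow_succ, pow_mul, pow_two, hσσ, one_pow, one_mul] at h3
      exact h3
  have h2 : M.φ e ∈ M.imgT E := M.mem_imgT.mpr ⟨e, he, le_normalizer (hEL he), rfl⟩
  rw [h1] at h2
  exact mem_bot.mp h2

/-- **the labelling of `D W`** -/
theorem exists_ext (M : Mod L S) {D W : Subgroup G} (hDL : D ≤ L) (hDW : D ≤ normalizer (W : Set G))
    (hW : Odd (Nat.card W)) (hsurj : ∀ σ ∈ alt S, ∃ d ∈ D, M.φ d = σ) :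
    ∃ ψ : ↥(D ⊔ W) →* Perm α, (∀ (y : ↥(D ⊔ W)), ∀ d ∈ D, d⁻¹ * (y : G) ∈ W → ψ y = M.φ d) ∧
      ψ.range = alt S ∧ Odd (Nat.card ψ.ker) := by
  classical
  have hWD : ∀ e ∈ W ⊓ D, M.φ e = 1 := by
    intro e he
    refine label_eq_one M (D := D) (E := W ⊓ D) hDL (inf_le_right.trans hDL) ?_
      (Odd.of_dvd_nat hW (card_dvd_of_le inf_le_left)) hsurj he
    intro d hd
    rw [mem_normalizer_iff_cj, cj_inf, mem_normalizer_iff_cj.mp (hDW hd), cj_eq_self_of_mem hd]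
  have hch : ∀ y : ↥(D ⊔ W), ∃ d ∈ D, d⁻¹ * (y : G) ∈ W := by
    intro y
    have h1 : (y : G) ∈ ((D ⊔ W : Subgroup G) : Set G) := y.2
    rw [Subgroup.coe_mul_of_left_le_normalizer_right _ _ hDW] at h1
    obtain ⟨d, hd, w, hw, hdw⟩ := h1
    refine ⟨d, hd, ?_⟩
    rw [← hdw]
    show d⁻¹ * (d * w) ∈ W
    rw [inv_mul_cancel_left]
    exact hw
  have huniq : ∀ (y : G), ∀ d ∈ D, ∀ d' ∈ D, d⁻¹ * y ∈ W → d'⁻¹ * y ∈ W → M.φ d = M.φ d' := by
    intro y d hd d' hd' h1 h2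
    have h5 : d⁻¹ * d' ∈ D := mul_mem (inv_mem hd) hd'
    have h3 : d⁻¹ * d' ∈ W ⊓ D := by
      refine ⟨?_, h5⟩
      have h4 := mul_mem h1 (inv_mem h2)
      rwa [show d⁻¹ * y * (d'⁻¹ * y)⁻¹ = d⁻¹ * d' by group] at h4
    have h4 := hWD _ h3
    rw [M.mul _ _ (le_normalizer (hDL (inv_mem hd))) (le_normalizer (hDL hd')),
      M.inv (le_normalizer (hDL hd)), inv_mul_eq_one] at h4
    exact h4
  choose f hfD hfW using hch
  have hmul : ∀ (y y' : G), ∀ d ∈ D, ∀ d' ∈ D, d⁻¹ * y ∈ W → d'⁻¹ * y' ∈ W →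
      (d * d')⁻¹ * (y * y') ∈ W := by
    intro y y' d hd d' hd' h1 h2
    have h3 : d'⁻¹ * (d⁻¹ * y) * (d'⁻¹)⁻¹ ∈ W := (mem_normalizer_iff.mp (inv_mem (hDW hd')) _).mp h1
    have h4 := mul_mem h3 h2
    rwa [show d'⁻¹ * (d⁻¹ * y) * (d'⁻¹)⁻¹ * (d'⁻¹ * y') = (d * d')⁻¹ * (y * y') by group] at h4
  let ψ : ↥(D ⊔ W) →* Perm α :=
    { toFun := fun y => M.φ (f y)
      map_one' := by
        rw [← M.one]
        exact huniq 1 _ (hfD 1) 1 (one_mem _) (hfW 1) (by rw [inv_one, one_mul]; exact one_mem _)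
      map_mul' := by
        intro y y'
        rw [← M.mul _ _ (le_normalizer (hDL (hfD y))) (le_normalizer (hDL (hfD y')))]
        exact huniq _ _ (hfD _) _ (mul_mem (hfD y) (hfD y')) (hfW _)
          (hmul _ _ _ (hfD y) _ (hfD y') (hfW y) (hfW y')) }
  have hψ : ∀ (y : ↥(D ⊔ W)), ∀ d ∈ D, d⁻¹ * (y : G) ∈ W → ψ y = M.φ d := fun y d hd h =>
    huniq y _ (hfD y) d hd (hfW y) h
  refine ⟨ψ, hψ, ?_, ?_⟩
  · ext σ
    constructor
    · rintro ⟨y, rfl⟩
      exact M.mem_alt _ (hDL (hfD y))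
    · intro hσ
      obtain ⟨d, hd, rfl⟩ := hsurj σ hσ
      exact ⟨⟨d, mem_sup_left hd⟩, hψ _ d hd (by rw [inv_mul_cancel]; exact one_mem _)⟩
  · have h1 : ψ.ker.map (D ⊔ W).subtype ≤ (core L ⊓ D) ⊔ W := by
      rintro _ ⟨y, hy, rfl⟩
      have h2 : M.φ (f y) = 1 := hy
      have h3 : f y ∈ core L := (M.core_iff _ (hDL (hfD y))).mp h2
      have h4 := mul_mem (mem_sup_left (⟨h3, hfD y⟩ : f y ∈ core L ⊓ D) : f y ∈ (core L ⊓ D) ⊔ W)
        (mem_sup_right (hfW y))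
      rwa [mul_inv_cancel_left] at h4
    have h2 := Subgroup.card_dvd_of_le h1
    rw [Subgroup.card_map_of_injective (Subgroup.subtype_injective _)] at h2
    refine Odd.of_dvd_nat (LemG.odd_sup (Odd.of_dvd_nat (odd_card_core L) (card_dvd_of_le inf_le_left)) hW
      (inf_le_right.trans hDW)) h2

end Cfsg.Agent.UGT.A9
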