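import Cfsg.Agent.UAlt.RFConj
import Cfsg.Agent.UAlt.Case0

/-!
# NodeA9, the isolated case: basic facts (text #11040, (4.1), (4.2))

* `KI M v K Mv`: `K` is the 2-component of `C(v)` containing `C_L(v)^∞`, labelled by `Fix(v)`.
* `Iso9 M`: `|S| = 9` and every root of `L` has such a `K`.
* `Pair M V V' T T'`: two disjoint commuting root four-groups of `L`.
* `Iso9.fixes_K` (4.1), `Iso9.fixes_other` (4.2).
-/

set_option autoImplicit false
set_option linter.unusedSectionVars false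

open Cfsg Subgroup Equiv Equiv.Perm
open Cfsg.Agent.SignalizersComponents Cfsg.Agent.Lib
open Cfsg.Agent.SignalizersComponents.IntrinsicBasic
open Cfsg.Agent.Intrinsic Cfsg.Agent.Intrinsic.Basic Cfsg.Agent.Intrinsic.Cen Cfsg.Agent.Intrinsic.Diag
open Cfsg.Agent.UAlt
open scoped commutatorElement

namespace Cfsg.Agent.UGT.A9

variable {G : Type*} [Group G] {α : Type*} [Fintype α] [DecidableEq α]
  {L : Subgroup G} {S : Finset α}

/-- `K` is the 2-component of `C(v)` containing `C_L(v)^∞`, `K / O(K) ≅ Alt(Fix v)` -/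
structure KI (M : Mod L S) (v : G) (K : Subgroup G) (Mv : Mod K (fixIn S (M.φ v))) : Prop where
  comp : IsComp (centralizer ({v} : Set G)) K
  le : M.cmp v ≤ K
  agree : ∀ y ∈ M.cmp v, Mv.φ y = M.φ y

/-- the isolated case -/
structure Iso9 (M : Mod L S) : Prop where
  card : S.card = 9
  ex : ∀ v, M.Rt v → ∃ K, ∃ Mv : Mod K (fixIn S (M.φ v)), KI M v K Mv

/-- two disjoint commuting root four-groups -/
structure Pair (M : Mod L S) (V V' : Subgroup G) (T T' : Finset α) : Prop where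
  r1 : RF M V T
  r2 : RF M V' T'
  d : Disjoint T T'
  c : Cm V V'

theorem Pair.symm {M : Mod L S} {V V' : Subgroup G} {T T' : Finset α} (h : Pair M V V' T T') :
    Pair M V' V T' T := ⟨h.r2, h.r1, h.d.symm, fun x hx y hy => (h.c y hy x hx).symm⟩

section one

variable [Finite G] {M : Mod L S} {v : G} {K : Subgroup G} {Mv : Mod K (fixIn S (M.φ v))}

theorem card_fix_root (h9 : S.card = 9) (hv : M.Rt v) : (fixIn S (M.φ v)).card = 5 := by
  rw [hv.root.card_fix, h9]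

/-- `M.cmp v` is a 2-component of `C_L(v)` -/
theorem isComp_cmp_root (h9 : S.card = 9) (hv : M.Rt v) :
    IsComp (L ⊓ centralizer ({v} : Set G)) (M.cmp v) :=
  M.isComp_cmp (le_normalizer hv.mem) hv.sq (by rw [card_fix_root h9 hv])

/-- `C_L(v)^∞` covers `K_v` -/
theorem KI.cover (h9 : S.card = 9) (hv : M.Rt v) (hK : KI M v K Mv) : M.cmp v ⊔ core K = K := by
  refine sup_of_exists hK.le fun y hy => ?_
  obtain ⟨k, hk, hkφ⟩ := M.cmp_lift (le_normalizer hv.mem) hv.sq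
    (by rw [card_fix_root h9 hv]) (Mv.mem_alt y hy)
  exact ⟨k, hk, (Mv.eq_iff (hK.le hk) hy).mp (by rw [hK.agree k hk, hkφ])⟩

/-- the elements of `C(v)` normalizing `L` normalize `C_L(v)^∞` -/
theorem norm_cmp (h9 : S.card = 9) (hv : M.Rt v) {g : G} (hgL : g ∈ normalizer (L : Set G))
    (hgv : g * v = v * g) : g ∈ normalizer (M.cmp v : Set G) := by
  rw [mem_normalizer_iff_cj, ← M.cmp_conj hgL (le_normalizer hv.mem) hv.sq
    (by rw [card_fix_root h9 hv]), hgv, mul_inv_cancel_right]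

/-- the elements of `C(v)` normalizing `L` normalize `K_v` -/
theorem KI.norm (h9 : S.card = 9) (hv : M.Rt v) (hK : KI M v K Mv) {g : G}
    (hgL : g ∈ normalizer (L : Set G)) (hgv : g * v = v * g) : g ∈ normalizer (K : Set G) := by
  have h1 := mem_normalizer_iff_cj.mp (norm_cmp h9 hv hgL hgv)
  rw [mem_normalizer_iff_cj]
  refine (isComp_cmp_root h9 hv).unique (isComp_cj_of_mem hK.comp (memC_iff.mpr hgv)) hK.comp ?_ hK.le
  rw [← h1]
  exact cj_mono hK.le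

/-- on `Fix v` the labels of `K_v` are those of `L` -/
theorem KI.φ_eq (h9 : S.card = 9) (hv : M.Rt v) (hK : KI M v K Mv) {g : G}
    (hgL : g ∈ normalizer (L : Set G)) (hgv : g * v = v * g) {x : α} (hx : x ∈ fixIn S (M.φ v)) :
    Mv.φ g x = M.φ g x := by
  have hgK := hK.norm h9 hv hgL hgv
  have h1 : ∀ σ ∈ alt (fixIn S (M.φ v)), ((M.φ g)⁻¹ * Mv.φ g) * σ = σ * ((M.φ g)⁻¹ * Mv.φ g) := by
    intro σ hσ
    obtain ⟨y, hy, rfl⟩ := M.cmp_lift (le_normalizer hv.mem) hv.sq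
      (by rw [card_fix_root h9 hv]) hσ
    have hy' : g * y * g⁻¹ ∈ M.cmp v := (mem_normalizer_iff.mp (norm_cmp h9 hv hgL hgv) y).mp hy
    have h2 := hK.agree _ hy'
    rw [M.conj hgL (le_normalizer (M.cmp_le v hy)), Mv.conj hgK (le_normalizer (hK.le hy)),
      hK.agree y hy] at h2
    calc (M.φ g)⁻¹ * Mv.φ g * M.φ y = (M.φ g)⁻¹ * (Mv.φ g * M.φ y * (Mv.φ g)⁻¹) * Mv.φ g := by group
      _ = (M.φ g)⁻¹ * (M.φ g * M.φ y * (M.φ g)⁻¹) * Mv.φ g := by rw [h2]
      _ = M.φ y * ((M.φ g)⁻¹ * Mv.φ g) := by group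
  have h3 := apply_of_comm_alt (S := fixIn S (M.φ v)) (by rw [card_fix_root h9 hv]; omega) h1 hx
  rw [Perm.mul_apply, Perm.inv_eq_iff_eq] at h3
  exact h3

end one

/-! ### two root four-groups -/

section pair

variable [Finite G] {M : Mod L S} {V V' : Subgroup G} {T T' : Finset α}

theorem Pair.le_cmp (h : Pair M V V' T T') {v : G} (hv : v ∈ V) (h1 : v ≠ 1) : V' ≤ M.cmp v :=
  h.r1.le_cmp' h.r2 h.d h.c hv h1

variable {v : G} {K : Subgroup G} {Mv : Mod K (fixIn S (M.φ v))}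

/-- `V' ≤ K_v` -/
theorem Pair.le_K (h : Pair M V V' T T') (hv : v ∈ V) (h1 : v ≠ 1) (hK : KI M v K Mv) : V' ≤ K :=
  (h.le_cmp hv h1).trans hK.le

theorem Pair.fixIn_eq (h : Pair M V V' T T') (hv : v ∈ V) (h1 : v ≠ 1) :
    fixIn S (M.φ v) = S \ T := h.r1.fixIn_eq hv h1

/-- the labels of the members of `V'` on `K_v` -/
theorem Pair.φ_eq (h : Pair M V V' T T') (hv : v ∈ V) (h1 : v ≠ 1) (hK : KI M v K Mv) {w : G}
    (hw : w ∈ V') : Mv.φ w = M.φ w := hK.agree w (h.le_cmp hv h1 hw)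

/-- **(4.1)** `V` fixes `K_v` -/
theorem Pair.fixes_K (h9 : S.card = 9) (h : Pair M V V' T T') (hv : v ∈ V) (h1 : v ≠ 1)
    (hK : KI M v K Mv) {u : G} (hu : u ∈ V) : Fixes u K := by
  have huL := h.r1.le hu
  have huv := h.r1.comm hu hv
  have huK := hK.norm h9 (h.r1.rt hv h1) (le_normalizer huL) huv
  rw [← Mv.fixes_iff huK]
  ext x
  by_cases hx : x ∈ fixIn S (M.φ v)
  · rw [hK.φ_eq h9 (h.r1.rt hv h1) (le_normalizer huL) huv hx]
    rw [h.fixIn_eq hv h1, Finset.mem_sdiff] at hx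
    exact (h.r1.mem u hu).2 x hx.2
  · exact Mv.mem_sym u huK x hx

/-- `v` has at most one fixed point on `K_w` -/
theorem Pair.card_fix_le (h9 : S.card = 9) (h : Pair M V V' T T') (hv : v ∈ V) (h1 : v ≠ 1) {w : G}
    (hw : w ∈ V') (hw1 : w ≠ 1) {K' : Subgroup G} {Mw : Mod K' (fixIn S (M.φ w))}
    (hK' : KI M w K' Mw) : (fixIn (fixIn S (M.φ w)) (Mw.φ v)).card = 1 := by
  have h2 : fixIn (fixIn S (M.φ w)) (Mw.φ v) = (S \ T') \ T := by
    ext x
    rw [mem_fixIn, h.symm.φ_eq hw hw1 hK' hv, h.symm.fixIn_eq hw hw1, Finset.mem_sdiff (t := T)]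
    refine and_congr_right fun hx => ?_
    exact (h.r1.root hv h1).fix x (Finset.mem_sdiff.mp hx).1
  rw [h2]
  have h3 : T ⊆ S \ T' := fun x hx => Finset.mem_sdiff.mpr ⟨h.r1.sub hx,
    fun hx' => Finset.disjoint_left.mp h.d hx hx'⟩
  rw [Finset.card_sdiff_of_subset h3, Finset.card_sdiff_of_subset h.r2.sub, h.r1.card, h.r2.card, h9]

/-- `C_{K_w}(v)` has no 2-component -/
theorem Pair.no_comp (h9 : S.card = 9) (h : Pair M V V' T T') (hv : v ∈ V) (h1 : v ≠ 1) {w : G}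
    (hw : w ∈ V') (hw1 : w ≠ 1) {K' : Subgroup G} {Mw : Mod K' (fixIn S (M.φ w))}
    (hK' : KI M w K' Mw) {E : Subgroup G} (hE : IsComp (K' ⊓ centralizer ({v} : Set G)) E) : False := by
  have h2 := ((Mw.isComp_iff_cmp (le_normalizer (h.symm.le_K hw hw1 hK' hv)) (h.r1.sq v hv)).mp hE).2
  rw [h.card_fix_le h9 hv h1 hw hw1 hK'] at h2
  omega

/-- **(4.2)** the 2-components of `C(v)` other than `K_v` are fixed by `V` and `V'` -/
theorem Iso9.fixes_other (hI : Iso9 M) (h : Pair M V V' T T') (hv : v ∈ V) (h1 : v ≠ 1)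
    (hK : KI M v K Mv) {J : Subgroup G} (hJ : IsComp (centralizer ({v} : Set G)) J) (hne : J ≠ K) :
    (∀ u ∈ V, Fixes u J) ∧ ∀ u ∈ V', Fixes u J := by
  have h2 : ∀ u ∈ V', Fixes u J := fun u hu => hJ.fixes_of_mem hK.comp hne (h.le_K hv h1 hK hu)
  refine ⟨fun u hu => ?_, h2⟩
  obtain ⟨w, hw, hw1⟩ := h.r2.exists_ne
  obtain ⟨K', Mw, hK'⟩ := hI.ex w (h.r2.rt hw hw1)
  have hvw := h.c v hv w hw
  refine jump_fixes (h.r1.sq v hv) (h.r2.sq w hw) hvw hJ (h2 w hw) hK'.comp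
    (h.symm.le_K hw hw1 hK' hv) (fun hle => ?_) (h.symm.le_K hw hw1 hK' hu) (h.r1.comm hu hv)
  have hE := (isComp_cen hJ (memC_iff.mpr hvw.symm) (h.r2.sq w hw) (h2 w hw)).1
  refine h.no_comp hI.card hv h1 hw hw1 hK' (E := cen J w) ?_
  refine isComp_inf (H := centralizer ({w} : Set G)) ?_ hK'.comp hle
  rw [inf_comm]
  exact hE

end pair

end Cfsg.Agent.UGT.A9
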