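import Cfsg.Agent.UGT.A9.Lam
import Cfsg.Agent.UAlt.NineD

/-!
# NodeA9, the isolated case: `K_v` is normal in `C(v)`, (4.9) of text #11040
-/

set_option autoImplicit false
set_option linter.unusedSectionVars false

open Cfsg Subgroup Equiv Equiv.Perm
open Cfsg.Agent.SignalizersComponents Cfsg.Agent.Lib
open Cfsg.Agent.SignalizersComponents.IntrinsicBasic
open Cfsg.Agent.Intrinsic Cfsg.Agent.Intrinsic.Basic Cfsg.Agent.Intrinsic.Cen Cfsg.Agent.Intrinsic.Diag
open Cfsg.Agent.UAlt Cfsg.Agent.UGT.Triple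
open scoped commutatorElement

namespace Cfsg.Agent.UGT.A9

theorem card_sym {α : Type*} [Fintype α] [DecidableEq α] (S : Finset α) :
    Nat.card (sym S) = S.card.factorial := by
  rw [← Nat.card_congr (symEquiv S).toEquiv, Nat.card_perm, Nat.card_eq_fintype_card, Fintype.card_coe]

variable {G : Type*} [Group G] [Finite G] {α : Type*} [Fintype α] [DecidableEq α]
  {L : Subgroup G} {S : Finset α} {M : Mod L S} {V V' W : Subgroup G} {T T' : Finset α}

/-- a group `D W` covering `Alt(S)`, an involution `j` centralizing `D W / W`, and `v ∈ D` in a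
2-component `K` of `C(j)` with fewer labels: `v` is trivial on `K / O(K)` -/
theorem label_of_layer {D : Subgroup G} (hDL : D ≤ L) (hDW : D ≤ normalizer (W : Set G))
    (hW : Odd (Nat.card W)) (hsurj : ∀ σ ∈ alt S, ∃ d ∈ D, M.φ d = σ) {j : G} (hj2 : j * j = 1)
    (hjN : j ∈ normalizer (W : Set G)) (hj : ∀ y ∈ D, ⁅y, j⁆ ∈ W) {v : G} (hvD : v ∈ D) (hvv : v * v = 1)
    (hφ : M.φ v ≠ 1) {K : Subgroup G} {F : Finset α} (MK : Mod K F)
    (hK : IsComp (centralizer ({j} : Set G)) K) (hvK : v ∈ K) (hF : F.card < S.card) : MK.φ v = 1 := by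
  obtain ⟨ψ, hψ, hr, hk⟩ := exists_ext M hDL hDW hW hsurj
  obtain ⟨D1, hD1⟩ : ∃ D1, D1 = (D ⊔ W) ⊓ L2 (centralizer ({j} : Set G)) := ⟨_, rfl⟩
  have hD1Y : D1 ≤ D ⊔ W := by rw [hD1]; exact inf_le_left
  have hvD1 : v ∈ D1 := by
    rw [hD1]
    exact ⟨mem_sup_left hvD, hK.le_L2 hvK⟩
  have hD1K : D1 ≤ normalizer (K : Set G) := by
    rw [hD1]
    exact inf_le_right.trans hK.L2_le_normalizer
  -- the elements of `D W` commuting with `j`
  have hlift : ∀ σ ∈ alt S, ∃ y : ↥(D ⊔ W), (y : G) ∈ centralizer ({j} : Set G) ∧ ψ y = σ := by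
    intro σ hσ
    obtain ⟨d, hd, rfl⟩ := hsurj σ hσ
    have h1 : d⁻¹ * (j * d * j⁻¹) ∈ W := by
      have h2 := hj d⁻¹ (inv_mem hd)
      rwa [commutatorElement_def, inv_inv, show d⁻¹ * j * d * j⁻¹ = d⁻¹ * (j * d * j⁻¹) by group] at h2
    obtain ⟨o, ho, hjo⟩ := Lifting.exists_commute (n := 1) hW (by rw [pow_one, pow_two]; exact hj2) hjN h1
    refine ⟨⟨d * o, mul_mem (mem_sup_left hd) (mem_sup_right ho)⟩, memC_iff.mpr hjo.symm, ?_⟩
    refine hψ _ d hd ?_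
    show d⁻¹ * (d * o) ∈ W
    rwa [inv_mul_cancel_left]
  obtain ⟨ι, hι⟩ : ∃ ι : ↥D1 →* ↥(D ⊔ W), ι = inclusion hD1Y := ⟨_, rfl⟩
  have hιinj : Function.Injective ι := by rw [hι]; exact inclusion_injective hD1Y
  have hr1 : (ψ.comp ι).range = alt S := by
    have hle : (ψ.comp ι).range ≤ alt S := by
      rintro _ ⟨y, rfl⟩
      rw [← hr]
      exact ⟨ι y, rfl⟩
    have key : ∀ σ ∈ alt S, ∀ τ ∈ (ψ.comp ι).range, σ * τ * σ⁻¹ ∈ (ψ.comp ι).range := by
      rintro σ hσ _ ⟨y, rfl⟩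
      obtain ⟨x, hx, rfl⟩ := hlift σ hσ
      have h1 : (x : G) * y * (x : G)⁻¹ ∈ D1 := by
        have h2 : (y : G) ∈ (D ⊔ W) ⊓ L2 (centralizer ({j} : Set G)) := hD1.le y.2
        have h3 : (x : G) * y * (x : G)⁻¹ ∈ D ⊔ W := mul_mem (mul_mem x.2 h2.1) (inv_mem x.2)
        apply hD1.ge
        refine ⟨h3, ?_⟩
        exact (mem_normalizer_iff.mp (Nine.le_normalizer_L2 _ hx) _).mp h2.2
      refine ⟨⟨_, h1⟩, ?_⟩
      rw [MonoidHom.comp_apply, MonoidHom.comp_apply, ← map_inv, ← map_mul, ← map_mul]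
      congr 1
      rw [hι]
      rfl
    rcases eq_bot_or_alt (by have := M.five; omega) hle (by
      intro σ hσ
      rw [mem_normalizer_iff]
      intro τ
      refine ⟨key σ hσ τ, fun h => ?_⟩
      have h2 := key σ⁻¹ (inv_mem hσ) _ h
      rwa [show σ⁻¹ * (σ * τ * σ⁻¹) * σ⁻¹⁻¹ = τ by group] at h2) with h | h
    · exfalso
      have h1 : ψ (ι ⟨v, hvD1⟩) ∈ (ψ.comp ι).range := ⟨⟨v, hvD1⟩, rfl⟩
      rw [h, mem_bot, hψ _ v hvD (by rw [hι]; show v⁻¹ * v ∈ W; rw [inv_mul_cancel]; exact one_mem _)] at h1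
      exact hφ h1
    · exact h
  have hk1 : Odd (Nat.card (ψ.comp ι).ker) := by
    have h1 : (ψ.comp ι).ker.map ι ≤ ψ.ker := by
      rintro _ ⟨y, hy, rfl⟩
      exact hy
    have h2 := card_dvd_of_le h1
    rw [card_map_of_injective hιinj] at h2
    exact Odd.of_dvd_nat hk h2
  let f : ↥D1 →* ↥(sym F) :=
    { toFun := fun y => ⟨MK.φ y, MK.mem_sym y (hD1K y.2)⟩
      map_one' := Subtype.ext MK.one
      map_mul' := fun x y => Subtype.ext (MK.mul x y (hD1K x.2) (hD1K y.2)) }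
  have h1 := hom_inv_eq_one (by have := M.five; omega) hr1 hk1 f (by
    rw [card_sym]
    have h2 := card_alt (S := S) (by have := M.five; omega)
    have h3 : F.card.factorial ≤ (S.card - 1).factorial := Nat.factorial_le (by omega)
    have h4 := Nat.mul_factorial_pred (n := S.card) (by have := M.five; omega)
    have h5 : 0 < (S.card - 1).factorial := Nat.factorial_pos _
    have h6 := M.five
    rw [← h4] at h2
    nlinarith) (v := ⟨v, hvD1⟩) (Subtype.ext hvv)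
  exact congrArg Subtype.val h1

/-- **(4.9)** -/
theorem cent_le_K (hI : Iso9 M) (h : Pair M V V' T T') (hW : WD V V' W) {v : G} (hv : v ∈ V) (h1 : v ≠ 1)
    {K : Subgroup G} {Mv : Mod K (fixIn S (M.φ v))} (hK : KI M v K Mv) :
    centralizer ({v} : Set G) ≤ normalizer (K : Set G) := by
  intro g hg
  by_contra hgK
  rw [mem_normalizer_iff_cj] at hgK
  have hgv : g * v = v * g := memC_iff.mp hg
  have hJ := isComp_cj_of_mem hK.comp hg
  obtain ⟨w, hw, hw1⟩ := h.r2.exists_ne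
  obtain ⟨K', Mw, hK'⟩ := hI.ex w (h.r2.rt hw hw1)
  have hjJ : g * w * g⁻¹ ∈ cj g K := conj_mem_cj (h.le_K hv h1 hK hw)
  have hΛ := J_le_CM hI h hW hv h1 hK hJ hgK
  have hK'j : IsComp (centralizer ({g * w * g⁻¹} : Set G)) (cj g K') := by
    have h2 := hK'.comp.cj g
    rwa [cj_centralizer] at h2
  have hvK' : v ∈ K' := h.symm.le_K hw hw1 hK' hv
  have hvj : v ∈ cj g K' := by
    have h2 : g * v * g⁻¹ ∈ cj g K' := conj_mem_cj hvK'
    rwa [hgv, mul_inv_cancel_right] at h2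
  have hrv := h.r1.rt hv h1
  have h2 := label_of_layer (M := M) (W := W) (D := Dn M V V') Dn_le (Dn_le_norm hI h hW) hW.odd
    (h.Dn_surj hI.card) (j := g * w * g⁻¹) (by
      calc g * w * g⁻¹ * (g * w * g⁻¹) = g * (w * w) * g⁻¹ := by group
        _ = 1 := by rw [h.r2.sq w hw]; group)
    (hW.J_le hI h hv h1 hK hJ hgK hjJ)
    (fun y hy => (hΛ (mem_sup_left hy)).2 _ hjJ) (v := v) (mem_sup_right (h.symm.le_cmpT hv)) hrv.sq
    hrv.root.φ_ne_one (Mw.cj g) hK'j hvj (by rw [card_fix_root hI.card (h.r2.rt hw hw1), hI.card]; omega)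
  rw [Mod.cj_φ, mul_assoc, ← hgv, inv_mul_cancel_left, h.symm.φ_eq hw hw1 hK' hv] at h2
  exact hrv.root.φ_ne_one h2

end Cfsg.Agent.UGT.A9
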