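import Cfsg.Agent.UGT.A9.Nor
import Cfsg.Agent.UGT.A9.Ext

/-!
# NodeA9, the isolated case: `Λ = ⟨N_V, N_V'⟩ W` (text #11040, (4.8)-(4.10))

* `Lam`: the subgroup `Λ`.
* `cent_le_K`: `K_v` is normal in `C(v)` (4.9).
* `cent_le_Lam`: `C(v) ≤ N(Λ)` (4.10).
-/

set_option autoImplicit false
set_option linter.unusedSectionVars false

open Cfsg Subgroup Equiv Equiv.Perm
open Cfsg.Agent.SignalizersComponents Cfsg.Agent.Lib
open Cfsg.Agent.SignalizersComponents.IntrinsicBasic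
open Cfsg.Agent.Intrinsic Cfsg.Agent.Intrinsic.Basic Cfsg.Agent.Intrinsic.Cen Cfsg.Agent.Intrinsic.Diag
open Cfsg.Agent.UAlt Cfsg.Agent.UGT.Triple
open Cfsg.Agent.StdAlt.PermTypes (cyc cyc_apply_fst cyc_apply_of_ne)
open scoped commutatorElement

namespace Cfsg.Agent.UGT.A9

/-- `Alt(A ∪ B)` is generated by `Alt(A)` and `Alt(B)` if `A` and `B` have a common point -/
theorem alt_union_one {α : Type*} [Fintype α] [DecidableEq α] {A B : Finset α} {p : α}
    (hpA : p ∈ A) (hpB : p ∈ B) (hA3 : 3 ≤ A.card) (hB3 : 3 ≤ B.card) {Q : Subgroup (Perm α)}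
    (hA : alt A ≤ Q) (hB : alt B ≤ Q) : alt (A ∪ B) ≤ Q := by
  by_cases hcom : ∃ c, c ≠ p ∧ c ∈ A ∩ B
  · obtain ⟨c, hcp, hc⟩ := hcom
    exact alt_union_le (Finset.mem_inter.mpr ⟨hpA, hpB⟩) hc hcp.symm
      (hA3.trans (Finset.card_le_card Finset.subset_union_left)) hA hB
  · push Not at hcom
    have hout : ∀ c ∈ A, c ≠ p → c ∉ B := fun c hc hcp hcB => hcom c hcp (Finset.mem_inter.mpr ⟨hc, hcB⟩)
    obtain ⟨b, hb, b', hb', hbb⟩ := Finset.one_lt_card.mp (by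
      rw [Finset.card_erase_of_mem hpB]; omega : 1 < (B.erase p).card)
    obtain ⟨hbp, hbB⟩ := Finset.mem_erase.mp hb
    obtain ⟨hbp', hbB'⟩ := Finset.mem_erase.mp hb'
    have hy : cyc p b b' ∈ alt B := cyc_mem_alt hpB hbB hbB' hbp.symm hbb
    have hyp : cyc p b b' p = b := cyc_apply_fst hbp'.symm hbp.symm
    set y := cyc p b b' with hyd
    -- the image of `A` under `y`
    set A' := A.map y.toEmbedding with hA'
    have hA'Q : alt A' ≤ Q := by
      intro σ hσ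
      have h1 : y⁻¹ * σ * (y⁻¹)⁻¹ ∈ alt A := by
        refine Mod.conj_mem_alt' hσ (T' := A) fun x hx => ?_
        obtain ⟨z, hz, rfl⟩ := Finset.mem_map.mp hx
        simpa using hz
      have h2 := mul_mem (mul_mem (hB hy) (hA h1)) (inv_mem (hB hy))
      rwa [show y * (y⁻¹ * σ * (y⁻¹)⁻¹) * y⁻¹ = σ by group] at h2
    have hfix : ∀ c ∈ A, c ≠ p → c ∈ A' := by
      intro c hc hcp
      have h1 : y c = c := by
        have h2 := hout c hc hcp
        exact hy.2 c h2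
      exact Finset.mem_map.mpr ⟨c, hc, h1⟩
    have hbA' : b ∈ A' := Finset.mem_map.mpr ⟨p, hpA, hyp⟩
    obtain ⟨c, hc, d, hd, hcd⟩ := Finset.one_lt_card.mp (by
      rw [Finset.card_erase_of_mem hpA]; omega : 1 < (A.erase p).card)
    obtain ⟨hcp, hcA⟩ := Finset.mem_erase.mp hc
    obtain ⟨hdp, hdA⟩ := Finset.mem_erase.mp hd
    have h1 : alt (A ∪ A') ≤ Q := alt_union_le (Finset.mem_inter.mpr ⟨hcA, hfix c hcA hcp⟩)
      (Finset.mem_inter.mpr ⟨hdA, hfix d hdA hdp⟩) hcd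
      (hA3.trans (Finset.card_le_card Finset.subset_union_left)) hA hA'Q
    have h2 : alt ((A ∪ A') ∪ B) ≤ Q := alt_union_le
      (Finset.mem_inter.mpr ⟨Finset.mem_union_left _ hpA, hpB⟩)
      (Finset.mem_inter.mpr ⟨Finset.mem_union_right _ hbA', hbB⟩) hbp.symm
      (hB3.trans (Finset.card_le_card Finset.subset_union_right)) h1 hB
    refine le_trans (alt_mono ?_) h2
    intro x hx
    rcases Finset.mem_union.mp hx with h | h
    · exact Finset.mem_union_left _ (Finset.mem_union_left _ h)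
    · exact Finset.mem_union_right _ h

variable {G : Type*} [Group G] [Finite G] {α : Type*} [Fintype α] [DecidableEq α]
  {L : Subgroup G} {S : Finset α} {M : Mod L S} {V V' W : Subgroup G} {T T' : Finset α}

/-- `⟨N_V, N_V'⟩` -/
def Dn (M : Mod L S) (V V' : Subgroup G) : Subgroup G := M.cmpT V ⊔ M.cmpT V'

theorem Dn_symm : Dn M V V' = Dn M V' V := sup_comm _ _

theorem Dn_le : Dn M V V' ≤ L := sup_le (M.cmpT_le V) (M.cmpT_le V')

/-- `V' ≤ N_V` -/
theorem Pair.le_cmpT (h : Pair M V V' T T') : V' ≤ M.cmpT V := by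
  intro w hw
  refine M.mem_cmpT (h.r2.le hw) (fun v hv => h.c v hv w hw) ?_ (n := 1)
    (by rw [pow_one, pow_two]; exact h.r2.sq w hw)
  rw [FT_eq h.r1]
  refine ⟨(h.r2.mem w hw).1, fun x hx => (h.r2.mem w hw).2 x fun hxT => hx ?_⟩
  rw [Finset.mem_sdiff]
  exact ⟨h.r2.sub hxT, fun hxT' => Finset.disjoint_left.mp h.d hxT' hxT⟩

theorem Pair.Dn_surj (h9 : S.card = 9) (h : Pair M V V' T T') : ∀ σ ∈ alt S, ∃ d ∈ Dn M V V', M.φ d = σ := by
  obtain ⟨Q, hQ⟩ : ∃ Q : Subgroup (Perm α), ∀ σ, σ ∈ Q ↔ ∃ z ∈ Dn M V V', M.φ z = σ := by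
    refine ⟨((Dn M V V').subgroupOf (normalizer (L : Set G))).map M.hom, fun σ => ?_⟩
    constructor
    · rintro ⟨z, hz, rfl⟩
      exact ⟨z, hz, rfl⟩
    · rintro ⟨z, hz, rfl⟩
      exact ⟨⟨z, le_normalizer (Dn_le hz)⟩, hz, rfl⟩
  have hone : ∀ {U : Subgroup G} {X : Finset α}, RF M U X → M.cmpT U ≤ Dn M V V' → alt (S \ X) ≤ Q := by
    intro U X hU hle σ hσ
    rw [← FT_eq hU] at hσ
    obtain ⟨k, hk, hkφ⟩ := M.cmpT_lift hU.isPGroup (hU.le.trans le_normalizer)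
      (by rw [FT_eq hU, card_sdiff h9 hU]) hσ
    exact (hQ _).mpr ⟨k, hle hk, hkφ⟩
  have hA := hone h.r1 le_sup_left
  have hB := hone h.r2 le_sup_right
  have hint : 1 ≤ ((S \ T) ∩ (S \ T')).card := by
    have h2 : (S \ T) ∩ (S \ T') = (S \ T) \ T' := by
      ext y
      simp only [Finset.mem_inter, Finset.mem_sdiff]
      tauto
    rw [h2]
    have h6 := Finset.le_card_sdiff T' (S \ T)
    have h7 := Finset.le_card_sdiff T S
    have h8 := h.r1.card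
    have h9 := h.r2.card
    omega
  obtain ⟨p, hp⟩ := Finset.card_pos.mp hint
  obtain ⟨hp1, hp2⟩ := Finset.mem_inter.mp hp
  have hall := alt_union_one hp1 hp2 (by rw [card_sdiff h9 h.r1]; omega)
    (by rw [card_sdiff h9 h.r2]; omega) hA hB
  have hun : (S \ T) ∪ (S \ T') = S := by
    ext y
    simp only [Finset.mem_union, Finset.mem_sdiff]
    constructor
    · rintro (h | h) <;> exact h.1
    · intro hy
      by_cases hyT : y ∈ T
      · exact Or.inr ⟨hy, fun h' => Finset.disjoint_left.mp h.d hyT h'⟩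
      · exact Or.inl ⟨hy, hyT⟩
  rw [hun] at hall
  exact fun σ hσ => (hQ σ).mp (hall hσ)

/-- `Λ` -/
def Lam (M : Mod L S) (V V' W : Subgroup G) : Subgroup G := Dn M V V' ⊔ W

theorem Lam_symm : Lam M V V' W = Lam M V' V W := by rw [Lam, Lam, Dn_symm]

section

variable (hI : Iso9 M) (h : Pair M V V' T T') (hW : WD V V' W)

include hI h hW

theorem Dn_le_norm : Dn M V V' ≤ normalizer (W : Set G) := by
  obtain ⟨v, hv, h1⟩ := h.r1.exists_ne
  obtain ⟨w, hw, hw1⟩ := h.r2.exists_ne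
  obtain ⟨K, Mv, hK⟩ := hI.ex v (h.r1.rt hv h1)
  obtain ⟨K', Mw, hK'⟩ := hI.ex w (h.r2.rt hw hw1)
  exact sup_le (((cmpT_le_cmp h.r1 hv h1).trans hK.le).trans (hW.K_le hI.card h hv h1 hK))
    (((cmpT_le_cmp h.r2 hw hw1).trans hK'.le).trans (hW.symm.K_le hI.card h.symm hw hw1 hK'))

theorem Lam_le_norm : Lam M V V' W ≤ normalizer (W : Set G) :=
  sup_le (Dn_le_norm hI h hW) le_normalizer

theorem K_le_Lam {v : G} (hv : v ∈ V) (h1 : v ≠ 1) {K : Subgroup G} {Mv : Mod K (fixIn S (M.φ v))}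
    (hK : KI M v K Mv) : K ≤ Lam M V V' W := by
  rw [← cover_K hI.card h.r1 hv h1 hK]
  exact sup_le (le_sup_left.trans le_sup_left)
    ((hK.comp.core_le_core.trans (hW.core_le hI.card h hv h1)).trans le_sup_right)

theorem Lam_eq {v w : G} (hv : v ∈ V) (h1 : v ≠ 1) (hw : w ∈ V') (hw1 : w ≠ 1) {K K' : Subgroup G}
    {Mv : Mod K (fixIn S (M.φ v))} {Mw : Mod K' (fixIn S (M.φ w))} (hK : KI M v K Mv)
    (hK' : KI M w K' Mw) : Lam M V V' W = (K ⊔ K') ⊔ W := by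
  apply le_antisymm
  · exact sup_le_sup_right (sup_le_sup ((cmpT_le_cmp h.r1 hv h1).trans hK.le)
      ((cmpT_le_cmp h.r2 hw hw1).trans hK'.le)) W
  · refine sup_le (sup_le (K_le_Lam hI h hW hv h1 hK) ?_) le_sup_right
    rw [Lam_symm]
    exact K_le_Lam hI h.symm hW.symm hw hw1 hK'

/-- the 2-components `J ≠ K_v` of `C(v)` commute with `Λ` modulo `W` -/
theorem J_le_CM {v : G} (hv : v ∈ V) (h1 : v ≠ 1) {K : Subgroup G} {Mv : Mod K (fixIn S (M.φ v))}
    (hK : KI M v K Mv) {J : Subgroup G} (hJ : IsComp (centralizer ({v} : Set G)) J) (hne : J ≠ K) :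
    Lam M V V' W ≤ CM W J := by
  obtain ⟨w, hw, hw1⟩ := h.r2.exists_ne
  obtain ⟨K', Mw, hK'⟩ := hI.ex w (h.r2.rt hw hw1)
  have hJN := hW.J_le hI h hv h1 hK hJ hne
  rw [Lam_eq hI h hW hv h1 hw hw1 hK hK']
  refine sup_le (sup_le ?_ ?_) (le_CM_self hJN)
  · exact le_CM_symm (hW.K_le hI.card h hv h1 hK) (hW.J_le_left hI h hv h1 hK hJ hne)
  · exact le_CM_symm (hW.symm.K_le hI.card h.symm hw hw1 hK')
      (hW.J_le_right hI h hv h1 hK hJ hne hw hw1 hK')

end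

end Cfsg.Agent.UGT.A9
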