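import Cfsg.Agent.UGT.A9.Marker
import Cfsg.Agent.UAlt.CaseDA

/-!
# Marker components of `C_X(s)` if `X` has one or two marker components

`N ≤ J` (then `J` is the only N-component of `X`) or `N ≤ diag(J, t)` (then `J` and `J^t` are the N-components). `s` an
involution of `X` centralizing `N`.

* `inf_of_le`: the N-components of `C_X(s)` are 2-components of `C_J(s)`.
* `swap_or`: `s` normalizes `J` or interchanges `J` and `J^t`.
* `inf_of_swap`: in the second case `diag(J, s)` is the only N-component of `C_X(s)`.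
* `inf_of_norm`: in the first case they are 2-components of `C_J(s)` or of `C_{J^t}(s)`; `ne_cj`: these are different.
* `fixes_of_diag`: `w ∈ N(J)` centralizing `N` fixes `J`, if `N` covers `diag(J, t)`.
-/

set_option autoImplicit false
set_option linter.unusedSectionVars false

open Cfsg Subgroup
open Cfsg.Agent.SignalizersComponents Cfsg.Agent.Lib
open Cfsg.Agent.SignalizersComponents.IntrinsicBasic
open Cfsg.Agent.SignalizersComponents.IntrinsicIntr
open Cfsg.Agent.SignalizersComponents.PLayerAut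
open Cfsg.Agent.Intrinsic.Basic Cfsg.Agent.Intrinsic.Cen Cfsg.Agent.Intrinsic.Diag
open Cfsg.Agent.McLLyComp.Act
open Cfsg.Agent.UGT.Triple Cfsg.Agent.UGT.LemG Cfsg.Agent.UGT.PumpGen
open scoped commutatorElement

namespace Cfsg.Agent.UGT.A9.Marker

variable {G : Type*} [Group G]

/-- the N-components of `H` are permuted by `C_H(N)` -/
theorem IsMark.cj {H N J : Subgroup G} (h : IsMark H N J) {g : G} (hg : g ∈ H)
    (hN : N ≤ centralizer ({g} : Set G)) : IsMark H N (IntrinsicBasic.cj g J) := by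
  refine ⟨isComp_cj_of_mem h.1 hg, fun hf => h.2 fun n hn => ?_⟩
  have h1 := (hf n hn).cj g⁻¹
  rw [cj_inv_cj] at h1
  have h2 : n * g = g * n := mem_centralizer_singleton_iff.mp (hN hn)
  have h3 : g⁻¹ * n * g⁻¹⁻¹ = n := by
    rw [inv_inv, mul_assoc, h2]; group
  rwa [h3] at h1

variable [Finite G] {X J N : Subgroup G} {s t : G}

/-- two different 2-components do not have a 2-component of a subgroup in common -/
theorem not_le_inf {J' E H : Subgroup G} (hJ : IsComp X J) (hJ' : IsComp X J') (hne : J ≠ J')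
    (hE : IsComp H E) (h1 : E ≤ J) (h2 : E ≤ J') : False := by
  have h3 := hJ.comm_le_core hJ' hne
  have h4 : E ≤ core X := by
    rw [← hE.perfect]
    exact (commutator_mono h1 h2).trans (h3.trans (inf_le_left.trans hJ.core_le_core))
  exact (hE.not_odd (odd_card_core X)) h4

/-- `N ≤ J`: the N-components of `C_X(s)` -/
theorem inf_of_le (hJ : IsComp X J) (hNJ : N ≤ J) (hsX : s ∈ X) (hs : s * s = 1)
    (hN : N ≤ centralizer ({s} : Set G)) {I : Subgroup G}
    (hI : IsMark (X ⊓ centralizer ({s} : Set G)) N I) :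
    s ∈ normalizer (J : Set G) ∧ I ≤ J ∧ IsComp (J ⊓ centralizer ({s} : Set G)) I := by
  obtain ⟨J', hm, h⟩ := IsMark.pump hsX hs (le_inf (hNJ.trans hJ.le) hN) hI
  have h1 := eq_of_le hJ hNJ hm
  subst h1
  rcases h with ⟨h2, h3, h4⟩ | ⟨h2, h3, -⟩
  · exact ⟨mem_normalizer_iff_cj.mpr h2, h3, h4⟩
  · exact absurd (eq_of_le hJ hNJ h3) h2

/-- `s` normalizes or interchanges the two N-components -/
theorem swap_or (hN : Mkr N) (hJ : IsComp X J) (htX : t ∈ X) (ht : t * t = 1)
    (hne : cj t J ≠ J) (hNd : N ≤ diag X J t) (hsX : s ∈ X) (hNs : N ≤ centralizer ({s} : Set G)) :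
    cj s J = J ∨ cj s J = cj t J :=
  eq_or_of_diag hJ htX ht hne hNd ((mark_diag hN hJ htX ht hne hNd).cj hsX hNs)

/-- interchanged: the diagonal is the only N-component of `C_X(s)` -/
theorem inf_of_swap (hJ : IsComp X J) (htX : t ∈ X) (ht : t * t = 1)
    (hne : cj t J ≠ J) (hNd : N ≤ diag X J t) (hsX : s ∈ X) (hs : s * s = 1)
    (hNs : N ≤ centralizer ({s} : Set G)) (hsw : cj s J = cj t J) {I : Subgroup G}
    (hI : IsMark (X ⊓ centralizer ({s} : Set G)) N I) : I = diag X J s := by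
  obtain ⟨h1, -, -, -⟩ := exists_diag hJ htX ht hne
  have hNX : N ≤ X := hNd.trans (h1.le.trans inf_le_left)
  have hns : cj s J ≠ J := hsw ▸ hne
  obtain ⟨J', hm, h⟩ := IsMark.pump hsX hs (le_inf hNX hNs) hI
  have hss : cj s (cj t J) = J := by
    rw [← hsw, ← IntrinsicBasic.cj_mul, hs, cj_one]
  rcases eq_or_of_diag hJ htX ht hne hNd hm with rfl | rfl
  · rcases h with ⟨h2, -, -⟩ | ⟨-, -, h2⟩
    · exact absurd h2 hns
    · exact h2
  · rcases h with ⟨h2, -, -⟩ | ⟨-, -, h2⟩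
    · rw [hss] at h2
      exact absurd h2.symm hne
    · rw [← hsw, UAlt.cj_diag_self hsX] at h2
      exact h2

/-- the diagonal is an N-component if `s` interchanges -/
theorem mark_of_swap (hN : Mkr N) (hJ : IsComp X J) (htX : t ∈ X) (ht : t * t = 1)
    (hne : cj t J ≠ J) (hNd : N ≤ diag X J t) (hsX : s ∈ X) (hs : s * s = 1)
    (hNs : N ≤ centralizer ({s} : Set G)) (hsw : cj s J = cj t J) :
    IsMark (X ⊓ centralizer ({s} : Set G)) N (diag X J s) := by
  obtain ⟨h1, -, -, -⟩ := exists_diag hJ htX ht hne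
  refine mark_diag_of (mark_diag hN hJ htX ht hne hNd) hsX hs (hsw ▸ hne)
    (le_inf (hNd.trans (h1.le.trans inf_le_left)) hNs) fun n hn => ?_
  exact (UAlt.diag_act hJ htX ht hne (hNd hn)).choose_spec.2.2.2

/-- normalized: N-components of `C_X(s)` -/
theorem inf_of_norm (hJ : IsComp X J) (htX : t ∈ X) (ht : t * t = 1)
    (hne : cj t J ≠ J) (hNd : N ≤ diag X J t) (hsX : s ∈ X) (hs : s * s = 1)
    (hNs : N ≤ centralizer ({s} : Set G)) (hsn : cj s J = J) {I : Subgroup G}
    (hI : IsMark (X ⊓ centralizer ({s} : Set G)) N I) :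
    (I ≤ J ∧ IsComp (J ⊓ centralizer ({s} : Set G)) I) ∨
      (cj s (cj t J) = cj t J ∧ I ≤ cj t J ∧
        IsComp (cj t J ⊓ centralizer ({s} : Set G)) I) := by
  obtain ⟨h1, -, -, -⟩ := exists_diag hJ htX ht hne
  have hNX : N ≤ X := hNd.trans (h1.le.trans inf_le_left)
  obtain ⟨J', hm, h⟩ := IsMark.pump hsX hs (le_inf hNX hNs) hI
  rcases eq_or_of_diag hJ htX ht hne hNd hm with rfl | rfl
  · rcases h with ⟨-, h2, h3⟩ | ⟨h2, -, -⟩
    · exact Or.inl ⟨h2, h3⟩
    · exact absurd hsn h2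
  · rcases h with ⟨h2, h3, h4⟩ | ⟨h2, h3, -⟩
    · exact Or.inr ⟨h2, h3, h4⟩
    · exfalso
      rcases eq_or_of_diag hJ htX ht hne hNd h3 with h4 | h4
      · -- `J^{ts} = J = J^s`, hence `J^t = J`
        have h5 : cj s (cj s (cj t J)) = cj s J := by rw [h4]
        rw [← IntrinsicBasic.cj_mul, hs, cj_one, hsn] at h5
        exact hne h5
      · exact h2 h4

/-- `E ≤ J` a 2-component of `C_J(s)`: `E ≠ E^t` -/
theorem ne_cj (hJ : IsComp X J) (htX : t ∈ X) (hne : cj t J ≠ J) {E H : Subgroup G}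
    (hE : IsComp H E) (hEJ : E ≤ J) : cj t E ≠ E := by
  intro h
  refine not_le_inf (isComp_cj_of_mem hJ htX) hJ hne hE ?_ hEJ
  rw [← h]
  exact cj_mono hEJ

/-- two different N-components of `C_X(s)` from an N-component `E` in `J ≠ J^t` -/
theorem two_of (hJ : IsComp X J) (htX : t ∈ X) (hne : cj t J ≠ J) (hst : s * t = t * s)
    (hNt : N ≤ centralizer ({t} : Set G)) {E : Subgroup G}
    (hE : IsMark (X ⊓ centralizer ({s} : Set G)) N E) (hEJ : E ≤ J) :
    IsMark (X ⊓ centralizer ({s} : Set G)) N (cj t E) ∧ cj t E ≠ E :=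
  ⟨hE.cj ⟨htX, mem_centralizer_singleton_iff.mpr hst.symm⟩ hNt, ne_cj hJ htX hne hE.1 hEJ⟩

/-- `w ∈ N(J)` centralizing the marker `N` fixes `J`, if `N` covers the diagonal -/
theorem fixes_of_diag (hJ : IsComp X J) (htX : t ∈ X) (ht : t * t = 1)
    (hne : cj t J ≠ J) {w : G} (hwX : w ∈ X) (hwJ : w ∈ normalizer (J : Set G))
    (hwJ' : w ∈ normalizer (cj t J : Set G))
    (hcov : ∀ m ∈ diag X J t, ∃ n ∈ N, n⁻¹ * m ∈ core X) (hwN : ∀ n ∈ N, w * n = n * w) :
    Fixes w J := by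
  refine fixes_of_comm_diag hJ htX ht hne hwX hwJ hwJ' fun m hm => ?_
  obtain ⟨n, hn, hc⟩ := hcov m hm
  have h1 := hwN n hn
  have h2 : ⁅w, m⁆ = n * (w * (n⁻¹ * m) * w⁻¹ * (n⁻¹ * m)⁻¹) * n⁻¹ := by
    rw [commutatorElement_def]
    have h3 : w * m = n * (w * (n⁻¹ * m)) := by
      rw [← mul_assoc, ← h1]
      group
    rw [h3]
    group
  rw [h2]
  obtain ⟨h4, -, -, -⟩ := exists_diag hJ htX ht hne
  have hmX := (h4.le hm).1
  have hnX : n ∈ X := by
    have h5 : n = m * (n⁻¹ * m)⁻¹ := by group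
    rw [h5]
    exact mul_mem hmX (inv_mem (core_le X hc))
  refine Triple.conj_core hnX (mul_mem (Triple.conj_core hwX hc) (inv_mem hc))

end Cfsg.Agent.UGT.A9.Marker
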