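import Cfsg.Agent.UGT.A9.Fun
import Cfsg.Agent.UAlt.ModT

/-!
# NodeA9, the isolated case: `K_v` and `N(W)` (text #11040, (4.7), (4.8))

* `RF.cover`: `N_V = M.cmpT V` covers `K_v`.
* `WD.norm_K_le`: `N(K_v) ≤ N(W)`.
* `WD.comm_le`: a 2-component `J ≠ K_v` of `C(v)` commutes with `N_V`, `N_V'` modulo `W`.
-/

set_option autoImplicit false
set_option linter.unusedSectionVars false

open Cfsg Subgroup Equiv Equiv.Perm
open Cfsg.Agent.SignalizersComponents Cfsg.Agent.Lib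
open Cfsg.Agent.SignalizersComponents.IntrinsicBasic
open Cfsg.Agent.Intrinsic Cfsg.Agent.Intrinsic.Basic Cfsg.Agent.Intrinsic.Cen Cfsg.Agent.Intrinsic.Diag
open Cfsg.Agent.UAlt Cfsg.Agent.UGT.Triple
open scoped commutatorElement

namespace Cfsg.Agent.UGT.A9

variable {G : Type*} [Group G] [Finite G] {α : Type*} [Fintype α] [DecidableEq α]
  {L : Subgroup G} {S : Finset α} {M : Mod L S} {V V' W : Subgroup G} {T T' : Finset α}

/-- the points fixed by `V` -/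
theorem FT_eq (h : RF M V T) : M.FT V = S \ T := by
  obtain ⟨v, hv, h1⟩ := h.exists_ne
  ext x
  rw [M.mem_FT (h.le.trans le_normalizer), Finset.mem_sdiff]
  refine and_congr_right fun hx => ⟨fun h2 hxT => (h.root hv h1).apply_ne hxT (h2 v hv), fun hxT u hu => ?_⟩
  exact (h.mem u hu).2 x hxT

/-- `N_V ≤ C_L(v)^∞` -/
theorem cmpT_le_cmp (h : RF M V T) {v : G} (hv : v ∈ V) (h1 : v ≠ 1) : M.cmpT V ≤ M.cmp v := by
  refine PComponents.pElem_mono ?_
  rintro y ⟨h2, h3, h4⟩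
  refine ⟨h2, h3 v hv, ?_⟩
  rw [FT_eq h] at h4
  rwa [h.fixIn_eq hv h1]

theorem card_sdiff (h9 : S.card = 9) (h : RF M V T) : (S \ T).card = 5 := by
  rw [Finset.card_sdiff_of_subset h.sub, h.card, h9]

/-- `N_V` covers `K_v` -/
theorem cover_K (h9 : S.card = 9) (h : RF M V T) {v : G} (hv : v ∈ V) (h1 : v ≠ 1) {K : Subgroup G}
    {Mv : Mod K (fixIn S (M.φ v))} (hK : KI M v K Mv) : M.cmpT V ⊔ core K = K := by
  have hle := (cmpT_le_cmp h hv h1).trans hK.le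
  refine sup_of_exists hle fun y hy => ?_
  have h3 : ∀ σ : Perm α, σ ∈ alt (fixIn S (M.φ v)) → σ ∈ alt (M.FT V) := fun σ hσ => by
    rwa [h.fixIn_eq hv h1, ← FT_eq h] at hσ
  have h2 := h3 _ (Mv.mem_alt y hy)
  obtain ⟨k, hk, hkφ⟩ := M.cmpT_lift h.isPGroup (h.le.trans le_normalizer)
    (by rw [FT_eq h, card_sdiff h9 h]) h2
  exact ⟨k, hk, (Mv.eq_iff (hle hk) hy).mp (by rw [hK.agree k (cmpT_le_cmp h hv h1 hk), hkφ])⟩

/-- a 2-group `P` which is trivial on `K / O(K)`: `C_K(P)` covers `K / O(K)` -/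
theorem exists_fixed {P K : Subgroup G} (hP : IsPGroup 2 P) (hf : ∀ p ∈ P, Fixes p K) {k : G} (hk : k ∈ K) :
    ∃ c ∈ K, (∀ p ∈ P, c * p = p * c) ∧ k⁻¹ * c ∈ core K := by
  haveI : Fact (Nat.Prime 2) := ⟨Nat.prime_two⟩
  have hact : ∀ p ∈ P, ∀ m : G, k⁻¹ * m ∈ core K → k⁻¹ * (p * m * p⁻¹) ∈ core K := by
    intro p hp m hm
    have h1 : m ∈ K := by
      have := mul_mem hk (core_le K hm)
      rwa [mul_inv_cancel_left] at this
    have h2 := (fixes_iff_conj.mp (hf p hp)).2 k hk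
    have h3 := conj_mem_core (fixes_iff_conj.mp (hf p hp)).1 hm
    have h4 := mul_mem h2 h3
    rwa [show k⁻¹ * (p * k * p⁻¹) * (p * (k⁻¹ * m) * p⁻¹) = k⁻¹ * (p * m * p⁻¹) by group] at h4
  let Ω := {m : G // k⁻¹ * m ∈ core K}
  letI : MulAction P Ω :=
    { smul := fun p m => ⟨(p : G) * m * (p : G)⁻¹, hact p p.2 m m.2⟩
      one_smul := fun m => Subtype.ext (by
        show (1 : G) * m * (1 : G)⁻¹ = m
        group)
      mul_smul := fun p q m => Subtype.ext (by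
        show ((p * q : P) : G) * m * ((p * q : P) : G)⁻¹ = p * (q * m * (q : G)⁻¹) * (p : G)⁻¹
        push_cast
        group) }
  have hcard : Nat.card Ω = Nat.card (core K) := by
    refine Nat.card_congr ⟨fun m => ⟨k⁻¹ * m, m.2⟩, fun o => ⟨k * o, by
      rw [inv_mul_cancel_left]; exact o.2⟩, ?_, ?_⟩
    · intro m
      apply Subtype.ext
      show k * (k⁻¹ * (m : G)) = m
      group
    · intro o
      apply Subtype.ext
      show k⁻¹ * (k * (o : G)) = o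
      group
  have hodd : ¬ 2 ∣ Nat.card Ω := by
    rw [hcard, ← even_iff_two_dvd, Nat.not_even_iff_odd]
    exact odd_card_core K
  obtain ⟨⟨c, hc⟩, hfix⟩ := hP.nonempty_fixed_point_of_prime_not_dvd_card Ω hodd
  refine ⟨c, ?_, fun p hp => ?_, hc⟩
  · have := mul_mem hk (core_le K hc)
    rwa [mul_inv_cancel_left] at this
  · have h1 := congrArg Subtype.val (hfix ⟨p, hp⟩)
    change p * c * p⁻¹ = c at h1
    rw [mul_inv_eq_iff_eq_mul] at h1
    exact h1.symm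

/-- the root four-group `V'` of `L` is a root four-group of `K_v` -/
theorem Pair.rf_K (h : Pair M V V' T T') {v : G} (hv : v ∈ V) (h1 : v ≠ 1) {K : Subgroup G}
    {Mv : Mod K (fixIn S (M.φ v))} (hK : KI M v K Mv) : RF Mv V' T' := by
  refine ⟨h.le_K hv h1 hK, ?_, h.r2.card, h.r2.sq, fun w hw => ?_, fun σ hσ hσσ => ?_⟩
  · intro y hy
    rw [h.r1.fixIn_eq hv h1, Finset.mem_sdiff]
    exact ⟨h.r2.sub hy, fun hyT => Finset.disjoint_left.mp h.d hyT hy⟩
  · rw [h.φ_eq hv h1 hK hw]; exact h.r2.mem w hw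
  · obtain ⟨w, hw, hwσ⟩ := h.r2.lift σ hσ hσσ
    exact ⟨w, hw, by rw [h.φ_eq hv h1 hK hw]; exact hwσ⟩

section wd

variable (h9 : S.card = 9) (h : Pair M V V' T T') (hW : WD V V' W)

include h9 h hW

theorem WD.K_le {v : G} (hv : v ∈ V) (h1 : v ≠ 1) {K : Subgroup G} {Mv : Mod K (fixIn S (M.φ v))}
    (hK : KI M v K Mv) : K ≤ normalizer (W : Set G) := by
  intro y hy
  obtain ⟨c, hc, hcV, hyc⟩ := exists_fixed h.r1.isPGroup
    (fun u hu => h.fixes_K h9 hv h1 hK hu) hy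
  have h2 : y⁻¹ * c ∈ W := by
    have h3 := hK.comp.core_le_core hyc
    rw [← hW.left v hv h1] at h3
    exact h3.1
  have h3 : c ∈ normalizer (W : Set G) := by
    apply hW.nl
    apply centralizer_le_normalizer
    rw [mem_centralizer_iff]
    exact fun u hu => (hcV u hu).symm
  have h4 := mul_mem h3 (inv_mem (le_normalizer h2))
  rwa [show c * (y⁻¹ * c)⁻¹ = y by group] at h4

/-- **(4.7)** `N(K_v) ≤ N(W)` -/
theorem WD.norm_K_le {v : G} (hv : v ∈ V) (h1 : v ≠ 1) {K : Subgroup G} {Mv : Mod K (fixIn S (M.φ v))}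
    (hK : KI M v K Mv) : normalizer (K : Set G) ≤ normalizer (W : Set G) := by
  intro g hg
  obtain ⟨k, hk, hkg⟩ := (h.rf_K hv h1 hK).frattini hg
  have h2 := hW.nr hkg
  have h3 := hW.K_le h9 h hv h1 hK hk
  have h4 := mul_mem (inv_mem h3) h2
  rwa [inv_mul_cancel_left] at h4

theorem WD.core_le {v : G} (hv : v ∈ V) (h1 : v ≠ 1) : core (centralizer ({v} : Set G)) ≤ W := by
  rw [← hW.left v hv h1]
  exact inf_le_left

end wd

/-- the members of `N(W)` commuting with `X` modulo `W` -/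
def CM (W X : Subgroup G) : Subgroup G where
  carrier := {j | j ∈ normalizer (W : Set G) ∧ ∀ x ∈ X, ⁅j, x⁆ ∈ W}
  mul_mem' := by
    rintro a b ⟨ha, ha'⟩ ⟨hb, hb'⟩
    refine ⟨mul_mem ha hb, fun x hx => ?_⟩
    have h1 : a * ⁅b, x⁆ * a⁻¹ ∈ W := (mem_normalizer_iff.mp ha _).mp (hb' x hx)
    have h2 := mul_mem h1 (ha' x hx)
    rwa [show a * ⁅b, x⁆ * a⁻¹ * ⁅a, x⁆ = ⁅a * b, x⁆ by
      simp only [commutatorElement_def]; group] at h2
  one_mem' := ⟨one_mem _, fun x _ => by rw [commutatorElement_one_left]; exact one_mem _⟩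
  inv_mem' := by
    rintro a ⟨ha, ha'⟩
    refine ⟨inv_mem ha, fun x hx => ?_⟩
    have h1 : a⁻¹ * (⁅a, x⁆)⁻¹ * (a⁻¹)⁻¹ ∈ W :=
      (mem_normalizer_iff.mp (inv_mem ha) _).mp (inv_mem (ha' x hx))
    rwa [show a⁻¹ * (⁅a, x⁆)⁻¹ * (a⁻¹)⁻¹ = ⁅a⁻¹, x⁆ by
      simp only [commutatorElement_def]; group] at h1

omit [Finite G] in
theorem mem_CM {X : Subgroup G} {j : G} : j ∈ CM W X ↔ j ∈ normalizer (W : Set G) ∧ ∀ x ∈ X, ⁅j, x⁆ ∈ W :=
  Iff.rfl

omit [Finite G] in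
theorem le_CM_symm {X J : Subgroup G} (h1 : X ≤ normalizer (W : Set G)) (h : J ≤ CM W X) : X ≤ CM W J := by
  intro x hx
  refine ⟨h1 hx, fun j hj => ?_⟩
  have h2 := inv_mem ((h hj).2 x hx)
  rwa [commutatorElement_inv] at h2

omit [Finite G] in
theorem le_CM_self {X : Subgroup G} (h1 : X ≤ normalizer (W : Set G)) : W ≤ CM W X := by
  intro w hw
  refine ⟨le_normalizer hw, fun x hx => ?_⟩
  rw [commutatorElement_def, show w * x * w⁻¹ * x⁻¹ = w * (x * w⁻¹ * x⁻¹) by group]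
  exact mul_mem hw ((mem_normalizer_iff.mp (h1 hx) _).mp (inv_mem hw))

section wd2

variable (hI : Iso9 M) (h : Pair M V V' T T') (hW : WD V V' W)

include hI h hW

/-- `J ≤ N(W)` for the 2-components `J ≠ K_v` of `C(v)` -/
theorem WD.J_le {v : G} (hv : v ∈ V) (h1 : v ≠ 1) {K : Subgroup G} {Mv : Mod K (fixIn S (M.φ v))}
    (hK : KI M v K Mv) {J : Subgroup G} (hJ : IsComp (centralizer ({v} : Set G)) J) (hne : J ≠ K) :
    J ≤ normalizer (W : Set G) := by
  intro y hy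
  obtain ⟨c, hc, hcV, hyc⟩ := exists_fixed h.r1.isPGroup
    (fun u hu => (hI.fixes_other h hv h1 hK hJ hne).1 u hu) hy
  have h2 : y⁻¹ * c ∈ W := hW.core_le hI.card h hv h1 (hJ.core_le_core hyc)
  have h3 : c ∈ normalizer (W : Set G) := by
    apply hW.nl
    apply centralizer_le_normalizer
    rw [mem_centralizer_iff]
    exact fun u hu => (hcV u hu).symm
  have h4 := mul_mem h3 (inv_mem (le_normalizer h2))
  rwa [show c * (y⁻¹ * c)⁻¹ = y by group] at h4

/-- **(4.8)** -/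
theorem WD.J_le_left {v : G} (hv : v ∈ V) (h1 : v ≠ 1) {K : Subgroup G} {Mv : Mod K (fixIn S (M.φ v))}
    (hK : KI M v K Mv) {J : Subgroup G} (hJ : IsComp (centralizer ({v} : Set G)) J) (hne : J ≠ K) :
    J ≤ CM W K := fun _ hj => ⟨hW.J_le hI h hv h1 hK hJ hne hj, fun _ hk =>
      hW.core_le hI.card h hv h1
        (hJ.core_le_core (hJ.comm_le_core hK.comp hne (commutator_mem_commutator hj hk)).1)⟩

/-- **(4.8)** -/
theorem WD.J_le_right {v : G} (hv : v ∈ V) (h1 : v ≠ 1) {K : Subgroup G} {Mv : Mod K (fixIn S (M.φ v))}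
    (hK : KI M v K Mv) {J : Subgroup G} (hJ : IsComp (centralizer ({v} : Set G)) J) (hne : J ≠ K)
    {w : G} (hw : w ∈ V') (hw1 : w ≠ 1) {K' : Subgroup G} {Mw : Mod K' (fixIn S (M.φ w))}
    (hK' : KI M w K' Mw) : J ≤ CM W K' := by
  have hJN := hW.J_le hI h hv h1 hK hJ hne
  have hvw := h.c v hv w hw
  have hwJ := (hI.fixes_other h hv h1 hK hJ hne).2 w hw
  obtain ⟨hE, hs⟩ := isComp_cen hJ (memC_iff.mpr hvw.symm) (h.r2.sq w hw) hwJ
  -- `C_J(w)^∞` lies in a 2-component of `C(w)` other than `K_w`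
  have hK'N : K' ≤ normalizer (W : Set G) := hW.symm.K_le hI.card h.symm hw hw1 hK'
  have hEc : cen J w ≤ CM W K' := by
    obtain ⟨H, hH, hHne, hEH, -⟩ := jump (h.r1.sq v hv) (h.r2.sq w hw) hvw hJ hwJ hK'.comp
      (h.symm.le_K hw hw1 hK' hv) (fun hle => by
        refine h.no_comp hI.card hv h1 hw hw1 hK' (E := cen J w) ?_
        refine isComp_inf (H := centralizer ({w} : Set G)) ?_ hK'.comp hle
        rw [inf_comm]
        exact hE)
    have hEH' : cen J w ≤ H := hEH.le.trans (cen_le H v)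
    have hEJ : cen J w ≤ J := cen_le J w
    exact fun e he => ⟨hJN (hEJ he), fun k hk =>
      hW.symm.core_le hI.card h.symm hw hw1 (hH.core_le_core (hH.comm_le_core hK'.comp hHne
        (commutator_mem_commutator (hEH' he) hk)).1)⟩
  rw [← hs]
  refine sup_le hEc ?_
  exact (hJ.core_le_core.trans (hW.core_le hI.card h hv h1)).trans (le_CM_self hK'N)

end wd2

end Cfsg.Agent.UGT.A9
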