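import Cfsg.Agent.UGT.A9.KNormal
import Cfsg.Agent.UAlt.NineE

/-!
# NodeA9, the isolated case: the package for the closing argument, (4.10) of text #11040

* `cent_le_Lam`: `C(v) ≤ N(Λ)`; `core_Lam`: `O(Λ) = W`.
* `exists_pke`: `Λ / W ≅ Alt(S)` with labels, `PKE`.
* `Iso9.exists_subnormal`: a subnormal subgroup `B` with `B / O(B) ≅ A₉`.
-/

set_option autoImplicit false
set_option linter.unusedSectionVars false

open Cfsg Subgroup Equiv Equiv.Perm
open Cfsg.Agent.SignalizersComponents Cfsg.Agent.Lib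
open Cfsg.Agent.SignalizersComponents.IntrinsicBasic
open Cfsg.Agent.Intrinsic Cfsg.Agent.Intrinsic.Basic Cfsg.Agent.Intrinsic.Cen Cfsg.Agent.Intrinsic.Diag
open Cfsg.Agent.UAlt Cfsg.Agent.UGT.Triple
open scoped commutatorElement

namespace Cfsg.Agent.UGT.A9

variable {G : Type*} [Group G] [Finite G] {α : Type*} [Fintype α] [DecidableEq α]
  {L : Subgroup G} {S : Finset α} {M : Mod L S} {V V' W : Subgroup G} {T T' : Finset α}

section

variable (hI : Iso9 M) (h : Pair M V V' T T') (hW : WD V V' W)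

include hI h

/-- `K_w^c = K_{w^c}` -/
theorem cj_K_eq {v : G} (hv : v ∈ V) (h1 : v ≠ 1) {w w' : G} (hw : w ∈ V') (hw1 : w ≠ 1)
    (hw' : w' ∈ V') {K' K'' : Subgroup G} {Mw : Mod K' (fixIn S (M.φ w))} {Mw' : Mod K'' (fixIn S (M.φ w'))}
    (hK' : KI M w K' Mw) (hK'' : KI M w' K'' Mw') {c : G} (hcv : c * v = v * c) (hcw : c * w * c⁻¹ = w') :
    cj c K' = K'' := by
  by_contra hne
  have hw1' : w' ≠ 1 := by
    rintro rfl
    apply hw1
    have h2 := congrArg (fun z => c⁻¹ * z * c) hcw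
    simpa [mul_assoc] using h2
  have h2 : IsComp (centralizer ({w'} : Set G)) (cj c K') := by
    have h3 := hK'.comp.cj c
    rwa [cj_centralizer, hcw] at h3
  have h3 := (hI.fixes_other h.symm hw' hw1' hK'' h2 hne).2 v hv
  have h4 := h3.cj c⁻¹
  rw [cj_inv_cj, inv_inv, mul_assoc, ← hcv, inv_mul_cancel_left] at h4
  have hvK' : v ∈ K' := h.symm.le_K hw hw1 hK' hv
  have h5 := (Mw.fixes_iff (le_normalizer hvK')).mpr h4
  rw [h.symm.φ_eq hw hw1 hK' hv] at h5
  exact (h.r1.root hv h1).φ_ne_one h5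

include hW

/-- **(4.10)** `C(v) ≤ N(Λ)` -/
theorem cent_le_Lam {v : G} (hv : v ∈ V) (h1 : v ≠ 1) :
    centralizer ({v} : Set G) ≤ normalizer (Lam M V V' W : Set G) := by
  obtain ⟨K, Mv, hK⟩ := hI.ex v (h.r1.rt hv h1)
  obtain ⟨w, hw, hw1⟩ := h.r2.exists_ne
  obtain ⟨K', Mw, hK'⟩ := hI.ex w (h.r2.rt hw hw1)
  intro g hg
  have hgK := cent_le_K hI h hW hv h1 hK hg
  obtain ⟨k, hk, hkg⟩ := (h.rf_K hv h1 hK).frattini hgK
  have hkv : k ∈ centralizer ({v} : Set G) := hK.comp.le hk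
  obtain ⟨c, hc⟩ : ∃ c, c = k * g := ⟨_, rfl⟩
  rw [← hc] at hkg
  have hcC : c ∈ centralizer ({v} : Set G) := by rw [hc]; exact mul_mem hkv hg
  have hcv : c * v = v * c := memC_iff.mp hcC
  have hcK := mem_normalizer_iff_cj.mp (cent_le_K hI h hW hv h1 hK hcC)
  have hcW := mem_normalizer_iff_cj.mp (hW.nr hkg)
  have hw' : c * w * c⁻¹ ∈ V' := (mem_normalizer_iff.mp hkg w).mp hw
  have hw1' : c * w * c⁻¹ ≠ 1 := by
    intro h2
    apply hw1
    have h3 := congrArg (fun z => c⁻¹ * z * c) h2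
    simpa [mul_assoc] using h3
  obtain ⟨K'', Mw', hK''⟩ := hI.ex _ (h.r2.rt hw' hw1')
  have h2 := cj_K_eq hI h hv h1 hw hw1 hw' hK' hK'' hcv rfl
  have hcΛ : c ∈ normalizer (Lam M V V' W : Set G) := by
    rw [mem_normalizer_iff_cj]
    calc cj c (Lam M V V' W) = cj c ((K ⊔ K') ⊔ W) := by rw [Lam_eq hI h hW hv h1 hw hw1 hK hK']
      _ = (cj c K ⊔ cj c K') ⊔ cj c W := by
        rw [cj_def, Subgroup.map_sup, Subgroup.map_sup]
        rfl
      _ = (K ⊔ K'') ⊔ W := by rw [hcK, hcW, h2]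
      _ = Lam M V V' W := (Lam_eq hI h hW hv h1 hw' hw1' hK hK'').symm
  have hkΛ : k ∈ normalizer (Lam M V V' W : Set G) := le_normalizer (K_le_Lam hI h hW hv h1 hK hk)
  have h3 := mul_mem (inv_mem hkΛ) hcΛ
  rwa [hc, inv_mul_cancel_left] at h3

/-- `O(Λ) = W` -/
theorem core_Lam : core (Lam M V V' W) = W := by
  apply le_antisymm
  · have hVΛ : V ≤ Lam M V V' W := (h.symm.le_cmpT.trans le_sup_right).trans le_sup_left
    refine Functor.gen_le (F := V) (fun a ha b hb => h.r1.comm ha hb) (fun a ha => h.r1.sq a ha)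
      (by rw [h.r1.natCard]) (odd_card_core _) (hVΛ.trans (le_normalizer_core _)) fun f hf hf1 => ?_
    have h1 : core (Lam M V V' W) ⊓ centralizer ({f} : Set G) ≤ core (centralizer ({f} : Set G)) := by
      refine le_core inf_le_right ?_ (Odd.of_dvd_nat (odd_card_core _) (card_dvd_of_le inf_le_left))
      intro g hg
      rw [mem_normalizer_iff_cj, cj_inf, cj_eq_self_of_mem hg,
        mem_normalizer_iff_cj.mp (normalizer_le_normalizer_core _ (cent_le_Lam hI h hW hf hf1 hg))]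
    exact h1.trans (hW.core_le hI.card h hf hf1)
  · exact le_core le_sup_right (Lam_le_norm hI h hW) hW.odd

/-- **the package** -/
theorem exists_pke : ∃ MΛ : Mod (Lam M V V' W) S, PKE MΛ := by
  have h9 := hI.card
  obtain ⟨ψ, hψ, hr, hk⟩ : ∃ ψ : ↥(Lam M V V' W) →* Perm α,
      (∀ (y : ↥(Lam M V V' W)), ∀ d ∈ Dn M V V', d⁻¹ * (y : G) ∈ W → ψ y = M.φ d) ∧
      ψ.range = alt S ∧ Odd (Nat.card ψ.ker) :=
    exists_ext M Dn_le (Dn_le_norm hI h hW) hW.odd (h.Dn_surj hI.card)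
  have hker : ψ.ker = oddCore ↥(Lam M V V' W) := by
    apply le_antisymm
    · exact Cores.le_pPrimeCore inferInstance (Nat.coprime_two_right.mpr hk)
    · intro e he
      have h1 : (e : G) ∈ core (Lam M V V' W) := (mem_core_iff e.2).mpr he
      rw [core_Lam hI h hW] at h1
      show ψ e = 1
      rw [hψ e 1 (one_mem _) (by rw [inv_one, one_mul]; exact h1), M.one]
  obtain ⟨MΛ, hMΛ⟩ := Mod.exists_of_hom_five (K := Lam M V V' W) (S := S) (by omega) (by omega) ψ hr hker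
  have hΛφ : ∀ d ∈ Dn M V V', MΛ.φ d = M.φ d := fun d hd => by
    have h1 := hMΛ ⟨d, mem_sup_left hd⟩
    rw [hψ _ d hd (by show d⁻¹ * d ∈ W; rw [inv_mul_cancel]; exact one_mem _)] at h1
    exact h1
  refine ⟨MΛ, ?_⟩
  obtain ⟨v, hv, h1⟩ := h.r1.exists_ne
  have hvD : v ∈ Dn M V V' := mem_sup_right (h.symm.le_cmpT hv)
  have hrv : MΛ.Rt v := ⟨mem_sup_left hvD, h.r1.sq v hv, by
    rw [hΛφ v hvD]; exact (h.r1.rt hv h1).isRoot⟩
  have hcv := cent_le_Lam hI h hW hv h1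
  have hconj : ∀ u, MΛ.Rt u → ∃ l ∈ Lam M V V' W, l * u * l⁻¹ = v := fun u hu => hu.conj hrv
  refine ⟨by omega, fun u hu => ?_, fun u hu => ?_, fun u hu => ?_⟩
  · obtain ⟨l, hl, hlu⟩ := hconj u hu
    intro g hg
    have h2 : l * g * l⁻¹ ∈ centralizer ({v} : Set G) := by
      rw [← hlu, ← cj_centralizer]
      exact conj_mem_cj hg
    have hlN : l ∈ normalizer (Lam M V V' W : Set G) := le_normalizer hl
    have h3 := mul_mem (mul_mem (inv_mem hlN) (hcv h2)) hlN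
    rwa [show l⁻¹ * (l * g * l⁻¹) * l = g by group] at h3
  · obtain ⟨l, hl, hlu⟩ := hconj u hu
    apply cj_injective l
    rw [cj_inf, cj_centralizer, ← core_cj, cj_eq_self_of_mem hl, ← core_cj, cj_centralizer, hlu,
      core_Lam hI h hW]
    exact hW.left v hv h1
  · obtain ⟨l, hl, hlu⟩ := hconj u hu
    have h5 : 5 ≤ (fixIn S (MΛ.φ v)).card := by rw [card_fix_root h9 hrv]
    have h2 : IsComp (centralizer ({v} : Set G)) (MΛ.cmp v) := by
      refine (MΛ.isComp_cmp (le_normalizer hrv.mem) hrv.sq h5).extend inf_le_right ?_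
      exact (normal_subgroupOf_of_le_normalizer (by
        intro g hg
        rw [mem_normalizer_iff_cj, cj_inf, cj_eq_self_of_mem hg, mem_normalizer_iff_cj.mp (hcv hg)])).isSubnormal
    have h3 : MΛ.cmp v = cj l (MΛ.cmp u) := by
      rw [← hlu]
      exact MΛ.cmp_conj (le_normalizer hl) (le_normalizer hu.mem) hu.sq (by rw [card_fix_root h9 hu])
    have h4 := h2.cj l⁻¹
    rw [h3, cj_inv_cj, cj_centralizer, ← hlu, inv_inv, show l⁻¹ * (l * u * l⁻¹) * l = u by group] at h4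
    exact h4

end

end Cfsg.Agent.UGT.A9
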