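import Cfsg.Agent.UGT.RedAltB
import Cfsg.Agent.UGT.A9.MarkTwo
import Cfsg.Agent.UAlt.ModFive
import Cfsg.Agent.UAlt.ModT
import Cfsg.Agent.UAlt.RFConj

/-!
# NodeA9: the pump-ups `K_w`

`(x, a, L)` a triple, `M : Mod L S`, `w` an involution of `C(a) ∩ C(x) ∩ N(L)`.

* `exists_d`: `O(C(x)) ∩ C(a) ∩ C(w)` does not fix `L`, if `w` is trivial on `Fix(x)`.
* `Sgl M a w K`: `K` is an `a`-invariant 2-component of `C(w)` containing `C_L(w)^∞ = M.cmp w`; `Dbl M a w K`: `K ≠ K^a` are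
  2-components of `C(w)` with `M.cmp w = diag(K, a)`.
* `exists_K`: one of the two holds for some `K` and `(x, w, K)` is a triple.
-/

set_option autoImplicit false
set_option linter.unusedSectionVars false

open Cfsg Subgroup Equiv Equiv.Perm
open Cfsg.Agent.SignalizersComponents Cfsg.Agent.Lib
open Cfsg.Agent.SignalizersComponents.IntrinsicBasic
open Cfsg.Agent.SignalizersComponents.IntrinsicIntr
open Cfsg.Agent.SignalizersComponents.PLayerAut
open Cfsg.Agent.Intrinsic.Basic Cfsg.Agent.Intrinsic.Cen Cfsg.Agent.Intrinsic.Diag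
open Cfsg.Agent.McLLyComp.Act
open Cfsg.Agent.UGT.Triple Cfsg.Agent.UGT.LemG Cfsg.Agent.UGT.PumpGen Cfsg.Agent.UGT.RedAlt
open Cfsg.Agent.UAlt Cfsg.Agent.UGT.Iface
open scoped commutatorElement

namespace Cfsg.Agent.UGT.A9.Dg

variable {G : Type*} [Group G] {α : Type*} [Fintype α] [DecidableEq α]
  {L : Subgroup G} {S : Finset α}

/-- `K_w = K_w^a` -/
structure Sgl (M : Mod L S) (a w : G) (K : Subgroup G) : Prop where
  comp : IsComp (centralizer ({w} : Set G)) K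
  norm : a ∈ normalizer (K : Set G)
  le : M.cmp w ≤ K

/-- `K_w ≠ K_w^a` -/
structure Dbl (M : Mod L S) (a w : G) (K : Subgroup G) : Prop where
  comp : IsComp (centralizer ({w} : Set G)) K
  ne : cj a K ≠ K
  eq : M.cmp w = diag (centralizer ({w} : Set G)) K a

variable [Finite G] {x a : G}

theorem exists_d (T : IsTriple x a L) (M : Mod L S) {w : G} (hww : w * w = 1)
    (hwa : w * a = a * w) (hwx : w * x = x * w) (hwN : w ∈ normalizer (L : Set G))
    (hfix : fixIn S (M.φ x) ⊆ fixIn S (M.φ w)) :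
    ∃ d ∈ core (centralizer ({x} : Set G)), d ∈ centralizer ({a} : Set G) ∧
      d ∈ centralizer ({w} : Set G) ∧ ¬ Fixes d L := by
  obtain ⟨h3, hD⟩ := three_fix T M
  obtain ⟨d, hd, hda, hf⟩ := T.bad
  have hdL : d ∈ normalizer (L : Set G) := T.mem_normalizer_of_core hd hda
  obtain ⟨F, hF⟩ : ∃ F : Subgroup G, ∀ e, e ∈ F ↔ e ∈ core (centralizer ({x} : Set G)) ∧
      e ∈ centralizer ({a} : Set G) ∧ Fixes e L := by
    refine ⟨{ carrier := {e | e ∈ core (centralizer ({x} : Set G)) ∧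
        e ∈ centralizer ({a} : Set G) ∧ Fixes e L}
              mul_mem' := ?_
              one_mem' := ?_
              inv_mem' := ?_ }, fun e => Iff.rfl⟩
    · rintro e e' ⟨h1, h2, h3⟩ ⟨h1', h2', h3'⟩
      exact ⟨mul_mem h1 h1', mul_mem h2 h2', fixes_mul h3 h3'⟩
    · exact ⟨one_mem _, one_mem _, fixes_one L⟩
    · rintro e ⟨h1, h2, h3⟩
      exact ⟨inv_mem h1, inv_mem h2, fixes_inv h3⟩
  have hFodd : Odd (Nat.card F) :=
    Odd.of_dvd_nat (odd_card_core (centralizer ({x} : Set G)))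
      (card_dvd_of_le fun e he => ((hF e).mp he).1)
  have hwi : w⁻¹ = w := inv_eq_of_mul_eq_one_left hww
  have hwF : ∀ e ∈ F, w * e * w⁻¹ ∈ F := by
    intro e he
    obtain ⟨e1, e2, e3⟩ := (hF e).mp he
    refine (hF _).mpr ⟨conj_core (mem_c hwx) e1, ?_, fixes_conj e3 hwN⟩
    exact mul_mem (mul_mem (mem_c hwa) e2) (inv_mem (mem_c hwa))
  have hwn : w ∈ normalizer (F : Set G) := by
    rw [mem_normalizer_iff]
    intro e
    refine ⟨hwF e, fun h => ?_⟩
    have e1 := hwF _ h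
    have e2 : w * (w * e * w⁻¹) * w⁻¹ = e := by
      rw [hwi]
      calc w * (w * e * w) * w = (w * w) * e * (w * w) := by group
        _ = e := by rw [hww]; group
    rwa [e2] at e1
  have hwdN : w * d * w⁻¹ ∈ normalizer (L : Set G) := mul_mem (mul_mem hwN hdL) (inv_mem hwN)
  have hmem : d⁻¹ * (w * d * w⁻¹) ∈ F := by
    refine (hF _).mpr ⟨mul_mem (inv_mem hd) (conj_core (mem_c hwx) hd), ?_, ?_⟩
    · exact mul_mem (inv_mem hda) (mul_mem (mul_mem (mem_c hwa) hda) (inv_mem (mem_c hwa)))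
    · rw [← M.fixes_iff (mul_mem (inv_mem hdL) hwdN), M.mul _ _ (inv_mem hdL) hwdN, M.conj hwN hdL,
        M.inv hdL]
      have h6 : M.φ w * M.φ d = M.φ d * M.φ w :=
        UAlt.comm_of_fix (T := fixIn S (M.φ x)) (fun i hi => (mem_fixIn.mp (hfix hi)).2)
          (alt_le_sym _ (hD d ⟨hd, hda⟩))
      rw [h6]
      group
  obtain ⟨o, ho, hco⟩ := Intrinsic.Lifting.exists_commute (n := 1) hFodd
    (by rw [pow_one, pow_two, hww]) hwn hmem
  obtain ⟨ho1, ho2, ho3⟩ := (hF o).mp ho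
  exact ⟨d * o, mul_mem hd ho1, mul_mem hda ho2, mem_c hco.symm,
    fun h => hf ((fixes_mul_iff_left ho3).mp h)⟩

theorem not_fixes_cmp (T : IsTriple x a L) (M : Mod L S) {w : G} (hww : w * w = 1)
    (hwN : w ∈ normalizer (L : Set G)) (hfix : fixIn S (M.φ x) ⊆ fixIn S (M.φ w))
    (h5 : 5 ≤ (fixIn S (M.φ w)).card) {d : G} (hd : d ∈ core (centralizer ({x} : Set G)))
    (hda : d ∈ centralizer ({a} : Set G)) (hf : ¬ Fixes d L) : ¬ Fixes d (M.cmp w) := by
  intro hfm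
  apply hf
  obtain ⟨-, hD⟩ := three_fix T M
  have hdL : d ∈ normalizer (L : Set G) := T.mem_normalizer_of_core hd hda
  rw [← M.fixes_iff hdL]
  have hcoreM : core (M.cmp w) ≤ core L :=
    ((M.isComp_cmp hwN hww h5).core_le_core).trans (M.core_cent_le hwN hww (by omega))
  have hcomm : ∀ τ ∈ alt (fixIn S (M.φ w)), M.φ d * τ = τ * M.φ d := by
    intro τ hτ
    obtain ⟨k, hk, rfl⟩ := M.cmp_lift hwN hww h5 hτ
    have hkL := M.cmp_le w hk
    have hkN := le_normalizer (H := L) hkL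
    have h6 := hcoreM (hfm.2 k hk)
    rw [← M.core_iff _ (core_le L h6), commutatorElement_def,
      M.mul _ _ (mul_mem (mul_mem hdL hkN) (inv_mem hdL)) (inv_mem hkN), M.conj hdL hkN, M.inv hkN,
      mul_inv_eq_one, mul_inv_eq_iff_eq_mul] at h6
    exact h6
  have hφd : M.φ d ∈ alt (fixIn S (M.φ x)) := hD _ ⟨hd, hda⟩
  ext i
  by_cases hi : i ∈ fixIn S (M.φ w)
  · exact apply_of_comm_alt (S := fixIn S (M.φ w)) (by omega) hcomm hi
  · exact hφd.2 i fun h => hi (hfix h)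

/-- the pump-up of `C_L(w)^∞` -/
theorem exists_K (T : IsTriple x a L) (M : Mod L S) {w : G} (hw : orderOf w = 2)
    (hwa : w * a = a * w) (hwx : w * x = x * w) (hwN : w ∈ normalizer (L : Set G))
    (hfix : fixIn S (M.φ x) ⊆ fixIn S (M.φ w)) (h5 : 5 ≤ (fixIn S (M.φ w)).card) :
    ∃ K, IsTriple x w K ∧ (Sgl M a w K ∨ Dbl M a w K) := by
  have hww := sq_of_order hw
  obtain ⟨d, hd, hda, hdw, hf⟩ := exists_d T M hww hwa hwx hwN hfix
  have hM := M.isComp_cmp_of T.comp hwN hww h5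
  rw [inf_comm] at hM
  obtain ⟨K, hK, -, hor⟩ := PumpGen.pump T.invx hw (sq_of_order T.inva) hwa hwx hM hd hda hdw
    (not_fixes_cmp T M hww hwN hfix h5 hd hda hf)
  refine ⟨K, hK, ?_⟩
  rcases hor with ⟨h1, h2⟩ | ⟨h1, h2⟩
  · exact Or.inl ⟨hK.comp, h1, h2⟩
  · exact Or.inr ⟨hK.comp, h1, h2⟩

end Cfsg.Agent.UGT.A9.Dg
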