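import Cfsg.Agent.UGT.A9.Iso
import Cfsg.Agent.UGT.A9.Marker
import Cfsg.Agent.UGT.RedAltC
import Cfsg.Agent.UGT.Tri
import Cfsg.Agent.UGT.Nodes
import Cfsg.Agent.UAlt.Rig

/-!
# NodeA9, section 2: (2.1), (2.2)

`(x, a, L)` a triple of type `A₉` such that for the roots `v` of `L` the 2-component `K_v` of `C(v)` containing `C_L(v)^∞` is
of type `A₇` (`Seven9`).

* `fix_two` (2.1): the 2-elements of `C(a)` fixing `L` are `1` and `a`.
* `cj_L` (2.2): `L` is normal in `C(a)`.
-/

set_option autoImplicit false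
set_option linter.unusedSectionVars false

open Cfsg Subgroup Equiv Equiv.Perm
open Cfsg.Agent.SignalizersComponents Cfsg.Agent.Lib
open Cfsg.Agent.SignalizersComponents.IntrinsicBasic
open Cfsg.Agent.Intrinsic Cfsg.Agent.Intrinsic.Basic Cfsg.Agent.Intrinsic.Cen Cfsg.Agent.Intrinsic.Diag
open Cfsg.Agent.UAlt
open Cfsg.Agent.UGT.Triple Cfsg.Agent.UGT.Iface Cfsg.Agent.UGT.TriBase
open scoped commutatorElement

namespace Cfsg.Agent.UGT.A9

section defs

variable {G : Type*} [Group G] {α : Type*} [Fintype α] [DecidableEq α]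
  {L : Subgroup G} {S : Finset α}

/-- the case of section 2: `K_v` is of type `A₇` for the roots `v` of `L` -/
structure Seven9 (M : Mod L S) : Prop where
  card : S.card = 9
  ex : ∀ v, M.Rt v → ∃ K, IsComp (centralizer ({v} : Set G)) K ∧ M.cmp v ≤ K ∧ AltType K 7

/-- **(F3)** the type `PSL₂(q)`: no 2-component of type `Aₖ`, `k ≥ 7`, on it -/
def F3 (G : Type*) [Group G] : Prop := ∀ (f : G) (J : Subgroup G), orderOf f = 2 →
  IsComp (centralizer ({f} : Set G)) J → IsL2 (Bar J) →
    (∀ k, 7 ≤ k → ¬ AltType J k) ∧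
    ∀ (t : G) (E : Subgroup G), t * t = 1 → t ∈ centralizer ({f} : Set G) →
      t ∈ normalizer (J : Set G) → ¬ Fixes t J → IsComp (J ⊓ centralizer ({t} : Set G)) E →
        ∀ k, 7 ≤ k → ¬ AltType E k

end defs

namespace Seven

section perm

variable {α : Type*} [Fintype α] [DecidableEq α]

/-- a permutation trivial on all but two points of `S` -/
theorem eq_or_of_five {S : Finset α} {σ τ : Perm α} (hσ : σ ∈ sym S) (hτ : τ ∈ sym S)
    (hc : (fixIn S σ).card + 2 = S.card) (h : ∀ p ∈ fixIn S σ, τ p = p) : τ = 1 ∨ τ = σ := by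
  have h1 : (S \ fixIn S σ).card = 2 := by
    rw [Finset.card_sdiff_of_subset (fixIn_subset S σ)]; omega
  obtain ⟨i, j, hij, hs⟩ := Finset.card_eq_two.mp h1
  have hmem : ∀ p, p ∉ fixIn S σ → p ∈ S → p = i ∨ p = j := by
    intro p hp hpS
    have : p ∈ S \ fixIn S σ := Finset.mem_sdiff.mpr ⟨hpS, hp⟩
    rw [hs, Finset.mem_insert, Finset.mem_singleton] at this
    exact this
  have hi : i ∈ S ∧ i ∉ fixIn S σ := by
    have : i ∈ S \ fixIn S σ := by rw [hs]; exact Finset.mem_insert_self _ _
    exact Finset.mem_sdiff.mp this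
  have hj : j ∈ S ∧ j ∉ fixIn S σ := by
    have : j ∈ S \ fixIn S σ := by rw [hs]; simp
    exact Finset.mem_sdiff.mp this
  -- a permutation of this kind is trivial or the transposition
  have key : ∀ ρ : Perm α, ρ ∈ sym S → (∀ p ∈ fixIn S σ, ρ p = p) → ρ = 1 ∨ ρ = swap i j := by
    intro ρ hρ hρf
    have hρi : ρ i = i ∨ ρ i = j := by
      refine hmem _ (fun hc => ?_) (mem_of_mem_sym hρ hi.1)
      have := hρf _ hc
      exact hi.2 (ρ.injective this ▸ hc)
    have hρj : ρ j = i ∨ ρ j = j := by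
      refine hmem _ (fun hc => ?_) (mem_of_mem_sym hρ hj.1)
      have := hρf _ hc
      exact hj.2 (ρ.injective this ▸ hc)
    have hother : ∀ p, p ≠ i → p ≠ j → ρ p = p := by
      intro p h1 h2
      by_cases hpS : p ∈ S
      · by_cases hpf : p ∈ fixIn S σ
        · exact hρf p hpf
        · rcases hmem p hpf hpS with h | h
          · exact absurd h h1
          · exact absurd h h2
      · exact hρ p hpS
    rcases hρi with h1 | h1
    · left
      have h2 : ρ j = j := by
        rcases hρj with h2 | h2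
        · exact absurd (ρ.injective (h1.trans h2.symm)) hij
        · exact h2
      ext p
      by_cases e1 : p = i
      · rw [e1, h1, one_apply]
      · by_cases e2 : p = j
        · rw [e2, h2, one_apply]
        · rw [hother p e1 e2, one_apply]
    · right
      have h2 : ρ j = i := by
        rcases hρj with h2 | h2
        · exact h2
        · exact absurd (ρ.injective (h1.trans h2.symm)) hij
      ext p
      by_cases e1 : p = i
      · rw [e1, h1, swap_apply_left]
      · by_cases e2 : p = j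
        · rw [e2, h2, swap_apply_right]
        · rw [hother p e1 e2, swap_apply_of_ne_of_ne e1 e2]
  have hσ' : σ = swap i j := by
    rcases key σ hσ (fun p hp => (mem_fixIn.mp hp).2) with h2 | h2
    · exfalso
      apply hi.2
      rw [mem_fixIn, h2]
      exact ⟨hi.1, rfl⟩
    · exact h2
  rcases key τ hτ h with h2 | h2
  · exact Or.inl h2
  · exact Or.inr (h2.trans hσ'.symm)

/-- a permutation of nine points with seven fixed points is odd -/
theorem not_alt_of_seven {S : Finset α} {σ : Perm α} (hσ : σ ∈ alt S)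
    (hc : (fixIn S σ).card + 2 = S.card) : False := by
  have h1 : (S \ fixIn S σ).card = 2 := by
    rw [Finset.card_sdiff_of_subset (fixIn_subset S σ)]; omega
  obtain ⟨i, j, hij, hs⟩ := Finset.card_eq_two.mp h1
  have hi : i ∈ S ∧ i ∉ fixIn S σ := by
    have : i ∈ S \ fixIn S σ := by rw [hs]; exact Finset.mem_insert_self _ _
    exact Finset.mem_sdiff.mp this
  have hj : j ∈ S ∧ j ∉ fixIn S σ := by
    have : j ∈ S \ fixIn S σ := by rw [hs]; simp
    exact Finset.mem_sdiff.mp this
  -- `swap i j` is trivial on the fixed points of `σ`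
  have h2 := eq_or_of_five (τ := swap i j) (alt_le_sym _ hσ) (S := S) (by
    intro p hp
    rw [swap_apply_of_ne_of_ne]
    · rintro rfl; exact hp hi.1
    · rintro rfl; exact hp hj.1) hc (by
    intro p hp
    rw [swap_apply_of_ne_of_ne]
    · rintro rfl; exact hi.2 hp
    · rintro rfl; exact hj.2 hp)
  rcases h2 with h2 | h2
  · exact hij (swap_eq_one_iff.mp h2)
  · have h3 := Perm.mem_alternatingGroup.mp hσ.1
    rw [← h2, sign_swap hij] at h3
    exact absurd h3 (by decide)

end perm

variable {G : Type*} [Group G] [Finite G] {α : Type*} [Fintype α] [DecidableEq α]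
  {L : Subgroup G} {S : Finset α}

/-- `Z / O(Z) ≅ K / O(K)` for a covering subgroup `Z` -/
theorem altType_of_cover {Z K : Subgroup G} (hs : Z ⊔ core K = K) {k : ℕ} (h : AltType Z k) :
    AltType K k := by
  obtain ⟨e, -⟩ := exists_quotEquiv hs
  exact h.congr e

theorem altType_cover {Z K : Subgroup G} (hs : Z ⊔ core K = K) {k : ℕ} (h : AltType K k) :
    AltType Z k := by
  obtain ⟨e, -⟩ := exists_quotEquiv hs
  exact h.congr e.symm

/-- the type of `cmp t` -/
theorem altType_cmp (M : Mod L S) {t : G} (ht : t ∈ normalizer (L : Set G)) (htt : t * t = 1)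
    (h5 : 5 ≤ (fixIn S (M.φ t)).card) : AltType (M.cmp t) (fixIn S (M.φ t)).card := by
  obtain ⟨e⟩ := RedAlt.quot_cmp M ht htt h5
  exact RedAlt.isAlt_of_equiv e

/-- the 2-components of `C_N(t)`, `t ∈ N` an involution of the 2-component `N` of type `A₇` or `A₉`, are not of
type `A₇` -/
theorem no_seven {X N F : Subgroup G} (hN : IsComp X N) {m : ℕ} (hm : m = 7 ∨ m = 9)
    (hA : AltType N m) {t : G} (htN : t ∈ N) (htt : t * t = 1) (ht1 : t ≠ 1)
    (hF : IsComp (N ⊓ centralizer ({t} : Set G)) F) (hF7 : AltType F 7) : False := by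
  obtain ⟨MN⟩ := hA.mod_of_card (S := (Finset.univ : Finset (Fin m))) (by simp) (by omega)
  obtain ⟨h1, h2⟩ := (MN.isComp_iff_cmp (le_normalizer htN) htt).mp hF
  have h3 := altType_cmp MN (le_normalizer htN) htt h2
  rw [← h1] at h3
  have h4 := h3.unique hF7 (by omega) (by norm_num)
  have hcard : (Finset.univ : Finset (Fin m)).card = m := by simp
  rcases hm with rfl | rfl
  · -- trivial
    have h5 : MN.φ t = 1 := by
      have h6 : fixIn (Finset.univ : Finset (Fin 7)) (MN.φ t) = Finset.univ :=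
        Finset.eq_of_subset_of_card_le (fixIn_subset _ _) (by rw [h4, hcard])
      ext p
      have h7 : p ∈ fixIn (Finset.univ : Finset (Fin 7)) (MN.φ t) := by rw [h6]; simp
      rw [(mem_fixIn.mp h7).2, one_apply]
    exact ht1 (eq_one_of_mem_core_sq ((MN.core_iff t htN).mp h5) htt)
  · exact not_alt_of_seven (MN.mem_alt t htN) (by rw [h4, hcard])

/-- data of section 2 at the root `r` -/
structure Dat (x a : G) (M : Mod L S) (r : G) (K : Subgroup G) : Prop where
  tri : IsTriple x a L
  card : S.card = 9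
  rt : M.Rt r
  comp : IsComp (centralizer ({r} : Set G)) K
  le : M.cmp r ≤ K
  seven : AltType K 7

section dat

variable {x a r : G} {M : Mod L S} {K : Subgroup G} (D : Dat x a M r K)
include D

theorem Dat.ra : r * a = a * r := comm_c (D.tri.comp.le D.rt.mem)

theorem Dat.aa : a * a = 1 := sq_of_order D.tri.inva

theorem Dat.isComp_cmp : IsComp (centralizer ({a} : Set G) ⊓ centralizer ({r} : Set G)) (M.cmp r) :=
  M.isComp_cmp_of D.tri.comp (le_normalizer D.rt.mem) D.rt.sq (by rw [card_fix_root D.card D.rt])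

theorem Dat.cmp_comm {y : G} (hy : y ∈ M.cmp r) : y * a = a * y := comm_c (D.isComp_cmp.le hy).1

/-- an element of `C(r)` normalizing `L` normalizes `K` -/
theorem Dat.norm {g : G} (hgL : g ∈ normalizer (L : Set G)) (hgr : g * r = r * g) :
    g ∈ normalizer (K : Set G) :=
  mem_normalizer_of_le D.comp D.isComp_cmp D.le (mem_c hgr) (norm_cmp D.card D.rt hgL hgr)

theorem Dat.aL : Fixes a L := fixes_self' D.tri.comp.le

theorem Dat.aK : a ∈ normalizer (K : Set G) := D.norm D.aL.1 D.ra.symm

theorem Dat.isComp_inf : IsComp (K ⊓ centralizer ({a} : Set G)) (M.cmp r) := by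
  refine D.isComp_cmp.restrict ?_ (le_inf D.le (D.isComp_cmp.le.trans inf_le_left))
  rw [inf_comm]
  exact inf_le_inf_left _ D.comp.le

end dat

section mod

variable {x a r : G} {M : Mod L S} {K : Subgroup G} (D : Dat x a M r K)
  {β : Type*} [Fintype β] [DecidableEq β] {S' : Finset β} (MK : Mod K S') (h7 : S'.card = 7)
include D

theorem Dat.cmp_eq : M.cmp r = MK.cmp a ∧ 5 ≤ (fixIn S' (MK.φ a)).card :=
  (MK.isComp_iff_cmp D.aK D.aa).mp D.isComp_inf

/-- `a` acts on `K` as a transposition -/
theorem Dat.card_fix : (fixIn S' (MK.φ a)).card = 5 := by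
  obtain ⟨h1, h2⟩ := D.cmp_eq MK
  have h3 := altType_cmp MK D.aK D.aa h2
  have h4 := altType_cmp M (le_normalizer D.rt.mem) D.rt.sq (by rw [card_fix_root D.card D.rt])
  rw [card_fix_root D.card D.rt] at h4
  rw [← h1] at h3
  exact h3.unique h4 (by omega) (by norm_num)

include h7 in
/-- an element of `C(a) ∩ C(r)` fixing `L` acts on `K` as `1` or `a` -/
theorem Dat.eq_or {q : G} (hqa : q * a = a * q) (hqr : q * r = r * q) (hq : Fixes q L) :
    MK.φ q = 1 ∨ MK.φ q = MK.φ a := by
  have hqK := D.norm hq.1 hqr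
  have h5 := D.card_fix MK
  refine eq_or_of_five (MK.mem_sym a D.aK) (MK.mem_sym q hqK) (by rw [h5, h7]) ?_
  have h1 : Fixes q (M.cmp r) := by
    refine M.fixes_cmp D.tri.comp (le_normalizer D.rt.mem) D.rt.sq
      (by rw [card_fix_root D.card D.rt]) (mem_c hqa) hq.1 (mem_c hqr) fun p _ => ?_
    rw [(M.fixes_iff hq.1).mpr hq, one_apply]
  rw [(D.cmp_eq MK).1] at h1
  intro p hp
  exact MK.apply_of_fixes_cmp D.aK D.aa (by rw [h5]) hqK h1 hp

end mod

end Seven

end Cfsg.Agent.UGT.A9
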