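import Cfsg.Agent.UGT.A9.Set
import Cfsg.Agent.UGT.A9.Iso
import Cfsg.Agent.UGT.A9.Seven1
import Cfsg.Agent.UAlt.NBal

/-!
# NodeA9: from one root to all roots

* `Sgl.cj`, `Dbl.cj`: conjugation by members of `L`.
* `exists_KI`: `K_v` of type `A₅` has the labels `KI`.
* `iso9_of_root`, `seven9_of_root`: `Iso9 M`, `Seven9 M` from one root.
* `exists_root_K`: a root `r` of `L` with `K_r`.
-/

set_option autoImplicit false
set_option linter.unusedSectionVars false

open Cfsg Subgroup Equiv Equiv.Perm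
open Cfsg.Agent.SignalizersComponents Cfsg.Agent.Lib
open Cfsg.Agent.SignalizersComponents.IntrinsicBasic
open Cfsg.Agent.Intrinsic Cfsg.Agent.Intrinsic.Basic Cfsg.Agent.Intrinsic.Cen Cfsg.Agent.Intrinsic.Diag
open Cfsg.Agent.UAlt Cfsg.Agent.UGT.Triple Cfsg.Agent.UGT.A9.Dg
open scoped commutatorElement

namespace Cfsg.Agent.UGT.A9

variable {G : Type*} [Group G] [Finite G] {α : Type*} [Fintype α] [DecidableEq α]
  {L : Subgroup G} {S : Finset α} {M : Mod L S} {x a v w : G} {K : Subgroup G}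

theorem cmp_conj_root (h9 : S.card = 9) (hv : M.Rt v) {l : G} (hl : l ∈ L) :
    M.cmp (l * v * l⁻¹) = cj l (M.cmp v) :=
  M.cmp_conj (le_normalizer hl) (le_normalizer hv.mem) hv.sq (by rw [card_fix_root h9 hv])

theorem Sgl.cj (h9 : S.card = 9) (hv : M.Rt v) (h : Sgl M a v K) {l : G} (hl : l ∈ L)
    (hla : l * a = a * l) : Sgl M a (l * v * l⁻¹) (cj l K) where
  comp := by
    have h1 := h.comp.cj l
    rwa [cj_centralizer] at h1
  norm := by
    rw [mem_normalizer_iff_cj, ← cj_mul, ← hla, cj_mul, mem_normalizer_iff_cj.mp h.norm]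
  le := by
    rw [cmp_conj_root h9 hv hl]
    exact cj_mono h.le

/-- the type of `C_L(v)^∞` -/
theorem altType_cmp_root (h9 : S.card = 9) (hv : M.Rt v) : AltType (M.cmp v) 5 := by
  have h1 := M.altType_cmp (le_normalizer hv.mem) hv.sq (by rw [card_fix_root h9 hv])
  rwa [card_fix_root h9 hv] at h1

theorem exists_KI (h9 : S.card = 9) (hv : M.Rt v) (hK : IsComp (centralizer ({v} : Set G)) K)
    (hle : M.cmp v ≤ K) (hA : AltType K 5) : ∃ Mv : Mod K (fixIn S (M.φ v)), KI M v K Mv := by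
  have h5 := card_fix_root h9 hv
  obtain ⟨ME, hME⟩ := M.exists_cmp_five (le_normalizer hv.mem) hv.sq (by omega) (by omega)
  have hs := cover_of_card hle ((altType_cmp_root h9 hv).card_eq hA)
  obtain ⟨Mv, hMv⟩ := ME.exists_extend_five (by omega) (by omega) hs
  exact ⟨Mv, hK, hle, fun y hy => by rw [hMv y hy, hME y hy]⟩

theorem iso9_of_root (h9 : S.card = 9) (hv : M.Rt v) (hK : IsComp (centralizer ({v} : Set G)) K)
    (hle : M.cmp v ≤ K) (hA : AltType K 5) : Iso9 M := by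
  refine ⟨h9, fun u hu => ?_⟩
  obtain ⟨l, hl, rfl⟩ := hv.conj hu
  have h1 := hK.cj l
  rw [cj_centralizer] at h1
  refine ⟨cj l K, exists_KI h9 hu h1 ?_ (hA.cj l)⟩
  rw [cmp_conj_root h9 hv hl]
  exact cj_mono hle

theorem seven9_of_root (h9 : S.card = 9) (hv : M.Rt v) (hK : IsComp (centralizer ({v} : Set G)) K)
    (hle : M.cmp v ≤ K) (hA : AltType K 7) : Seven9 M := by
  refine ⟨h9, fun u hu => ?_⟩
  obtain ⟨l, hl, rfl⟩ := hv.conj hu
  have h1 := hK.cj l
  rw [cj_centralizer] at h1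
  refine ⟨cj l K, h1, ?_, hA.cj l⟩
  rw [cmp_conj_root h9 hv hl]
  exact cj_mono hle

/-- a root of `L` with its pump-up -/
theorem exists_root_K (T : IsTriple x a L) (M : Mod L S) (h9 : S.card = 9) :
    ∃ r K, M.Rt r ∧ r * x = x * r ∧ fixIn S (M.φ x) ⊆ fixIn S (M.φ r) ∧ IsTriple x r K ∧
      (Sgl M a r K ∨ Dbl M a r K) := by
  obtain ⟨X, V, hV, hdis, hc⟩ := M.exists_good T (by omega)
  obtain ⟨r, hr, hr1⟩ := hV.exists_ne
  have hR := hV.rt hr hr1
  have hrL := hV.le hr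
  have hrx : r * x = x * r := hc r hr x (mem_zpowers x)
  have hfx : fixIn S (M.φ x) ⊆ fixIn S (M.φ r) := fun y hy => by
    rw [mem_fixIn]
    exact ⟨(mem_fixIn.mp hy).1, (hV.root hr hr1).apply_eq fun h' => Finset.disjoint_left.mp hdis h' hy⟩
  obtain ⟨K, hK, hor⟩ := exists_K T M hR.root.order (comm_of_triple T hrL) hrx (le_normalizer hrL) hfx
    (by rw [card_fix_root h9 hR])
  exact ⟨r, K, hR, hrx, hfx, hK, hor⟩

end Cfsg.Agent.UGT.A9
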