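import Cfsg.Agent.UGT.A7.Swap
import Cfsg.Agent.GH.Rank

/-!
# `D₈ wr 2` and `⟨a⟩ × (D₈ wr 2)`

`Wr M T P R u v`: `M = (P × R) . 2`, `P`, `R` nonabelian of order 8 with central involutions `u`, `v`, the members of
`M` outside `T = P × R` interchange `u` and `v` (`D₈ wr 2`, a Sylow 2-subgroup of `S₈` and of `S₉`).

`Ax a S M T P R u v`: `S = ⟨a⟩ × M`. Elements `y` normalising `S`: `y a y⁻¹ ∈ {a, a u v}`, `y` permutes `{u, v}`.
-/

set_option autoImplicit false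

namespace Cfsg.Agent.UGT.A9

open Subgroup Cfsg Cfsg.Agent.UGT.A7 Cfsg.Agent.TwoFusion.SectionalRank

variable {G : Type*} [Group G]

/-- `M = (P × R) . 2`, `T = P × R` -/
structure Wr (M T P R : Subgroup G) (u v : G) : Prop where
  le : T ≤ M
  idx : T.relIndex M = 2
  hP : EightS P u
  hR : EightS R v
  two : TwoP T P R
  nrm : ∀ m ∈ M, ∀ t ∈ T, m * t * m⁻¹ ∈ T
  sw : ∀ m ∈ M, m ∉ T → m * u * m⁻¹ = v ∧ m * v * m⁻¹ = u

namespace Wr

variable {M T P R : Subgroup G} {u v : G} (h : Wr M T P R u v)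
include h

theorem uT : u ∈ T := h.two.PT h.hP.mem

theorem vT : v ∈ T := h.two.RT h.hR.mem

theorem uM : u ∈ M := h.le h.uT

theorem vM : v ∈ M := h.le h.vT

theorem uv : u * v = v * u := h.two.comm u h.hP.mem v h.hR.mem

theorem ne : u ≠ v := fun e => h.hP.ne (h.two.inf u h.hP.mem (e ▸ h.hR.mem))

theorem exists_m : ∃ m ∈ M, m ∉ T := by
  by_contra hc
  push Not at hc
  have h1 : T.relIndex M = 1 := relIndex_eq_one.2 hc
  rw [h.idx] at h1
  omega

theorem uT_comm {t : G} (ht : t ∈ T) : t * u = u * t := by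
  obtain ⟨p, hp, r, hr, rfl⟩ := h.two.sup t ht
  rw [mul_assoc, ← h.two.comm u h.hP.mem r hr, ← mul_assoc, ← h.hP.cen p hp, mul_assoc]

theorem vT_comm {t : G} (ht : t ∈ T) : t * v = v * t := by
  obtain ⟨p, hp, r, hr, rfl⟩ := h.two.sup t ht
  rw [mul_assoc, ← h.hR.cen r hr, ← mul_assoc, h.two.comm p hp v h.hR.mem, mul_assoc]

theorem uv_comm {m : G} (hm : m ∈ M) : m * (u * v) = u * v * m := by
  by_cases hmT : m ∈ T
  · rw [← mul_assoc, h.uT_comm hmT, mul_assoc, h.vT_comm hmT, mul_assoc]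
  · obtain ⟨h1, h2⟩ := h.sw m hm hmT
    rw [← mul_inv_eq_iff_eq_mul]
    calc m * (u * v) * m⁻¹ = (m * u * m⁻¹) * (m * v * m⁻¹) := by group
      _ = u * v := by rw [h1, h2, h.uv]

/-- commutators of `P` -/
theorem exists_comm_u : ∃ p ∈ P, ∃ q ∈ P, p * q * p⁻¹ * q⁻¹ = u := by
  obtain ⟨p, hp, q, hq, hpq⟩ := h.hP.nab
  refine ⟨p, hp, q, hq, (h.hP.com p hp q hq).resolve_left fun h1 => hpq ?_⟩
  rw [mul_inv_eq_one, mul_inv_eq_iff_eq_mul] at h1
  exact h1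

theorem exists_comm_v : ∃ p ∈ R, ∃ q ∈ R, p * q * p⁻¹ * q⁻¹ = v := by
  obtain ⟨p, hp, q, hq, hpq⟩ := h.hR.nab
  refine ⟨p, hp, q, hq, (h.hR.com p hp q hq).resolve_left fun h1 => hpq ?_⟩
  rw [mul_inv_eq_one, mul_inv_eq_iff_eq_mul] at h1
  exact h1

/-- the sectional rank -/
theorem rank [Finite G] : SectionalPRankLE 2 4 M := by
  rw [sectionalPRankLE_iff]
  intro X Y hXY
  have h1 := hXY.map M.subtype
  have h2 := card_le_swap h.hP h.hR h.two (le_of_eq h.idx) (by rw [h.idx]; norm_num) h.nrm h.sw h1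
    (map_subtype_le X)
  rwa [card_map_of_injective M.subtype_injective, card_map_of_injective M.subtype_injective] at h2

/-- a product `p r`, `p ∈ P`, `r ∈ R` whose conjugates under `M` are two elements -/
theorem eq_of_two {w w' : G} (hw : w ∈ T) (hcl : ∀ m ∈ M, m * w * m⁻¹ = w ∨ m * w * m⁻¹ = w')
    (hnc : ∃ m ∈ M, m * w ≠ w * m) : w = u ∨ w = v := by
  obtain ⟨p, hp, r, hr, rfl⟩ := h.two.sup w hw
  obtain ⟨m, hm, hmT⟩ := h.exists_m
  obtain ⟨hs1, hs2⟩ := h.sw m hm hmT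
  have hcomm := h.two.comm
  -- `p` is central
  have hpc : ∀ q ∈ P, p * q = q * p := by
    by_contra hc
    push Not at hc
    obtain ⟨q, hq, hpq⟩ := hc
    have hqM := h.le (h.two.PT hq)
    have e1 : q * (p * r) * q⁻¹ = u * (p * r) := by
      have h1 : q * p * q⁻¹ * p⁻¹ = u := (h.hP.com q hq p hp).resolve_left fun h1 => by
        rw [mul_inv_eq_one, mul_inv_eq_iff_eq_mul] at h1
        exact hpq h1.symm
      calc q * (p * r) * q⁻¹ = q * p * (r * q⁻¹) := by group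
        _ = q * p * (q⁻¹ * r) := by rw [hcomm q⁻¹ (P.inv_mem hq) r hr]
        _ = (q * p * q⁻¹ * p⁻¹) * (p * r) := by group
        _ = _ := by rw [h1]
    have e1' : u * (p * r) ≠ p * r := fun h1 => h.hP.ne (by
      have := mul_right_cancel (h1.trans (one_mul (p * r)).symm)
      exact this)
    have hw' : w' = u * (p * r) := by
      rcases hcl q hqM with h1 | h1
      · exact absurd (e1.symm.trans h1) e1'
      · rw [← h1, e1]
    subst hw'
    -- `r` is central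
    have hrc : ∀ s ∈ R, r * s = s * r := by
      intro s hs
      have e2 : s * (p * r) * s⁻¹ = (s * r * s⁻¹ * r⁻¹) * (p * r) := by
        calc s * (p * r) * s⁻¹ = (s * p) * r * s⁻¹ := by group
          _ = (p * s) * r * s⁻¹ := by rw [hcomm p hp s hs]
          _ = p * (s * r * s⁻¹ * r⁻¹) * r := by group
          _ = (s * r * s⁻¹ * r⁻¹) * p * r := by
            rw [hcomm p hp (s * r * s⁻¹ * r⁻¹)
              (R.mul_mem (R.mul_mem (R.mul_mem hs hr) (R.inv_mem hs)) (R.inv_mem hr))]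
          _ = _ := by rw [mul_assoc]
      rcases hcl s (h.le (h.two.RT hs)) with h1 | h1
      · rw [e2, mul_eq_right, mul_inv_eq_one, mul_inv_eq_iff_eq_mul] at h1
        exact h1.symm
      · rw [e2] at h1
        have h2 := mul_right_cancel h1
        exfalso
        have h3 : u ∈ R := h2 ▸
          (R.mul_mem (R.mul_mem (R.mul_mem hs hr) (R.inv_mem hs)) (R.inv_mem hr))
        exact h.hP.ne (h.two.inf u h.hP.mem h3)
    -- conjugate the relation `[q, w] = u` by `m`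
    have hmq : m * q * m⁻¹ ∈ T := h.nrm m hm q (h.two.PT hq)
    obtain ⟨p2, hp2, r2, hr2, e2⟩ := h.two.sup _ hmq
    have e3 : (m * q * m⁻¹) * (m * (p * r) * m⁻¹) * (m * q * m⁻¹)⁻¹ * (m * (p * r) * m⁻¹)⁻¹ = v := by
      calc (m * q * m⁻¹) * (m * (p * r) * m⁻¹) * (m * q * m⁻¹)⁻¹ * (m * (p * r) * m⁻¹)⁻¹
          = m * ((q * (p * r) * q⁻¹) * (p * r)⁻¹) * m⁻¹ := by group
        _ = v := by rw [e1, mul_inv_cancel_right, hs1]
    have e4 : (m * q * m⁻¹) * (m * (p * r) * m⁻¹) * (m * q * m⁻¹)⁻¹ * (m * (p * r) * m⁻¹)⁻¹ =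
        (p2 * r2) * (p * r) * (p2 * r2)⁻¹ * (p * r)⁻¹ := by
      rcases hcl m hm with h1 | h1
      · rw [h1, e2]
      · rw [h1, e2]
        have h3 : (p2 * r2) * u = u * (p2 * r2) := by
          rw [← e2]; exact h.uT_comm hmq
        calc p2 * r2 * (u * (p * r)) * (p2 * r2)⁻¹ * (u * (p * r))⁻¹
            = (p2 * r2 * u) * (p * r) * (p2 * r2)⁻¹ * (p * r)⁻¹ * u⁻¹ := by group
          _ = u * (p2 * r2 * (p * r) * (p2 * r2)⁻¹ * (p * r)⁻¹) * u⁻¹ := by rw [h3]; group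
          _ = _ := by
            rw [mul_inv_eq_iff_eq_mul]
            have hx : p2 * r2 * (p * r) * (p2 * r2)⁻¹ * (p * r)⁻¹ ∈ T := by
              have h4 : p2 * r2 ∈ T := e2 ▸ hmq
              exact T.mul_mem (T.mul_mem (T.mul_mem h4 hw) (T.inv_mem h4)) (T.inv_mem hw)
            exact (h.uT_comm hx).symm
    have e5 : (p2 * r2) * (p * r) * (p2 * r2)⁻¹ * (p * r)⁻¹ = p2 * p * p2⁻¹ * p⁻¹ := by
      have c1 := hcomm p hp r2 hr2
      have c2 := hrc r2 hr2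
      have c3 : r2⁻¹ * r⁻¹ = r⁻¹ * r2⁻¹ := by rw [← mul_inv_rev, ← mul_inv_rev, c2]
      calc (p2 * r2) * (p * r) * (p2 * r2)⁻¹ * (p * r)⁻¹
          = p2 * (r2 * p) * r * (r2⁻¹ * p2⁻¹) * (r⁻¹ * p⁻¹) := by group
        _ = p2 * (p * r2) * r * (r2⁻¹ * p2⁻¹) * (r⁻¹ * p⁻¹) := by rw [c1]
        _ = p2 * p * (r2 * r * r2⁻¹) * p2⁻¹ * (r⁻¹ * p⁻¹) := by group
        _ = p2 * p * r * p2⁻¹ * (r⁻¹ * p⁻¹) := by rw [← c2, mul_inv_cancel_right]
        _ = p2 * p * (r * p2⁻¹) * (r⁻¹ * p⁻¹) := by group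
        _ = p2 * p * (p2⁻¹ * r) * (r⁻¹ * p⁻¹) := by rw [hcomm p2⁻¹ (P.inv_mem hp2) r hr]
        _ = _ := by group
    rw [e4, e5] at e3
    have h6 : v ∈ P := e3 ▸
      (P.mul_mem (P.mul_mem (P.mul_mem hp2 hp) (P.inv_mem hp2)) (P.inv_mem hp))
    exact h.hR.ne (h.two.inf v h6 h.hR.mem)
  -- `r` is central, by the same argument
  have hrc : ∀ q ∈ R, r * q = q * r := by
    by_contra hc
    push Not at hc
    obtain ⟨q, hq, hpq⟩ := hc
    have hqM := h.le (h.two.RT hq)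
    have e1 : q * (p * r) * q⁻¹ = v * (p * r) := by
      have h1 : q * r * q⁻¹ * r⁻¹ = v := (h.hR.com q hq r hr).resolve_left fun h1 => by
        rw [mul_inv_eq_one, mul_inv_eq_iff_eq_mul] at h1
        exact hpq h1.symm
      calc q * (p * r) * q⁻¹ = (q * p) * r * q⁻¹ := by group
        _ = (p * q) * r * q⁻¹ := by rw [hcomm p hp q hq]
        _ = p * (q * r * q⁻¹ * r⁻¹) * r := by group
        _ = p * v * r := by rw [h1]
        _ = v * (p * r) := by rw [hcomm p hp v h.hR.mem, mul_assoc]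
    have e1' : v * (p * r) ≠ p * r := fun h1 => h.hR.ne
      (mul_right_cancel (h1.trans (one_mul (p * r)).symm))
    have hw' : w' = v * (p * r) := by
      rcases hcl q hqM with h1 | h1
      · exact absurd (e1.symm.trans h1) e1'
      · rw [← h1, e1]
    subst hw'
    have hmq : m * q * m⁻¹ ∈ T := h.nrm m hm q (h.two.RT hq)
    obtain ⟨p2, hp2, r2, hr2, e2⟩ := h.two.sup _ hmq
    have e3 : (m * q * m⁻¹) * (m * (p * r) * m⁻¹) * (m * q * m⁻¹)⁻¹ * (m * (p * r) * m⁻¹)⁻¹ = u := by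
      calc (m * q * m⁻¹) * (m * (p * r) * m⁻¹) * (m * q * m⁻¹)⁻¹ * (m * (p * r) * m⁻¹)⁻¹
          = m * ((q * (p * r) * q⁻¹) * (p * r)⁻¹) * m⁻¹ := by group
        _ = u := by rw [e1, mul_inv_cancel_right, hs2]
    have e4 : (m * q * m⁻¹) * (m * (p * r) * m⁻¹) * (m * q * m⁻¹)⁻¹ * (m * (p * r) * m⁻¹)⁻¹ =
        (p2 * r2) * (p * r) * (p2 * r2)⁻¹ * (p * r)⁻¹ := by
      rcases hcl m hm with h1 | h1
      · rw [h1, e2]
      · rw [h1, e2]
        have h3 : (p2 * r2) * v = v * (p2 * r2) := by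
          rw [← e2]; exact h.vT_comm hmq
        calc p2 * r2 * (v * (p * r)) * (p2 * r2)⁻¹ * (v * (p * r))⁻¹
            = (p2 * r2 * v) * (p * r) * (p2 * r2)⁻¹ * (p * r)⁻¹ * v⁻¹ := by group
          _ = v * (p2 * r2 * (p * r) * (p2 * r2)⁻¹ * (p * r)⁻¹) * v⁻¹ := by rw [h3]; group
          _ = _ := by
            rw [mul_inv_eq_iff_eq_mul]
            have hx : p2 * r2 * (p * r) * (p2 * r2)⁻¹ * (p * r)⁻¹ ∈ T := by
              have h4 : p2 * r2 ∈ T := e2 ▸ hmq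
              exact T.mul_mem (T.mul_mem (T.mul_mem h4 hw) (T.inv_mem h4)) (T.inv_mem hw)
            exact (h.vT_comm hx).symm
    have e5 : (p2 * r2) * (p * r) * (p2 * r2)⁻¹ * (p * r)⁻¹ = r2 * r * r2⁻¹ * r⁻¹ := by
      have c1 := hcomm p hp r2 hr2
      have c2 := hpc p2 hp2
      have c4 : (r2 * r * r2⁻¹) * p2⁻¹ = p2⁻¹ * (r2 * r * r2⁻¹) :=
        (hcomm p2⁻¹ (P.inv_mem hp2) _ (R.mul_mem (R.mul_mem hr2 hr) (R.inv_mem hr2))).symm
      have c5 : (r2 * r * r2⁻¹ * r⁻¹) * p⁻¹ = p⁻¹ * (r2 * r * r2⁻¹ * r⁻¹) :=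
        (hcomm p⁻¹ (P.inv_mem hp) _ (R.mul_mem (R.mul_mem (R.mul_mem hr2 hr) (R.inv_mem hr2))
          (R.inv_mem hr))).symm
      calc (p2 * r2) * (p * r) * (p2 * r2)⁻¹ * (p * r)⁻¹
          = p2 * (r2 * p) * r * (r2⁻¹ * p2⁻¹) * (r⁻¹ * p⁻¹) := by group
        _ = p2 * (p * r2) * r * (r2⁻¹ * p2⁻¹) * (r⁻¹ * p⁻¹) := by rw [c1]
        _ = p2 * p * ((r2 * r * r2⁻¹) * p2⁻¹) * (r⁻¹ * p⁻¹) := by group
        _ = p2 * p * (p2⁻¹ * (r2 * r * r2⁻¹)) * (r⁻¹ * p⁻¹) := by rw [c4]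
        _ = (p2 * p * p2⁻¹) * ((r2 * r * r2⁻¹ * r⁻¹) * p⁻¹) := by group
        _ = p * (p⁻¹ * (r2 * r * r2⁻¹ * r⁻¹)) := by rw [← c2, mul_inv_cancel_right, c5]
        _ = _ := by group
    rw [e4, e5] at e3
    have h6 : u ∈ R := e3 ▸
      (R.mul_mem (R.mul_mem (R.mul_mem hr2 hr) (R.inv_mem hr2)) (R.inv_mem hr))
    exact h.hP.ne (h.two.inf u h.hP.mem h6)
  rcases h.hP.cen' p hp hpc with rfl | rfl <;> rcases h.hR.cen' r hr hrc with rfl | rfl
  · obtain ⟨m', -, hm'⟩ := hnc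
    exact absurd (by rw [mul_one, mul_one, one_mul]) hm'
  · exact Or.inr (one_mul _)
  · exact Or.inl (mul_one _)
  · obtain ⟨m', hm'M, hm'⟩ := hnc
    exact absurd (h.uv_comm hm'M) hm'

/-- the centre -/
theorem center {c : G} (hc : c ∈ M) (hcc : ∀ m ∈ M, m * c = c * m) : c = 1 ∨ c = u * v := by
  have hcT : c ∈ T := by
    by_contra hcT
    have h1 := (h.sw c hc hcT).1
    rw [← hcc u h.uM, mul_inv_cancel_right] at h1
    exact h.ne h1
  obtain ⟨p, hp, r, hr, rfl⟩ := h.two.sup c hcT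
  obtain ⟨m, hm, hmT⟩ := h.exists_m
  obtain ⟨hs1, hs2⟩ := h.sw m hm hmT
  have hpc : ∀ q ∈ P, p * q = q * p := by
    intro q hq
    have h1 := hcc q (h.le (h.two.PT hq))
    have h2 := h.two.comm q hq r hr
    have h3 : q * p * r = p * q * r := by
      calc q * p * r = q * (p * r) := by group
        _ = p * (r * q) := by rw [h1]; group
        _ = p * q * r := by rw [← h2]; group
    exact (mul_right_cancel h3).symm
  have hrc : ∀ q ∈ R, r * q = q * r := by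
    intro q hq
    have h1 := hcc q (h.le (h.two.RT hq))
    have h2 := h.two.comm p hp q hq
    have h3 : p * (q * r) = p * (r * q) := by
      calc p * (q * r) = (p * q) * r := by group
        _ = q * (p * r) := by rw [h2]; group
        _ = _ := by rw [h1]; group
    exact (mul_left_cancel h3).symm
  rcases h.hP.cen' p hp hpc with rfl | rfl <;> rcases h.hR.cen' r hr hrc with rfl | rfl
  · exact Or.inl (one_mul 1)
  · exfalso
    have h1 := hcc m hm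
    rw [one_mul] at h1
    rw [h1, mul_inv_cancel_right] at hs2
    exact h.ne hs2.symm
  · exfalso
    have h1 := hcc m hm
    rw [mul_one] at h1
    rw [h1, mul_inv_cancel_right] at hs1
    exact h.ne hs1
  · exact Or.inr rfl

end Wr

/-- `S = ⟨a⟩ × M` -/
structure Ax (a : G) (S M T P R : Subgroup G) (u v : G) : Prop where
  wr : Wr M T P R u v
  aa : a * a = 1
  le : M ≤ S
  aS : a ∈ S
  aM : a ∉ M
  cen : ∀ s ∈ S, s * a = a * s
  cov : ∀ s ∈ S, s ∈ M ∨ a * s ∈ M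

namespace Ax

variable {a : G} {S M T P R : Subgroup G} {u v : G} (h : Ax a S M T P R u v)
include h

theorem ai : a⁻¹ = a := inv_eq_of_mul_eq_one_left h.aa

/-- conjugation by `S` is conjugation by `M` -/
theorem exists_conj {s : G} (hs : s ∈ S) {w : G} (hw : w ∈ S) : ∃ m ∈ M, s * w * s⁻¹ = m * w * m⁻¹ := by
  rcases h.cov s hs with h1 | h1
  · exact ⟨s, h1, rfl⟩
  · refine ⟨a * s, h1, ?_⟩
    have h2 : s * w * s⁻¹ ∈ S := S.mul_mem (S.mul_mem hs hw) (S.inv_mem hs)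
    calc s * w * s⁻¹ = (s * w * s⁻¹) * a * a⁻¹ := by rw [mul_inv_cancel_right]
      _ = a * (s * w * s⁻¹) * a⁻¹ := by rw [h.cen _ h2]
      _ = _ := by group

theorem mem_of_comm {s t : G} (hs : s ∈ S) (ht : t ∈ S) : s * t * s⁻¹ * t⁻¹ ∈ T := by
  have key : ∀ s ∈ M, ∀ t ∈ M, s * t * s⁻¹ * t⁻¹ ∈ T := by
    intro s hs t ht
    have hn : (T.subgroupOf M).Normal := ⟨fun t ht m => h.wr.nrm m m.2 t ht⟩
    have hi : (T.subgroupOf M).index = 2 := h.wr.idx
    have h1 : (QuotientGroup.mk' (T.subgroupOf M)) (⟨s, hs⟩ * ⟨t, ht⟩ * ⟨s, hs⟩⁻¹ * ⟨t, ht⟩⁻¹) = 1 := by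
      have hc : ∀ x y : M ⧸ T.subgroupOf M, x * y = y * x := by
        have h2 : Nat.card (M ⧸ T.subgroupOf M) = 2 := hi
        have h3 : IsCyclic (M ⧸ T.subgroupOf M) := isCyclic_of_prime_card h2
        intro x y
        exact (IsCyclic.isMulCommutative (α := M ⧸ T.subgroupOf M)).is_comm.comm x y
      rw [map_mul, map_mul, map_mul, map_inv, map_inv, hc _ (QuotientGroup.mk' _ ⟨t, ht⟩)]
      group
    rw [QuotientGroup.mk'_apply, QuotientGroup.eq_one_iff] at h1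
    exact h1
  have cs := h.cen s hs
  have ct := h.cen t ht
  have as2 : ∀ y ∈ S, a * y ∈ S := fun y hy => S.mul_mem h.aS hy
  rcases h.cov s hs with h1 | h1 <;> rcases h.cov t ht with h2 | h2
  · exact key s h1 t h2
  · have h3 := key s h1 _ h2
    have h4 : s * (a * t) * s⁻¹ * (a * t)⁻¹ = s * t * s⁻¹ * t⁻¹ := by
      calc s * (a * t) * s⁻¹ * (a * t)⁻¹ = (s * a) * t * s⁻¹ * t⁻¹ * a⁻¹ := by group
        _ = a * (s * t * s⁻¹ * t⁻¹) * a⁻¹ := by rw [cs]; group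
        _ = (s * t * s⁻¹ * t⁻¹) * a * a⁻¹ := by
          rw [h.cen (s * t * s⁻¹ * t⁻¹)
            (S.mul_mem (S.mul_mem (S.mul_mem hs ht) (S.inv_mem hs)) (S.inv_mem ht))]
        _ = _ := by rw [mul_inv_cancel_right]
    rwa [h4] at h3
  · have h3 := key _ h1 t h2
    have h4 : a * s * t * (a * s)⁻¹ * t⁻¹ = s * t * s⁻¹ * t⁻¹ := by
      have h5 : a⁻¹ * t⁻¹ = t⁻¹ * a⁻¹ := by rw [← mul_inv_rev, ← mul_inv_rev, ct]
      calc a * s * t * (a * s)⁻¹ * t⁻¹ = a * (s * t * s⁻¹) * (a⁻¹ * t⁻¹) := by group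
        _ = a * (s * t * s⁻¹ * t⁻¹) * a⁻¹ := by rw [h5]; group
        _ = (s * t * s⁻¹ * t⁻¹) * a * a⁻¹ := by
          rw [h.cen (s * t * s⁻¹ * t⁻¹)
            (S.mul_mem (S.mul_mem (S.mul_mem hs ht) (S.inv_mem hs)) (S.inv_mem ht))]
        _ = _ := by rw [mul_inv_cancel_right]
    rwa [h4] at h3
  · have h3 := key _ h1 _ h2
    have h4 : a * s * (a * t) * (a * s)⁻¹ * (a * t)⁻¹ = s * t * s⁻¹ * t⁻¹ := by
      have h5 : a⁻¹ * t⁻¹ = t⁻¹ * a⁻¹ := by rw [← mul_inv_rev, ← mul_inv_rev, ct]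
      calc a * s * (a * t) * (a * s)⁻¹ * (a * t)⁻¹
          = a * (s * a) * t * s⁻¹ * (a⁻¹ * t⁻¹) * a⁻¹ := by group
        _ = a * (a * s) * t * s⁻¹ * (t⁻¹ * a⁻¹) * a⁻¹ := by rw [cs, h5]
        _ = (a * a) * (s * t * s⁻¹ * t⁻¹) * (a * a)⁻¹ := by group
        _ = _ := by rw [h.aa]; group
    rwa [h4] at h3

/-- the centre -/
theorem center {c : G} (hc : c ∈ S) (hcc : ∀ s ∈ S, s * c = c * s) :
    c = 1 ∨ c = u * v ∨ c = a ∨ c = a * (u * v) := by
  rcases h.cov c hc with h1 | h1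
  · rcases h.wr.center h1 (fun m hm => hcc m (h.le hm)) with h2 | h2
    · exact Or.inl h2
    · exact Or.inr (Or.inl h2)
  · have h3 : ∀ m ∈ M, m * (a * c) = a * c * m := by
      intro m hm
      have hmS := h.le hm
      rw [← mul_assoc, h.cen m hmS, mul_assoc, hcc m hmS, mul_assoc]
    have h4 : c = a * (a * c) := by rw [← mul_assoc, h.aa, one_mul]
    rcases h.wr.center h1 h3 with h2 | h2
    · right; right; left
      rw [h4, h2, mul_one]
    · right; right; right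
      rw [← h2]
      exact h4

section norm

variable {y : G} (hy : ∀ s ∈ S, y * s * y⁻¹ ∈ S) (hy' : ∀ s ∈ S, y⁻¹ * s * y ∈ S)
include hy hy'

/-- the derived group is invariant: an element of `S` which is a commutator -/
theorem conj_comm_mem {s t : G} (hs : s ∈ S) (ht : t ∈ S) : y * (s * t * s⁻¹ * t⁻¹) * y⁻¹ ∈ T := by
  have h1 := h.mem_of_comm (hy s hs) (hy t ht)
  convert h1 using 1
  group

theorem conj_u : y * u * y⁻¹ = u ∨ y * u * y⁻¹ = v := by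
  have W := h.wr
  obtain ⟨p, hp, q, hq, hpq⟩ := W.exists_comm_u
  have h1 : y * u * y⁻¹ ∈ T := by
    rw [← hpq]
    exact h.conj_comm_mem hy hy' (h.le (W.le (W.two.PT hp))) (h.le (W.le (W.two.PT hq)))
  obtain ⟨m, hm, hmT⟩ := W.exists_m
  refine W.eq_of_two (w' := y * v * y⁻¹) h1 ?_ ?_
  · intro m hm
    have h2 := hy' m (h.le hm)
    have h3 : m * (y * u * y⁻¹) * m⁻¹ = y * ((y⁻¹ * m * y) * u * (y⁻¹ * m * y)⁻¹) * y⁻¹ := by group
    obtain ⟨m', hm', h4⟩ := h.exists_conj h2 (h.le W.uM)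
    rw [h3, h4]
    by_cases h5 : m' ∈ T
    · left
      rw [W.uT_comm h5, mul_inv_cancel_right]
    · right
      rw [(W.sw m' hm' h5).1]
  · -- `y u y⁻¹` is not central
    by_contra hc
    push Not at hc
    have h2 := hy m (h.le hm)
    obtain ⟨m', hm', h4⟩ := h.exists_conj h2 (h.le (W.le h1))
    have h5 : y * (m * u * m⁻¹) * y⁻¹ = y * u * y⁻¹ := by
      calc y * (m * u * m⁻¹) * y⁻¹ = (y * m * y⁻¹) * (y * u * y⁻¹) * (y * m * y⁻¹)⁻¹ := by group
        _ = m' * (y * u * y⁻¹) * m'⁻¹ := h4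
        _ = _ := by rw [hc m' hm', mul_inv_cancel_right]
    have h6 : m * u * m⁻¹ = u := mul_left_cancel (mul_right_cancel h5)
    rw [(W.sw m hm hmT).1] at h6
    exact W.ne h6.symm

theorem conj_v : y * v * y⁻¹ = u ∨ y * v * y⁻¹ = v := by
  have W := h.wr
  obtain ⟨p, hp, q, hq, hpq⟩ := W.exists_comm_v
  have h1 : y * v * y⁻¹ ∈ T := by
    rw [← hpq]
    exact h.conj_comm_mem hy hy' (h.le (W.le (W.two.RT hp))) (h.le (W.le (W.two.RT hq)))
  obtain ⟨m, hm, hmT⟩ := W.exists_m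
  refine W.eq_of_two (w' := y * u * y⁻¹) h1 ?_ ?_
  · intro m hm
    have h2 := hy' m (h.le hm)
    have h3 : m * (y * v * y⁻¹) * m⁻¹ = y * ((y⁻¹ * m * y) * v * (y⁻¹ * m * y)⁻¹) * y⁻¹ := by group
    obtain ⟨m', hm', h4⟩ := h.exists_conj h2 (h.le W.vM)
    rw [h3, h4]
    by_cases h5 : m' ∈ T
    · left
      rw [W.vT_comm h5, mul_inv_cancel_right]
    · right
      rw [(W.sw m' hm' h5).2]
  · by_contra hc
    push Not at hc
    have h2 := hy m (h.le hm)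
    obtain ⟨m', hm', h4⟩ := h.exists_conj h2 (h.le (W.le h1))
    have h5 : y * (m * v * m⁻¹) * y⁻¹ = y * v * y⁻¹ := by
      calc y * (m * v * m⁻¹) * y⁻¹ = (y * m * y⁻¹) * (y * v * y⁻¹) * (y * m * y⁻¹)⁻¹ := by group
        _ = m' * (y * v * y⁻¹) * m'⁻¹ := h4
        _ = _ := by rw [hc m' hm', mul_inv_cancel_right]
    have h6 : m * v * m⁻¹ = v := mul_left_cancel (mul_right_cancel h5)
    rw [(W.sw m hm hmT).2] at h6
    exact W.ne h6

/-- `y a y⁻¹ ∈ {a, a u v}` -/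
theorem conj_a : y * a * y⁻¹ = a ∨ y * a * y⁻¹ = a * (u * v) := by
  have W := h.wr
  have h1 : ∀ s ∈ S, s * (y * a * y⁻¹) = y * a * y⁻¹ * s := by
    intro s hs
    have h2 := h.cen _ (hy' s hs)
    calc s * (y * a * y⁻¹) = y * ((y⁻¹ * s * y) * a) * y⁻¹ := by group
      _ = y * a * y⁻¹ * s := by rw [h2]; group
  have hTM : ∀ t ∈ T, t ∈ M := fun t ht => W.le ht
  rcases h.center (hy a h.aS) h1 with h2 | h2 | h2 | h2
  · exfalso
    have h3 : a = 1 := by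
      have : y * a * y⁻¹ = y * 1 * y⁻¹ := by rw [h2]; group
      exact mul_left_cancel (mul_right_cancel this)
    exact h.aM (h3 ▸ M.one_mem)
  · exfalso
    -- `a = y⁻¹ u v y` is a product of commutators
    have hc : ∀ w, (∃ p ∈ S, ∃ q ∈ S, p * q * p⁻¹ * q⁻¹ = w) → y⁻¹ * w * y ∈ T := by
      rintro w ⟨p, hp, q, hq, rfl⟩
      have h3 := h.mem_of_comm (hy' p hp) (hy' q hq)
      convert h3 using 1
      group
    obtain ⟨p, hp, q, hq, hpq⟩ := W.exists_comm_u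
    obtain ⟨p', hp', q', hq', hpq'⟩ := W.exists_comm_v
    have h3 := hc u ⟨p, h.le (W.le (W.two.PT hp)), q, h.le (W.le (W.two.PT hq)), hpq⟩
    have h4 := hc v ⟨p', h.le (W.le (W.two.RT hp')), q', h.le (W.le (W.two.RT hq')), hpq'⟩
    have h5 := T.mul_mem h3 h4
    have h6 : y⁻¹ * u * y * (y⁻¹ * v * y) = a := by
      calc y⁻¹ * u * y * (y⁻¹ * v * y) = y⁻¹ * (u * v) * y := by group
        _ = a := by rw [← h2]; group
    rw [h6] at h5
    exact h.aM (W.le h5)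
  · exact Or.inl h2
  · exact Or.inr h2

end norm

end Ax

end Cfsg.Agent.UGT.A9
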